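import Groth.Agent.Adic.CV.SatMod
import Groth.Agent.RegLoc.AdicNoeth
import Mathlib.RingTheory.Polynomial.Basic
import Mathlib.RingTheory.Filtration
import Mathlib.RingTheory.AdicCompletion.Noetherian

/-!
Base rings of class (N) or (V): finiteness of saturated submodules, the Artin-Rees property and
completeness of finite modules.
-/

namespace Groth.Agent.Adic.CV

open AdicRing MvPolynomial

universe u v w

variable {R : Type u} [CommRing R] {I : Ideal R}

theorem fg_of_isBase (h : IsBase R I) : I.FG := by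
  obtain ⟨-, ⟨hN, -⟩ | ⟨-, -, -, t, -, rfl⟩⟩ := h
  · exact IsNoetherian.noetherian I
  · exact ⟨{t}, by simp⟩

/-- The (V) case, with its instances. -/
theorem classV_unfold {t : R} (hc : IsAdicComplete (Ideal.span {t}) R) (hd : IsDomain R) :
    ¬ IsUnit t := by
  intro hu
  rw [Ideal.span_singleton_eq_top.2 hu] at hc
  have : Subsingleton R := @IsAdicComplete.subsingleton R _ R _ _ hc
  exact false_of_nontrivial_of_subsingleton R

theorem isBase_cases (h : IsBase R I) :
    IsNoetherianRing R ∨ ∃ (_ : IsDomain R) (_ : ValuationRing R) (_ : Ring.KrullDimLE 1 R) (t : R),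
      t ≠ 0 ∧ ¬ IsUnit t ∧ I = Ideal.span {t} := by
  obtain ⟨hc, ⟨hN, -⟩ | ⟨hd, hv, hk, t, ht, rfl⟩⟩ := h
  · exact Or.inl hN
  · exact Or.inr ⟨hd, ValuationRing.mk, hk, t, ht, classV_unfold hc hd, rfl⟩

theorem isNoetherianRing_rpow [IsNoetherianRing R] (I : Ideal R) (n : ℕ) :
    IsNoetherianRing (RPow R I n) :=
  haveI := isNoetherianRing_of_surjective (MvPolynomial (Fin n) R)
    (MvPolynomial (Fin n) R ⧸ I.map (C : R →+* MvPolynomial (Fin n) R)) (Ideal.Quotient.mk _)
    Ideal.Quotient.mk_surjective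
  RegLoc.AdicNoeth.isNoetherianRing_adicCompletion _ (IsNoetherian.noetherian _)

theorem satFG_of_topFiniteType (h : IsBase R I) {A : Type u} [CommRing A] [Algebra R A]
    (hA : TopFiniteType R I A) : SatFG I A := by
  obtain ⟨n, φ, hφ⟩ := hA
  refine satFG_of_surjective φ hφ ?_
  rcases isBase_cases h with hN | ⟨_, _, _, t, ht, htu, rfl⟩
  · have := isNoetherianRing_rpow I n
    exact satFG_of_isNoetherianRing
  · exact satFG_rpow ht htu n

theorem isNoetherianRing_of_topFiniteType [IsNoetherianRing R] {A : Type v} [CommRing A]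
    [Algebra R A] (hA : TopFiniteType R I A) : IsNoetherianRing A := by
  obtain ⟨n, φ, hφ⟩ := hA
  have := isNoetherianRing_rpow I n
  exact isNoetherianRing_of_surjective _ _ φ.toRingHom hφ

section saturation

variable {A : Type*} {M : Type*} [CommRing A] [Algebra R A] [AddCommGroup M] [Module A M]
  [Module R M] [IsScalarTower R A M]

/-- The saturation of a submodule. -/
def saturation (I : Ideal R) (N : Submodule A M) : Submodule A M where
  carrier := {x | ∃ n, ∀ a ∈ I ^ n, a • x ∈ N}
  zero_mem' := ⟨0, fun a _ => by simp⟩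
  add_mem' := fun {x y} ⟨n, hn⟩ ⟨m, hm⟩ => ⟨max n m, fun a ha => by
    rw [smul_add]
    exact add_mem (hn a (Ideal.pow_le_pow_right (le_max_left n m) ha))
      (hm a (Ideal.pow_le_pow_right (le_max_right n m) ha))⟩
  smul_mem' := fun c x ⟨n, hn⟩ => ⟨n, fun a ha => by
    rw [smul_comm]; exact N.smul_mem c (hn a ha)⟩

theorem le_saturation (N : Submodule A M) : N ≤ saturation I N := fun x hx =>
  ⟨0, fun a _ => Submodule.smul_of_tower_mem N a hx⟩

theorem sat_saturation (hI : I.FG) (N : Submodule A M) : Sat I (saturation I N) := by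
  intro x n hx
  obtain ⟨s, hs⟩ := Submodule.FG.pow hI n
  choose! e he using fun a (ha : a ∈ s) => hx a (hs ▸ Ideal.subset_span ha)
  refine ⟨s.sup e + n, fun a ha => ?_⟩
  rw [pow_add] at ha
  refine Submodule.mul_induction_on ha (fun b hb c hc => ?_) fun b c hb hc => by
    rw [add_smul]; exact add_mem hb hc
  rw [← hs] at hc
  induction hc using Submodule.span_induction with
  | mem d hd =>
    rw [mul_smul]
    exact he d hd b (Ideal.pow_le_pow_right (Finset.le_sup hd) hb)
  | zero => simp
  | add d d' _ _ hd hd' => rw [mul_add, add_smul]; exact add_mem hd hd'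
  | smul r d _ hd => rw [smul_eq_mul, mul_left_comm, mul_smul]; exact Submodule.smul_of_tower_mem N r hd

/-- If the saturation is finitely generated, a fixed power of `I` multiplies it into `N`. -/
theorem exists_pow_saturation_le (N : Submodule A M) (h : (saturation I N).FG) :
    ∃ a : ℕ, ∀ x ∈ saturation I N, ∀ r ∈ I ^ a, r • x ∈ N := by
  obtain ⟨s, hs⟩ := h
  choose! e he using fun x (hx : x ∈ s) => (hs ▸ Submodule.subset_span hx : x ∈ saturation I N)
  refine ⟨s.sup e, fun x hx r hr => ?_⟩
  rw [← hs] at hx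
  induction hx using Submodule.span_induction with
  | mem d hd => exact he d hd r (Ideal.pow_le_pow_right (Finset.le_sup hd) hr)
  | zero => simp
  | add d d' _ _ hd hd' => rw [smul_add]; exact add_mem hd hd'
  | smul c d _ hd => rw [smul_comm]; exact N.smul_mem c hd

theorem artinRees_singleton {t : R} {N : Submodule A M} (h : (saturation (Ideal.span {t}) N).FG) :
    ∃ n₀ : ℕ, ∀ (m : ℕ) (x : M), x ∈ (Ideal.span {t} ^ (m + n₀) • ⊤ : Submodule R M) → x ∈ N →
      ∃ y ∈ N, x = t ^ m • y := by
  obtain ⟨a, ha⟩ := exists_pow_saturation_le N h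
  refine ⟨a, fun m x hx hxN => ?_⟩
  rw [Ideal.span_singleton_pow, Submodule.ideal_span_singleton_smul,
    Submodule.mem_smul_pointwise_iff_exists] at hx
  obtain ⟨y, -, rfl⟩ := hx
  have hy : y ∈ saturation (Ideal.span {t}) N := ⟨m + a, fun r hr => by
    rw [Ideal.span_singleton_pow, Ideal.mem_span_singleton'] at hr
    obtain ⟨b, rfl⟩ := hr
    rw [mul_smul]; exact Submodule.smul_of_tower_mem N b hxN⟩
  exact ⟨t ^ a • y, ha y hy _ (Ideal.pow_mem_pow (Ideal.mem_span_singleton_self t) a),
    by rw [smul_smul, ← pow_add]⟩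

end saturation

/-- Artin–Rees property. -/
theorem artinRees (h : IsBase R I) {A : Type u} [CommRing A] [Algebra R A]
    (hA : TopFiniteType R I A) (M : Type u) [AddCommGroup M] [Module A M] [Module R M]
    [IsScalarTower R A M] [Module.Finite A M] (N : Submodule A M) :
    ∃ n₀ : ℕ, ∀ m : ℕ,
      (I ^ (m + n₀) • (⊤ : Submodule R M)) ⊓ N.restrictScalars R ≤ I ^ m • N.restrictScalars R := by
  rcases isBase_cases h with hN | ⟨_, _, _, t, ht, htu, rfl⟩
  · have := isNoetherianRing_of_topFiniteType hA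
    obtain ⟨k, hk⟩ := Ideal.exists_pow_inf_eq_pow_smul (I.map (algebraMap R A)) N
    refine ⟨k, fun m x hx => ?_⟩
    have := hk (m + k) (by omega)
    have hx' : x ∈ (I.map (algebraMap R A)) ^ (m + k) • (⊤ : Submodule A M) ⊓ N := by
      refine ⟨?_, hx.2⟩
      rw [← Ideal.map_pow, SetLike.mem_coe, ← Submodule.restrictScalars_mem R,
        Ideal.smul_restrictScalars, Submodule.restrictScalars_top]
      exact hx.1
    rw [this, Nat.add_sub_cancel, ← Ideal.map_pow] at hx'
    have h2 : x ∈ (I ^ m).map (algebraMap R A) • N :=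
      Submodule.smul_mono le_rfl inf_le_right hx'
    rwa [← Submodule.restrictScalars_mem R, Ideal.smul_restrictScalars] at h2
  · obtain ⟨n₀, hn₀⟩ := artinRees_singleton
      (satFG_of_topFiniteType h hA M (saturation (Ideal.span {t}) N)
        (sat_saturation ⟨{t}, by simp⟩ N))
    refine ⟨n₀, fun m x hx => ?_⟩
    obtain ⟨y, hy, rfl⟩ := hn₀ m x hx.1 hx.2
    exact Submodule.smul_mem_smul (Ideal.pow_mem_pow (Ideal.mem_span_singleton_self t) m) hy

end Groth.Agent.Adic.CV
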