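import Mathlib.RingTheory.AdicCompletion.Algebra
import Mathlib.RingTheory.AdicCompletion.Completeness
import Mathlib.RingTheory.MvPolynomial.Basic
import Mathlib.RingTheory.Valuation.ValuationRing
import Mathlib.RingTheory.KrullDimension.Basic
import Mathlib.RingTheory.Nakayama
import Mathlib.RingTheory.Finiteness.Ideal
import Groth.Prelude.Def_W4bk4boschfrg79

/-!
Complete valuation rings of height one: basic lemmas on the rings of restricted power series,
completeness criteria for finitely generated submodules.
-/

namespace Groth.Agent.Adic.CV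

open AdicRing Pointwise

universe u v w

/-- `N ≤ G + tN`, with `G` finitely generated, forces `N ≤ G` when the ring is `t`-adically
precomplete and the module separated. -/
theorem le_of_le_sup_smul {A : Type u} {M : Type v} [CommRing A] [AddCommGroup M] [Module A M]
    (t : A) [IsPrecomplete (Ideal.span {t}) A] [IsHausdorff (Ideal.span {t}) M]
    {G N : Submodule A M} (hG : G.FG) (h : ∀ x ∈ N, ∃ g ∈ G, ∃ y ∈ N, x = g + t • y) :
    N ≤ G := by
  obtain ⟨r, v, hv⟩ := Submodule.fg_iff_exists_fin_generating_family.1 hG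
  have step : ∀ x : N, ∃ (a : Fin r → A) (y : N), (x : M) = (∑ i, a i • v i) + t • (y : M) := by
    rintro ⟨x, hx⟩
    obtain ⟨g, hg, y, hy, e⟩ := h x hx
    rw [← hv, Submodule.mem_span_range_iff_exists_fun] at hg
    obtain ⟨a, rfl⟩ := hg
    exact ⟨a, ⟨y, hy⟩, e⟩
  choose a y hay using step
  intro x hx
  let xs : ℕ → N := fun k => y^[k] ⟨x, hx⟩
  let s : ℕ → Fin r → A := fun k i => ∑ j ∈ Finset.range k, t ^ j * a (xs j) i
  have hs : ∀ k, x = (∑ i, s k i • v i) + t ^ k • (xs k : M) := by
    intro k
    induction k with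
    | zero => simp [s, xs]
    | succ k ih =>
      have e : xs (k + 1) = y (xs k) := Function.iterate_succ_apply' y k _
      conv_lhs => rw [ih, hay (xs k)]
      simp only [s, Finset.sum_range_succ, add_smul, Finset.sum_add_distrib, smul_add,
        Finset.smul_sum, smul_smul, ← pow_succ, e]
      abel
  have hcauchy : ∀ i, ∀ {m n : ℕ}, m ≤ n →
      s m i ≡ s n i [SMOD (Ideal.span {t} ^ m • ⊤ : Submodule A A)] := by
    intro i m n hmn
    rw [SModEq.sub_mem, Ideal.smul_top_eq_map, Algebra.algebraMap_self, Ideal.map_id,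
      Submodule.restrictScalars_self, Ideal.span_singleton_pow, Ideal.mem_span_singleton]
    simp only [s]
    rw [← Finset.sum_range_add_sum_Ico _ hmn, sub_add_cancel_left, dvd_neg]
    refine Finset.dvd_sum fun j hj => Dvd.dvd.mul_right (pow_dvd_pow t (Finset.mem_Ico.1 hj).1) _
  choose L hL using fun i => IsPrecomplete.prec inferInstance (f := fun k => s k i) (hcauchy i)
  suffices hx0 : x - ∑ i, L i • v i = 0 by
    rw [sub_eq_zero.1 hx0, ← hv]
    exact Submodule.mem_span_range_iff_exists_fun _ |>.2 ⟨L, rfl⟩
  refine IsHausdorff.haus inferInstance (I := Ideal.span {t}) _ fun k => ?_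
  rw [SModEq.sub_mem, sub_zero]
  have e : x - ∑ i, L i • v i = (∑ i, (s k i - L i) • v i) + t ^ k • (xs k : M) := by
    conv_lhs => rw [hs k]
    simp only [sub_smul, Finset.sum_sub_distrib]
    abel
  rw [e]
  have hpow : t ^ k ∈ Ideal.span {t} ^ k := Ideal.pow_mem_pow (Ideal.mem_span_singleton_self t) k
  refine add_mem (sum_mem fun i _ => ?_) (Submodule.smul_mem_smul hpow trivial)
  have := hL i k
  rw [SModEq.sub_mem, Ideal.smul_top_eq_map, Algebra.algebraMap_self, Ideal.map_id,
    Submodule.restrictScalars_self] at this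
  exact Submodule.smul_mem_smul this trivial

section valuation

variable {R : Type u} [CommRing R] [IsDomain R] [ValuationRing R]

/-- In a valuation ring of dimension at most one, every element of the maximal ideal has a power
divisible by a given nonzero element. -/
theorem exists_dvd_pow [Ring.KrullDimLE 1 R] {c x : R} (hc : c ≠ 0) (hx : ¬ IsUnit x) :
    ∃ m : ℕ, c ∣ x ^ m := by
  suffices x ∈ (Ideal.span {c}).radical by
    obtain ⟨m, hm⟩ := this
    exact ⟨m, Ideal.mem_span_singleton.1 hm⟩
  rw [Ideal.radical_eq_sInf, Submodule.mem_sInf]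
  rintro p ⟨hcp, hp⟩
  have hne : p ≠ ⊥ := by
    rintro rfl
    exact hc (by simpa using hcp (Ideal.mem_span_singleton_self c))
  have hmax : Ideal.IsMaximal p :=
    haveI : Ideal.IsPrime p := hp
    Ideal.IsPrime.isMaximal_of_ne_bot hp hne
  rw [IsLocalRing.eq_maximalIdeal hmax]
  exact hx

theorem exists_pow_dvd_of_dvd [Ring.KrullDimLE 1 R] {t δ : R} (ht : t ≠ 0) (hδ : ¬ IsUnit δ) :
    ∃ m : ℕ, t ∣ δ ^ m :=
  exists_dvd_pow ht hδ

/-- A finite family has a greatest common divisor among valuation ring elements: the content. -/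
theorem exists_content {ι : Type*} (s : Finset ι) (hs : s.Nonempty) (f : ι → R) :
    ∃ i ∈ s, ∀ j ∈ s, f i ∣ f j := by
  classical
  induction hs using Finset.Nonempty.cons_induction with
  | singleton a => exact ⟨a, by simp, by simp⟩
  | cons a s has hs ih =>
    obtain ⟨i, his, hi⟩ := ih
    rcases ValuationRing.dvd_total (f a) (f i) with h | h
    · refine ⟨a, by simp, fun j hj => ?_⟩
      rcases Finset.mem_cons.1 hj with rfl | hj
      · exact dvd_rfl
      · exact h.trans (hi j hj)
    · refine ⟨i, by simp [his], fun j hj => ?_⟩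
      rcases Finset.mem_cons.1 hj with rfl | hj
      · exact h
      · exact hi j hj

end valuation

end Groth.Agent.Adic.CV
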