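import Groth.Agent.Adic.CV.Complete
import Mathlib.RingTheory.Flat.Tensor
import Mathlib.RingTheory.Flat.Stability
import Mathlib.RingTheory.Flat.FaithfullyFlat.Basic

/-!
The flatness criterion by truncations.
-/

namespace Groth.Agent.Adic.CV

open AdicRing TensorProduct

universe u v w

variable {R : Type u} [CommRing R] {I : Ideal R}

theorem rTensor_injective_of_flat_baseChange {A : Type u} {Ā : Type u} [CommRing A] [CommRing Ā]
    [Algebra A Ā] (M : Type u) [AddCommGroup M] [Module A M] [Module.Flat Ā (Ā ⊗[A] M)]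
    {N N' : Type u} [AddCommGroup N] [AddCommGroup N'] [Module A N] [Module A N'] [Module Ā N]
    [Module Ā N'] [IsScalarTower A Ā N] [IsScalarTower A Ā N'] (g : N →ₗ[Ā] N')
    (hg : Function.Injective g) : Function.Injective ((g.restrictScalars A).rTensor M) := by
  let e := AlgebraTensorModule.cancelBaseChange A Ā Ā N M
  let e' := AlgebraTensorModule.cancelBaseChange A Ā Ā N' M
  have key : ∀ z, (g.restrictScalars A).rTensor M (e z) = e' (g.rTensor (Ā ⊗[A] M) z) := by
    intro z
    induction z with
    | zero => simp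
    | add z z' hz hz' => simp only [map_add, hz, hz']
    | tmul x y =>
      induction y with
      | zero => simp
      | add y y' hy hy' => simp only [tmul_add, map_add, hy, hy']
      | tmul a m => simp [e, e']
  intro a b hab
  obtain ⟨a, rfl⟩ := e.surjective a
  obtain ⟨b, rfl⟩ := e.surjective b
  rw [key, key] at hab
  rw [Module.Flat.rTensor_preserves_injective_linearMap g hg (e'.injective hab)]

theorem flat_of_forall_flat_trunc (h : IsBase R I) {A B : Type u} [CommRing A] [Algebra R A]
    (hA : TopFiniteType R I A) [CommRing B] [Algebra R B] [Algebra A B] [IsScalarTower R A B]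
    (hB : TopFiniteType R I B) (M : Type u) [AddCommGroup M] [Module B M] [Module A M]
    [IsScalarTower A B M] [Module.Finite B M]
    (hn : ∀ n : ℕ, Module.Flat (trunc A I n) ((trunc A I n) ⊗[A] M)) : Module.Flat A M := by
  rw [Module.Flat.iff_lTensor_injective]
  intro J hJ
  let _ : Module R M := Module.compHom M (algebraMap R A)
  have : IsScalarTower R A M := IsScalarTower.of_algebraMap_smul fun _ _ => rfl
  have : IsScalarTower R B M := IsScalarTower.of_algebraMap_smul fun r x => by
    rw [IsScalarTower.algebraMap_apply R A B, algebraMap_smul, algebraMap_smul]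
  have : Module.Finite A J := Module.Finite.iff_fg.2 hJ
  have : Module.Finite B (M ⊗[A] J) := by
    obtain ⟨s, f, hf⟩ := Module.Finite.exists_fin' A J
    let g : M ⊗[A] (Fin s → A) →ₗ[B] M ⊗[A] J := AlgebraTensorModule.lTensor B M f
    have hg : Function.Surjective g := LinearMap.lTensor_surjective M hf
    have : Module.Finite B (M ⊗[A] (Fin s → A)) :=
      Module.Finite.equiv (TensorProduct.piScalarRight A B M (Fin s)).symm
    exact Module.Finite.of_surjective g hg
  have hcompl := isAdicComplete_of_finite h hB (M ⊗[A] J)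
  rw [injective_iff_map_eq_zero]
  intro x hx
  obtain ⟨n₀, hn₀⟩ := artinRees h hA A J
  refine IsHausdorff.haus (inferInstance : IsHausdorff I (M ⊗[A] J)) x fun m => ?_
  rw [SModEq.sub_mem, sub_zero]
  let q := Ideal.Quotient.mk ((I ^ (m + n₀ + 1)).map (algebraMap R A))
  let Jb : Submodule (trunc A I (m + n₀)) (trunc A I (m + n₀)) := J.map q
  let π : J →ₗ[A] Jb :=
    { toFun := fun j => ⟨q j, Ideal.mem_map_of_mem _ j.2⟩
      map_add' := fun a b => Subtype.ext (map_add q _ _)
      map_smul' := fun a b => Subtype.ext (by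
        simp only [RingHom.id_apply, SetLike.val_smul, smul_eq_mul, map_mul]
        exact (Algebra.smul_def (A := trunc A I (m + n₀)) a _).symm) }
  have hπ : Function.Surjective π := by
    rintro ⟨y, hy⟩
    obtain ⟨j, hj, rfl⟩ := (Ideal.mem_map_iff_of_surjective q Ideal.Quotient.mk_surjective).1 hy
    exact ⟨⟨j, hj⟩, rfl⟩
  have hinj : Function.Injective ((Jb.subtype.restrictScalars A).lTensor M) := by
    rw [LinearMap.lTensor_inj_iff_rTensor_inj]
    have := hn (m + n₀)
    exact rTensor_injective_of_flat_baseChange M _ Subtype.val_injective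
  have hπx : π.lTensor M x = 0 := hinj (by
    rw [map_zero, ← LinearMap.lTensor_comp_apply,
      show (Jb.subtype.restrictScalars A) ∘ₗ π = (Algebra.linearMap A (trunc A I (m + n₀))) ∘ₗ J.subtype
        from rfl, LinearMap.lTensor_comp_apply, hx, map_zero])
  have hex := lTensor_exact M (LinearMap.exact_subtype_ker_map π) hπ
  obtain ⟨y, rfl⟩ := (hex x).1 hπx
  clear hx hπx
  induction y with
  | zero => simp
  | add a b ha hb => rw [map_add]; exact add_mem ha hb
  | tmul a b =>
    obtain ⟨⟨j, hj⟩, hker⟩ := b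
    have hmem : j ∈ (I ^ (m + n₀) • (⊤ : Submodule R A)) := by
      rw [Ideal.smul_top_eq_map, Submodule.restrictScalars_mem]
      exact Ideal.map_mono (Ideal.pow_le_pow_right (Nat.le_succ _))
        (Ideal.Quotient.eq_zero_iff_mem.1 (congrArg Subtype.val (LinearMap.mem_ker.1 hker)))
    have h2 := hn₀ m ⟨hmem, hj⟩
    let lin : J.restrictScalars R →ₗ[R] M ⊗[A] J :=
      { toFun := fun z => a ⊗ₜ ⟨z.1, z.2⟩
        map_add' := fun z z' => tmul_add a _ _
        map_smul' := fun r z => by
          rw [RingHom.id_apply, ← tmul_smul]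
          rfl }
    show a ⊗ₜ[A] (⟨j, hj⟩ : J) ∈ _
    rw [show a ⊗ₜ[A] (⟨j, hj⟩ : J) = lin ⟨j, hj⟩ from rfl]
    have h3 : (⟨j, hj⟩ : J.restrictScalars R) ∈ (I ^ m • ⊤ : Submodule R (J.restrictScalars R)) :=
      (Submodule.mem_smul_top_iff _ _ _).2 h2
    have := Submodule.mem_map_of_mem (f := lin) h3
    rw [Submodule.map_smul''] at this
    exact Submodule.smul_mono le_rfl le_top this

end Groth.Agent.Adic.CV

namespace Groth.Agent.Adic.CV

open AdicRing TensorProduct

universe u'

theorem faithfullyFlat_of_forall_trunc {R : Type u'} [CommRing R] {I : Ideal R} (h : IsBase R I)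
    {A B : Type u'} [CommRing A] [Algebra R A]
    (hA : TopFiniteType R I A) [CommRing B] [Algebra R B] [Algebra A B] [IsScalarTower R A B]
    (hB : TopFiniteType R I B) (M : Type u') [AddCommGroup M] [Module B M] [Module A M]
    [IsScalarTower A B M] [Module.Finite B M]
    (hn : ∀ n : ℕ, Module.FaithfullyFlat (trunc A I n) ((trunc A I n) ⊗[A] M)) :
    Module.FaithfullyFlat A M := by
  have hflat := flat_of_forall_flat_trunc h hA hB M fun n => (hn n).toFlat
  refine ⟨fun 𝔪 h𝔪 htop => ?_⟩
  let T := trunc A I 0 ⊗[A] M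
  let q : A →+* trunc A I 0 := Ideal.Quotient.mk _
  have hle : (I ^ (0 + 1)).map (algebraMap R A) ≤ 𝔪 := by
    rw [zero_add, pow_one]
    refine (map_le_jacobson_of_topFiniteType (fg_of_isBase h) hA).trans ?_
    exact sInf_le ⟨bot_le, h𝔪⟩
  have hmax : (𝔪.map q).IsMaximal := by
    refine Or.resolve_right (Ideal.map_eq_top_or_isMaximal_of_surjective q
      Ideal.Quotient.mk_surjective h𝔪).symm fun hq => h𝔪.ne_top ?_
    have hc := Ideal.comap_map_of_surjective q Ideal.Quotient.mk_surjective 𝔪
    rw [hq, Ideal.comap_top] at hc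
    rw [eq_comm, sup_eq_left.2] at hc
    · exact hc
    · rw [← RingHom.ker_eq_comap_bot, Ideal.mk_ker]; exact hle
  refine (hn 0).submodule_ne_top hmax (eq_top_iff.2 fun z _ => ?_)
  induction z with
  | zero => exact zero_mem _
  | add z z' hz hz' => exact add_mem (hz trivial) (hz' trivial)
  | tmul a m =>
    have hm : m ∈ 𝔪 • (⊤ : Submodule A M) := by rw [htop]; trivial
    rw [show a ⊗ₜ[A] m = a • ((1 : trunc A I 0) ⊗ₜ[A] m) by
      rw [smul_tmul', smul_eq_mul, mul_one]]
    refine Submodule.smul_mem _ a ?_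
    refine Submodule.smul_induction_on hm (fun r hr m' _ => ?_) fun x y hx hy => by
      rw [tmul_add]; exact add_mem hx hy
    rw [tmul_smul, ← algebraMap_smul (trunc A I 0) r]
    exact Submodule.smul_mem_smul (Ideal.mem_map_of_mem q hr) trivial

end Groth.Agent.Adic.CV
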