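import Groth.Agent.Adic.CV.TruncFP
import Groth.Agent.Adic.CV.Flat
import Mathlib.RingTheory.Localization.Ideal
import Mathlib.RingTheory.Localization.Away.Basic
import Mathlib.RingTheory.Flat.Localization
import Mathlib.RingTheory.Finiteness.FiniteTypeLocal
import Mathlib.RingTheory.Finiteness.FinitePresentationLocal
import Mathlib.RingTheory.RingHom.FiniteType
import Mathlib.RingTheory.RingHom.FinitePresentation
import Mathlib.RingTheory.Flat.FaithfullyFlat.Algebra

/-!
Complete localizations.
-/

namespace Groth.Agent.Adic.CV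

open AdicRing TensorProduct

universe u v w

variable {R : Type u} [CommRing R] {I : Ideal R} {A : Type u} [CommRing A] [Algebra R A]

/-- The localization of the truncation at `f`, as a quotient of `A_f`. -/
abbrev locTrunc (I : Ideal R) (f : A) (m : ℕ) : Type u :=
  Localization.Away f ⧸
    ((I ^ (m + 1)).map (algebraMap R A)).map (algebraMap A (Localization.Away f))

instance isLocalization_locTrunc (f : A) (m : ℕ) :
    IsLocalization.Away (Ideal.Quotient.mk ((I ^ (m + 1)).map (algebraMap R A)) f)
      (locTrunc I f m) := by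
  have h : Algebra.algebraMapSubmonoid (trunc A I m) (Submonoid.powers f) =
      Submonoid.powers (Ideal.Quotient.mk ((I ^ (m + 1)).map (algebraMap R A)) f) := by
    simp [Algebra.algebraMapSubmonoid, Submonoid.map_powers]
  show IsLocalization (Submonoid.powers _) _
  rw [← h]
  infer_instance

instance isScalarTower_locTrunc (f : A) (m : ℕ) :
    IsScalarTower R (trunc A I m) (locTrunc I f m) :=
  IsScalarTower.of_algebraMap_eq fun r => by
    rw [IsScalarTower.algebraMap_apply R A (trunc A I m), IsScalarTower.algebraMap_apply R A (locTrunc I f m)]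
    rfl

/-- Truncations of complete localizations. -/
noncomputable def cLocTrunc (hI : I.FG) (f : A) (m : ℕ) :
    trunc (CLoc I f) I m ≃ₐ[A] locTrunc I f m :=
  (quotComplOver (C := Localization.Away f) A hI (m + 1)).trans
    (Ideal.quotientEquivAlgOfEq A (by
      rw [Ideal.map_map, ← IsScalarTower.algebraMap_eq, Ideal.map_pow]))

theorem isAdicComplete_cLoc (hI : I.FG) (f : A) :
    IsAdicComplete (I.map (algebraMap R (CLoc I f))) (CLoc I f) :=
  isAdicComplete_compl hI

theorem topFiniteType_cLoc (hI : I.FG) (hA : TopFiniteType R I A) (f : A) :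
    TopFiniteType R I (CLoc I f) := by
  have := isAdicComplete_cLoc hI f
  refine topFiniteType_of_finiteType_trunc hI ?_
  have := finiteType_trunc hA hI 0
  have : Algebra.FiniteType (trunc A I 0) (locTrunc I f 0) :=
    IsLocalization.finiteType_of_monoid_fg
      (Submonoid.powers (Ideal.Quotient.mk ((I ^ (0 + 1)).map (algebraMap R A)) f)) _
  have : Algebra.FiniteType R (locTrunc I f 0) :=
    Algebra.FiniteType.trans (S := trunc A I 0) inferInstance inferInstance
  exact Algebra.FiniteType.equiv this ((cLocTrunc hI f 0).restrictScalars R).symm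

theorem finitePresentation_trunc_cLoc (hI : I.FG) (f : A) (m : ℕ)
    [Algebra.FinitePresentation R (trunc A I m)] :
    Algebra.FinitePresentation R (trunc (CLoc I f) I m) := by
  have : Algebra.FinitePresentation (trunc A I m) (locTrunc I f m) :=
    IsLocalization.Away.finitePresentation
      (Ideal.Quotient.mk ((I ^ (m + 1)).map (algebraMap R A)) f)
  have : Algebra.FinitePresentation R (locTrunc I f m) :=
    Algebra.FinitePresentation.trans R (trunc A I m) _
  exact Algebra.FinitePresentation.equiv ((cLocTrunc hI f m).restrictScalars R).symm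

theorem flat_cLoc (h : IsBase R I) (hA : TopFiniteType R I A) (f : A) :
    Module.Flat A (CLoc I f) := by
  refine flat_of_forall_flat_trunc h hA (topFiniteType_cLoc (fg_of_isBase h) hA f) (CLoc I f)
    fun n => ?_
  let e : trunc A I n ⊗[A] CLoc I f ≃ₗ[A] locTrunc I f n :=
    (quotTensorEquivQuotSMul (CLoc I f) _).trans
      ((Submodule.quotEquivOfEq _
          (((I ^ (n + 1)).map (algebraMap R (CLoc I f))).restrictScalars A) (by
            rw [Ideal.smul_top_eq_map, Ideal.map_map, ← IsScalarTower.algebraMap_eq])).trans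
        (((Submodule.Quotient.restrictScalarsEquiv A _)).trans (cLocTrunc (fg_of_isBase h) f n).toLinearEquiv))
  have : Module.Flat (trunc A I n) (locTrunc I f n) :=
    IsLocalization.flat _ (Submonoid.powers (Ideal.Quotient.mk ((I ^ (n + 1)).map (algebraMap R A)) f))
  exact Module.Flat.of_linearEquiv
    (LinearEquiv.extendScalarsOfSurjective Ideal.Quotient.mk_surjective e)

theorem faithfullyFlat_pi_cLoc (h : IsBase R I) (hA : TopFiniteType R I A) {r : ℕ} (f : Fin r → A)
    (hf : Ideal.span (Set.range f) = ⊤) : Module.FaithfullyFlat A (∀ i, CLoc I (f i)) := by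
  have hfl := fun i => flat_cLoc h hA (f i)
  have : Module.Flat A (∀ i, CLoc I (f i)) :=
    Module.Flat.of_linearEquiv (DFinsupp.linearEquivFunOnFintype (R := A)).symm
  refine ⟨fun 𝔪 h𝔪 htop => ?_⟩
  obtain ⟨i, hi⟩ : ∃ i, f i ∉ 𝔪 := by
    by_contra! hall
    exact h𝔪.ne_top (top_le_iff.1 (hf ▸ Ideal.span_le.2 (by rintro _ ⟨i, rfl⟩; exact hall i)))
  let := Ideal.Quotient.field 𝔪
  let g : Localization.Away (f i) →ₐ[A] A ⧸ 𝔪 :=
    IsLocalization.liftAlgHom (M := Submonoid.powers (f i)) (f := Algebra.ofId A (A ⧸ 𝔪)) fun y => by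
      obtain ⟨k, hk⟩ := y.2
      rw [isUnit_iff_ne_zero, Algebra.ofId_apply, ← hk, map_pow]
      exact pow_ne_zero _ (mt Ideal.Quotient.eq_zero_iff_mem.1 hi)
  have hle : I.map (algebraMap R (Localization.Away (f i))) ≤ RingHom.ker g := by
    rw [IsScalarTower.algebraMap_eq R A (Localization.Away (f i)), ← Ideal.map_map,
      Ideal.map_le_iff_le_comap]
    intro a ha
    rw [Ideal.mem_comap, RingHom.mem_ker, g.commutes, Ideal.Quotient.algebraMap_eq,
      Ideal.Quotient.eq_zero_iff_mem]
    exact (map_le_jacobson_of_topFiniteType (fg_of_isBase h) hA).trans (sInf_le ⟨bot_le, h𝔪⟩) ha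
  let ψ : CLoc I (f i) →ₐ[A] A ⧸ 𝔪 :=
    (Ideal.Quotient.liftₐ _ g hle).comp
      ((AdicCompletion.evalOneₐ (I.map (algebraMap R (Localization.Away (f i))))).restrictScalars A)
  let L : (∀ j, CLoc I (f j)) →ₗ[A] A ⧸ 𝔪 := ψ.toLinearMap.comp (LinearMap.proj i)
  have h1 : L (fun _ => 1) = 1 := map_one ψ
  have h0 : L (fun _ => 1) ∈ Submodule.map L (𝔪 • ⊤) := Submodule.mem_map_of_mem (by rw [htop]; trivial)
  rw [Submodule.map_smul''] at h0
  have : (1 : A ⧸ 𝔪) ∈ (𝔪 • ⊤ : Submodule A (A ⧸ 𝔪)) := h1 ▸ Submodule.smul_mono le_rfl le_top h0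
  rw [Ideal.smul_top_eq_map, Submodule.restrictScalars_mem, Ideal.Quotient.algebraMap_eq,
    Ideal.map_quotient_self] at this
  exact one_ne_zero this

theorem finiteType_trunc_zero_of_cover (hI : I.FG) {r : ℕ} (f : Fin r → A)
    (hf : Ideal.span (Set.range f) = ⊤) (h : ∀ i, TopFiniteType R I (CLoc I (f i))) :
    Algebra.FiniteType R (trunc A I 0) := by
  refine Algebra.FiniteType.of_span_eq_top_target
    (Set.range fun i => Ideal.Quotient.mk ((I ^ (0 + 1)).map (algebraMap R A)) (f i)) ?_ ?_
  · have := congrArg (Ideal.map (Ideal.Quotient.mk ((I ^ (0 + 1)).map (algebraMap R A)))) hf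
    rwa [Ideal.map_span, Ideal.map_top, ← Set.range_comp] at this
  · rintro _ ⟨i, rfl⟩
    have := finiteType_trunc (h i) hI 0
    have := Algebra.FiniteType.equiv this ((cLocTrunc hI (f i) 0).restrictScalars R)
    exact Algebra.FiniteType.equiv this
      ((IsLocalization.algEquiv
        (Submonoid.powers (Ideal.Quotient.mk ((I ^ (0 + 1)).map (algebraMap R A)) (f i)))
        (locTrunc I (f i) 0) _).restrictScalars R)

theorem finitePresentation_trunc_of_cover (hI : I.FG) {r : ℕ} (f : Fin r → A)
    (hf : Ideal.span (Set.range f) = ⊤) (h : ∀ i, TopFinitePresentation R I (CLoc I (f i)))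
    (m : ℕ) : Algebra.FinitePresentation R (trunc A I m) := by
  have : ∀ i, Algebra.FinitePresentation R (locTrunc I (f i) m) := fun i => by
    have := finitePresentation_trunc (h i) hI m
    exact Algebra.FinitePresentation.equiv ((cLocTrunc hI (f i) m).restrictScalars R)
  refine Algebra.FinitePresentation.of_span_eq_top_target_of_isLocalizationAway
    (fun i => Ideal.Quotient.mk ((I ^ (m + 1)).map (algebraMap R A)) (f i)) ?_
    (fun i => locTrunc I (f i) m)
  have := congrArg (Ideal.map (Ideal.Quotient.mk ((I ^ (m + 1)).map (algebraMap R A)))) hf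
  rwa [Ideal.map_span, Ideal.map_top, ← Set.range_comp] at this

theorem noPowTorsion_of_flat {S : Type u} [CommRing S] [Algebra R S] [Algebra A S]
    [IsScalarTower R A S] [Module.Flat A S] (hI : I.FG) (hA : NoPowTorsion I A) :
    NoPowTorsion I S := by
  intro x n hx
  obtain ⟨k, a, ha⟩ := Submodule.fg_iff_exists_fin_generating_family.1 (Submodule.FG.pow hI n)
  let μ : A →ₗ[A] (Fin k → A) := LinearMap.pi fun j => LinearMap.lsmul A A (algebraMap R A (a j))
  have hμ : Function.Injective μ := by
    rw [injective_iff_map_eq_zero]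
    intro y hy
    refine hA y n fun b hb => ?_
    rw [← ha] at hb
    obtain ⟨c, rfl⟩ := (Submodule.mem_span_range_iff_exists_fun _).1 hb
    rw [Finset.sum_smul]
    refine Finset.sum_eq_zero fun j _ => ?_
    have := congrFun hy j
    simp only [μ, LinearMap.pi_apply, LinearMap.lsmul_apply, algebraMap_smul, Pi.zero_apply] at this
    rw [smul_assoc, this, smul_zero]
  have := Module.Flat.lTensor_preserves_injective_linearMap (M := S) μ hμ
  have h0 : μ.lTensor S (x ⊗ₜ (1 : A)) = 0 := by
    refine (TensorProduct.piScalarRight A A S (Fin k)).injective ?_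
    funext j
    simp only [LinearMap.lTensor_tmul, TensorProduct.piScalarRight_apply,
      TensorProduct.piScalarRightHom_tmul, map_zero, Pi.zero_apply, μ, LinearMap.pi_apply,
      LinearMap.lsmul_apply, smul_eq_mul, mul_one]
    rw [algebraMap_smul]
    exact hx (a j) (ha ▸ Submodule.subset_span ⟨j, rfl⟩)
  rw [← map_zero (μ.lTensor S)] at h0
  have h1 := congrArg (TensorProduct.rid A S) (this h0)
  simpa using h1

theorem noPowTorsion_of_cover (h : IsBase R I) (hA : TopFiniteType R I A) {r : ℕ} (f : Fin r → A)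
    (hf : Ideal.span (Set.range f) = ⊤) (hC : ∀ i, NoPowTorsion I (CLoc I (f i))) :
    NoPowTorsion I A := by
  have := faithfullyFlat_pi_cLoc h hA f hf
  intro x n hx
  apply FaithfulSMul.algebraMap_injective A (∀ i, CLoc I (f i))
  rw [map_zero]
  funext i
  refine hC i _ n fun a ha => ?_
  show a • algebraMap A (CLoc I (f i)) x = 0
  rw [← algebraMap.coe_smul, hx a ha]
  exact map_zero _

end Groth.Agent.Adic.CV
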