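import Groth.Agent.Adic.CV.FinType
import Groth.Agent.Adic.CV.CLocLemmas

/-!
Torsion in the completed charts of admissible blowing-ups.
-/

namespace Groth.Agent.Adic.CV

open AdicRing MvPolynomial TensorProduct

universe u

variable {R : Type u} [CommRing R] {I : Ideal R} {A : Type u} [CommRing A] [Algebra R A]
  {ι : Type} (f : ι → A) (i : ι)

theorem chart_mul_mk_X (j : {j : ι // j ≠ i}) :
    algebraMap A (chartAlg f i) (f i) * Ideal.Quotient.mk _ (X j) =
      algebraMap A (chartAlg f i) (f j.1) := by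
  show Ideal.Quotient.mk _ (C (f i)) * Ideal.Quotient.mk _ (X j) = Ideal.Quotient.mk _ (C (f j.1))
  rw [← map_mul, Ideal.Quotient.eq]
  exact Ideal.subset_span ⟨j, rfl⟩

theorem algebraMap_mem_span_chart {x : A} (hx : x ∈ Ideal.span (Set.range f)) :
    algebraMap A (chartAlg f i) x ∈ Ideal.span {algebraMap A (chartAlg f i) (f i)} := by
  refine (Ideal.span_le (I := (Ideal.span {algebraMap A (chartAlg f i) (f i)}).comap
    (algebraMap A (chartAlg f i)))).2 ?_ hx
  rintro _ ⟨j, rfl⟩
  rw [SetLike.mem_coe, Ideal.mem_comap, Ideal.mem_span_singleton]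
  by_cases hj : j = i
  · rw [hj]
  · exact ⟨_, (chart_mul_mk_X f i ⟨j, hj⟩).symm⟩

theorem exists_pow_mul_eq_algebraMap (c : chartAlg f i) :
    ∃ (N : ℕ) (a : A), algebraMap A (chartAlg f i) (f i) ^ N * c = algebraMap A (chartAlg f i) a := by
  obtain ⟨p, rfl⟩ := Ideal.Quotient.mk_surjective c
  induction p using MvPolynomial.induction_on with
  | C a => exact ⟨0, a, by rw [pow_zero, one_mul]; rfl⟩
  | add p q hp hq =>
    obtain ⟨N, a, ha⟩ := hp
    obtain ⟨M, b, hb⟩ := hq
    refine ⟨N + M, f i ^ M * a + f i ^ N * b, ?_⟩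
    rw [map_add, map_add, map_mul, map_mul, map_pow, map_pow, ← ha, ← hb]
    ring
  | mul_X p j hp =>
    obtain ⟨N, a, ha⟩ := hp
    refine ⟨N + 1, a * f j.1, ?_⟩
    rw [map_mul, map_mul, ← chart_mul_mk_X f i j, ← ha]
    ring

theorem exists_pow_mul_eq_zero_of_torsion (hI : I.FG) (hT : NoPowTorsion I A) (c : chartAlg f i)
    (n : ℕ) (hc : ∀ a ∈ I ^ n, a • c = 0) :
    ∃ m : ℕ, algebraMap A (chartAlg f i) (f i) ^ m * c = 0 := by
  let L := Localization.Away (f i)
  have hTL : NoPowTorsion I L := by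
    have : Module.Flat A L := IsLocalization.flat L (Submonoid.powers (f i))
    exact noPowTorsion_of_flat hI hT
  let θ : chartAlg f i →ₐ[A] L := Ideal.Quotient.liftₐ _
    (aeval fun j : {j : ι // j ≠ i} =>
      IsLocalization.mk' L (f j.1) (⟨f i, Submonoid.mem_powers _⟩ : Submonoid.powers (f i))) (by
      intro q hq
      rw [← RingHom.mem_ker]
      refine (Ideal.span_le.2 ?_) hq
      rintro _ ⟨j, rfl⟩
      rw [SetLike.mem_coe, RingHom.mem_ker, map_sub, map_mul, aeval_C, aeval_X, aeval_C, sub_eq_zero]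
      exact IsLocalization.mk'_spec' L (f j.1) (⟨f i, Submonoid.mem_powers _⟩ : Submonoid.powers (f i)))
  obtain ⟨N, a, ha⟩ := exists_pow_mul_eq_algebraMap f i c
  have h0 : algebraMap A L a = 0 := hTL _ n fun r hr => by
    have e : r • θ (algebraMap A (chartAlg f i) a) = θ (r • algebraMap A (chartAlg f i) a) := by
      rw [← algebraMap_smul A r (θ _), ← algebraMap_smul A r (algebraMap A (chartAlg f i) a),
        map_smul]
    rw [← θ.commutes, e, ← ha, ← mul_smul_comm, hc r hr, mul_zero, map_zero]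
  obtain ⟨⟨_, M, rfl⟩, hM⟩ := (IsLocalization.map_eq_zero_iff (Submonoid.powers (f i)) L a).1 h0
  refine ⟨M + N, ?_⟩
  rw [pow_add, mul_assoc, ha, ← map_pow, ← map_mul, hM, map_zero]

theorem torsion_chartCompl (h : IsBase R I) (hA : TopFiniteType R I A) [Finite ι]
    (hT : NoPowTorsion I A) (x : chartCompl I f i) (n : ℕ) (hx : ∀ a ∈ I ^ n, a • x = 0) :
    ∃ m : ℕ, algebraMap A (chartCompl I f i) (f i) ^ m * x = 0 := by
  let C' := chartAlg f i
  have : Algebra.FiniteType A C' := Algebra.FiniteType.of_surjective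
    (A := MvPolynomial {j : ι // j ≠ i} A) (Ideal.Quotient.mkₐ A _) Ideal.Quotient.mk_surjective
  have := flat_compl_of_finiteType h hA C'
  obtain ⟨k, b, hb⟩ := Submodule.fg_iff_exists_fin_generating_family.1
    (Submodule.FG.pow (fg_of_isBase h) n)
  let μ : C' →ₗ[C'] (Fin k → C') :=
    LinearMap.pi fun j => LinearMap.lsmul C' C' (algebraMap R C' (b j))
  have hex := Module.Flat.lTensor_exact (chartCompl I f i) (LinearMap.exact_subtype_ker_map μ)
  have h0 : μ.lTensor (chartCompl I f i) (x ⊗ₜ (1 : C')) = 0 := by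
    refine (TensorProduct.piScalarRight C' C' (chartCompl I f i) (Fin k)).injective ?_
    funext j
    simp only [LinearMap.lTensor_tmul, TensorProduct.piScalarRight_apply,
      TensorProduct.piScalarRightHom_tmul, map_zero, Pi.zero_apply, μ, LinearMap.pi_apply,
      LinearMap.lsmul_apply, smul_eq_mul, mul_one]
    rw [algebraMap_smul]
    exact hx (b j) (hb ▸ Submodule.subset_span ⟨j, rfl⟩)
  obtain ⟨y, hy⟩ := (hex _).1 h0
  suffices ∀ y, ∃ m : ℕ, algebraMap A (chartCompl I f i) (f i) ^ m *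
      TensorProduct.rid C' (chartCompl I f i) ((LinearMap.ker μ).subtype.lTensor _ y) = 0 by
    obtain ⟨m, hm⟩ := this y
    refine ⟨m, ?_⟩
    rwa [hy, TensorProduct.rid_tmul, one_smul] at hm
  intro y
  induction y with
  | zero => exact ⟨0, by simp⟩
  | add a a' ha ha' =>
    obtain ⟨m, hm⟩ := ha
    obtain ⟨m', hm'⟩ := ha'
    refine ⟨m + m', ?_⟩
    rw [map_add, map_add, mul_add, pow_add, mul_right_comm, hm, zero_mul, zero_add, mul_assoc, hm',
      mul_zero]
  | tmul z τ =>
    obtain ⟨τ, hτ⟩ := τ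
    obtain ⟨m, hm⟩ := exists_pow_mul_eq_zero_of_torsion f i (fg_of_isBase h) hT τ n fun a ha => by
      rw [← hb] at ha
      obtain ⟨c, rfl⟩ := (Submodule.mem_span_range_iff_exists_fun _).1 ha
      rw [Finset.sum_smul]
      refine Finset.sum_eq_zero fun j _ => ?_
      have := congrFun (LinearMap.mem_ker.1 hτ) j
      simp only [μ, LinearMap.pi_apply, LinearMap.lsmul_apply, algebraMap_smul, Pi.zero_apply] at this
      rw [smul_assoc, this, smul_zero]
    refine ⟨m, ?_⟩
    rw [LinearMap.lTensor_tmul, TensorProduct.rid_tmul, Submodule.subtype_apply,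
      IsScalarTower.algebraMap_apply A C' (chartCompl I f i), ← map_pow, ← Algebra.smul_def,
      smul_smul, hm]
    exact zero_smul (chartAlg f i) z

theorem smul_eq_zero_of_pow_mul_eq_zero {k : ℕ}
    (hopen : (I ^ k).map (algebraMap R A) ≤ Ideal.span (Set.range f)) (x : chartCompl I f i)
    (n : ℕ) (hx : algebraMap A (chartCompl I f i) (f i) ^ n * x = 0) :
    ∀ a ∈ I ^ (k * n), a • x = 0 := by
  intro a ha
  have h1 : (I ^ k).map (algebraMap R (chartAlg f i)) ≤
      Ideal.span {algebraMap A (chartAlg f i) (f i)} := by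
    rw [IsScalarTower.algebraMap_eq R A (chartAlg f i), ← Ideal.map_map, Ideal.map_le_iff_le_comap]
    exact fun y hy => algebraMap_mem_span_chart f i (hopen hy)
  rw [pow_mul] at ha
  have h2 := Ideal.pow_right_mono h1 n (by rw [← Ideal.map_pow]; exact Ideal.mem_map_of_mem _ ha)
  rw [Ideal.span_singleton_pow, Ideal.mem_span_singleton'] at h2
  obtain ⟨c, hc⟩ := h2
  rw [← algebraMap_smul (chartAlg f i) a, ← hc, mul_smul]
  have e : algebraMap A (chartAlg f i) (f i) ^ n • x = 0 := by
    refine (Algebra.smul_def (algebraMap A (chartAlg f i) (f i) ^ n) x).trans ?_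
    rw [map_pow, ← IsScalarTower.algebraMap_apply A (chartAlg f i) (chartCompl I f i), hx]
  rw [e, smul_zero]

end Groth.Agent.Adic.CV
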