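import Groth.Agent.Adic.CV.Complete
import Mathlib.Algebra.Module.FinitePresentation

/-!
Coherence of algebras topologically of finite presentation over a base ring.
-/

namespace Groth.Agent.Adic.CV

open AdicRing

universe u v w

variable {R : Type u} [CommRing R]

theorem rpow_coherent [IsDomain R] [ValuationRing R] [Ring.KrullDimLE 1 R] {t : R} (ht : t ≠ 0)
    (htu : ¬ IsUnit t) {n r : ℕ} (v : Fin r → RPow R (Ideal.span {t}) n)
    {K : Ideal (RPow R (Ideal.span {t}) n)} (hK : K.FG) :
    (Submodule.comap (Fintype.linearCombination (RPow R (Ideal.span {t}) n) v) K).FG := by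
  obtain ⟨k, κ, hκ⟩ := Submodule.fg_iff_exists_fin_generating_family.1 hK
  let P := RPow R (Ideal.span {t}) n
  let h : (Fin r → P) × (Fin k → P) →ₗ[P] P :=
    (Fintype.linearCombination P v).coprod (-(Fintype.linearCombination P κ))
  have hker : (LinearMap.ker h).FG := by
    refine satFG_rpow ht htu n _ _ ((sat_singleton_iff t _).2 fun x hx => ?_)
    rw [LinearMap.mem_ker, LinearMap.map_smul_of_tower] at hx
    exact LinearMap.mem_ker.2 (eq_zero_of_smul_eq_zero ht _ hx)
  convert hker.map (LinearMap.fst P (Fin r → P) (Fin k → P)) using 1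
  ext x
  rw [Submodule.mem_comap, ← hκ, ← Fintype.range_linearCombination, Submodule.mem_map]
  constructor
  · rintro ⟨w, hw⟩
    refine ⟨(x, w), ?_, rfl⟩
    simp [h, P, hw]
  · rintro ⟨⟨x', w⟩, hxw, rfl⟩
    refine ⟨w, ?_⟩
    have := LinearMap.mem_ker.1 hxw
    simp only [h, LinearMap.coprod_apply, LinearMap.neg_apply, ← sub_eq_add_neg, sub_eq_zero] at this
    exact this.symm

theorem finitePresentation_ideal {I : Ideal R} (h : IsBase R I) {A : Type u} [CommRing A]
    [Algebra R A] (hA : TopFinitePresentation R I A) {J : Ideal A} (hJ : J.FG) :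
    Module.FinitePresentation A J := by
  obtain ⟨n, φ, hφ, hK⟩ := hA
  rcases isBase_cases h with hN | ⟨_, _, _, t, ht, htu, rfl⟩
  · have := isNoetherianRing_of_topFiniteType ⟨n, φ, hφ⟩
    have : Module.Finite A J := Module.Finite.iff_fg.2 hJ
    exact Module.finitePresentation_of_finite A J
  obtain ⟨r, j, hj⟩ := Submodule.fg_iff_exists_fin_generating_family.1 hJ
  choose v hv using fun i => hφ (j i)
  have hjJ : ∀ i, j i ∈ J := fun i => hj ▸ Submodule.subset_span ⟨i, rfl⟩
  let f : (Fin r → A) →ₗ[A] J :=
    (Fintype.linearCombination A j).codRestrict J fun x => by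
      rw [Fintype.linearCombination_apply]
      exact sum_mem fun i _ => J.smul_mem _ (hjJ i)
  have hf : Function.Surjective f := by
    rintro ⟨y, hy⟩
    rw [← hj, ← Fintype.range_linearCombination] at hy
    obtain ⟨x, hx⟩ := hy
    exact ⟨x, Subtype.ext hx⟩
  refine Module.finitePresentation_of_surjective f hf ?_
  algebraize [φ.toRingHom]
  let P := RPow R (Ideal.span {t}) n
  let π : (Fin r → P) →ₗ[P] (Fin r → A) :=
    LinearMap.pi fun i => (Algebra.linearMap P A).comp (LinearMap.proj i)
  refine Submodule.FG.of_restrictScalars P ?_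
  have hker : (LinearMap.ker f).restrictScalars P =
      (Submodule.comap (Fintype.linearCombination P v) (RingHom.ker φ.toRingHom)).map π := by
    refine le_antisymm (fun x hx => ?_) ?_
    · choose y hy using fun i => hφ (x i)
      refine ⟨y, ?_, funext hy⟩
      have := congrArg Subtype.val (LinearMap.mem_ker.1 hx)
      simp only [f, LinearMap.codRestrict_apply, Fintype.linearCombination_apply, smul_eq_mul,
        ZeroMemClass.coe_zero] at this
      simp only [SetLike.mem_coe, Submodule.mem_comap, RingHom.mem_ker,
        Fintype.linearCombination_apply, smul_eq_mul, map_sum, map_mul]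
      simpa [hy, hv] using this
    · rintro _ ⟨y, hy, rfl⟩
      simp only [SetLike.mem_coe, Submodule.mem_comap, RingHom.mem_ker,
        Fintype.linearCombination_apply, smul_eq_mul, map_sum, map_mul] at hy
      refine LinearMap.mem_ker.2 (Subtype.ext ?_)
      simp only [f, LinearMap.codRestrict_apply, Fintype.linearCombination_apply, smul_eq_mul]
      simpa [π, RingHom.algebraMap_toAlgebra, hv] using hy
  rw [hker]
  exact (rpow_coherent ht htu v hK).map π

end Groth.Agent.Adic.CV
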