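import Groth.Agent.Adic.CV.Base

/-!
Finite modules over algebras topologically of finite type are complete and separated.
-/

namespace Groth.Agent.Adic.CV

open AdicRing MvPolynomial

universe u v w

variable {R : Type u} [CommRing R] {I : Ideal R}

theorem isPrecomplete_of_surjective {M N : Type*} [AddCommGroup M] [Module R M] [AddCommGroup N]
    [Module R N] [IsPrecomplete I M] (f : M →ₗ[R] N) (hf : Function.Surjective f) :
    IsPrecomplete I N where
  prec' g hg := by
    have hmap : ∀ k, (I ^ k • ⊤ : Submodule R N) = (I ^ k • ⊤ : Submodule R M).map f := fun k => by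
      rw [Submodule.map_smul'', Submodule.map_top, LinearMap.range_eq_top.2 hf]
    obtain ⟨a0, ha0⟩ := hf (g 0)
    have step : ∀ k (a : M), f a = g k → ∃ b : M, f b = g (k + 1) ∧
        b - a ∈ (I ^ k • ⊤ : Submodule R M) := by
      intro k a ha
      have := (hg k.le_succ).symm
      rw [SModEq.sub_mem, hmap] at this
      obtain ⟨c, hc, hc'⟩ := this
      exact ⟨a + c, by rw [map_add, ha, hc']; abel, by simpa using hc⟩
    choose! b hb hb' using step
    let a : ℕ → M := fun k => Nat.rec a0 (fun k x => b k x) k
    have ha : ∀ k, f (a k) = g k := fun k => by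
      induction k with
      | zero => exact ha0
      | succ k ih => exact hb k _ ih
    have hcauchy : ∀ {m n}, m ≤ n → a m ≡ a n [SMOD (I ^ m • ⊤ : Submodule R M)] := by
      intro m n hmn
      induction n, hmn using Nat.le_induction with
      | base => rfl
      | succ n hmn ih =>
        refine ih.trans (SModEq.sub_mem.2 ?_)
        rw [← neg_sub]
        exact neg_mem (Submodule.smul_mono (Ideal.pow_le_pow_right hmn) le_rfl (hb' n _ (ha n)))
    obtain ⟨L, hL⟩ := IsPrecomplete.prec inferInstance (f := a) hcauchy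
    refine ⟨f L, fun k => ?_⟩
    rw [SModEq.sub_mem, hmap, ← ha, ← map_sub]
    exact Submodule.mem_map_of_mem (SModEq.sub_mem.1 (hL k))

theorem mem_smul_top_pi {M : Type*} [AddCommGroup M] [Module R M] (J : Ideal R) {s : ℕ}
    {x : Fin s → M} :
    x ∈ (J • ⊤ : Submodule R (Fin s → M)) ↔ ∀ j, x j ∈ (J • ⊤ : Submodule R M) := by
  constructor
  · intro h j
    have := Submodule.mem_map_of_mem (f := (LinearMap.proj j : (Fin s → M) →ₗ[R] M)) h
    rw [Submodule.map_smul''] at this
    exact Submodule.smul_mono le_rfl le_top this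
  · intro h
    rw [show x = ∑ j, LinearMap.single R (fun _ : Fin s => M) j (x j) from
      (Finset.univ_sum_single x).symm]
    refine sum_mem fun j _ => ?_
    have := Submodule.mem_map_of_mem (f := LinearMap.single R (fun _ : Fin s => M) j) (h j)
    rw [Submodule.map_smul''] at this
    exact Submodule.smul_mono le_rfl le_top this

theorem isAdicComplete_piFin {M : Type*} [AddCommGroup M] [Module R M] [IsAdicComplete I M]
    (s : ℕ) : IsAdicComplete I (Fin s → M) where
  haus' x hx := by
    funext j
    refine IsHausdorff.haus inferInstance (I := I) (x j) fun n => ?_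
    have := hx n
    rw [SModEq.sub_mem, sub_zero] at this ⊢
    exact (mem_smul_top_pi _).1 this j
  prec' f hf := by
    have h : ∀ j, ∀ {m n}, m ≤ n → f m j ≡ f n j [SMOD (I ^ m • ⊤ : Submodule R M)] := by
      intro j m n hmn
      exact SModEq.sub_mem.2 ((mem_smul_top_pi _).1 (SModEq.sub_mem.1 (hf hmn)) j)
    choose L hL using fun j => IsPrecomplete.prec inferInstance (f := fun n => f n j) (h j)
    exact ⟨L, fun n => SModEq.sub_mem.2 ((mem_smul_top_pi _).2 fun j => SModEq.sub_mem.1 (hL j n))⟩

theorem map_le_jacobson_of_topFiniteType (hI : I.FG) {A : Type v} [CommRing A] [Algebra R A]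
    (hA : TopFiniteType R I A) : I.map (algebraMap R A) ≤ (⊥ : Ideal A).jacobson := by
  obtain ⟨n, φ, hφ⟩ := hA
  have := isAdicComplete_rpow hI n
  have h := IsAdicComplete.le_jacobson_bot (I.map (algebraMap R (RPow R I n)))
  intro x hx
  rw [← φ.comp_algebraMap, ← Ideal.map_map] at hx
  obtain ⟨z, hz, rfl⟩ := (Ideal.mem_map_iff_of_surjective _ hφ).1 hx
  rw [Ideal.mem_jacobson_bot]
  intro y
  obtain ⟨w, rfl⟩ := hφ y
  have := ((Ideal.mem_jacobson_bot.1 (h hz)) w).map φ.toRingHom
  simpa using this

/-- If `F` is complete, `N` has finitely generated saturation, then `N` is closed. -/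
theorem mem_of_forall_mem_sup {A : Type*} {F : Type*} [CommRing A] [Algebra R A] [AddCommGroup F]
    [Module A F] [Module R F] [IsScalarTower R A F] {t : R}
    [IsPrecomplete (Ideal.span {algebraMap R A t}) A]
    [IsHausdorff (Ideal.span {algebraMap R A t}) F] {N : Submodule A F}
    (hfg : (saturation (Ideal.span {t}) N).FG) {x : F}
    (hx : ∀ k : ℕ, ∃ n ∈ N, ∃ y, x = n + t ^ k • y) : x ∈ N := by
  have hsat := (sat_singleton_iff t _).1 (sat_saturation ⟨{t}, by simp⟩ N)
  let S := saturation (Ideal.span {t}) N
  let L : Submodule A F :=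
    { carrier := {x | ∀ k : ℕ, ∃ n ∈ S, ∃ y, x = n + t ^ k • y}
      zero_mem' := fun k => ⟨0, zero_mem _, 0, by simp⟩
      add_mem' := fun {a b} ha hb k => by
        obtain ⟨n, hn, y, rfl⟩ := ha k
        obtain ⟨n', hn', y', rfl⟩ := hb k
        exact ⟨n + n', add_mem hn hn', y + y', by rw [smul_add]; abel⟩
      smul_mem' := fun c a ha k => by
        obtain ⟨n, hn, y, rfl⟩ := ha k
        exact ⟨c • n, S.smul_mem c hn, c • y, by rw [smul_add, smul_comm]⟩ }
  have hle : L ≤ S := by
    refine le_of_le_sup_smul (algebraMap R A t) hfg fun x hx => ?_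
    obtain ⟨n, hn, y, rfl⟩ := hx 1
    refine ⟨n, hn, y, fun k => ?_, by rw [algebraMap_smul, pow_one]⟩
    obtain ⟨n', hn', y', e⟩ := hx (k + 1)
    refine ⟨y - t ^ k • y', hsat _ ?_, y', by abel⟩
    have : t • (y - t ^ k • y') = n' - n := by
      rw [pow_one] at e
      rw [smul_sub, smul_smul, ← pow_succ', sub_eq_sub_iff_add_eq_add, add_comm _ n, e, add_comm]
    rw [this]
    exact sub_mem hn' hn
  obtain ⟨a, ha⟩ := exists_pow_saturation_le N hfg
  obtain ⟨n, hn, y, rfl⟩ := hx a
  have hxS : n + t ^ a • y ∈ S := hle fun k => by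
    obtain ⟨n', hn', y', e⟩ := hx k
    exact ⟨n', le_saturation N hn', y', e⟩
  have hy : y ∈ S := by
    have h1 : t ^ a • y ∈ S := by simpa using sub_mem hxS (le_saturation N hn)
    refine sat_saturation ⟨{t}, by simp⟩ N y a fun r hr => ?_
    rw [Ideal.span_singleton_pow, Ideal.mem_span_singleton'] at hr
    obtain ⟨b, rfl⟩ := hr
    rw [mul_smul]
    exact Submodule.smul_of_tower_mem _ b h1
  exact add_mem hn (ha y hy _ (Ideal.pow_mem_pow (Ideal.mem_span_singleton_self t) a))

/-- Finite modules over algebras topologically of finite type over a base ring are complete. -/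
theorem isAdicComplete_of_finite (h : IsBase R I) {A : Type u} [CommRing A] [Algebra R A]
    (hA : TopFiniteType R I A) (M : Type u) [AddCommGroup M] [Module A M] [Module R M]
    [IsScalarTower R A M] [Module.Finite A M] : IsAdicComplete I M := by
  obtain ⟨n, φ, hφ⟩ := id hA
  algebraize [φ.toRingHom]
  letI : Module (RPow R I n) M := Module.compHom M φ.toRingHom
  have : IsScalarTower (RPow R I n) A M := IsScalarTower.of_algebraMap_smul fun _ _ => rfl
  have : IsScalarTower R (RPow R I n) M := IsScalarTower.of_algebraMap_smul fun r x => by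
    show φ (algebraMap R (RPow R I n) r) • x = r • x
    rw [φ.commutes, algebraMap_smul]
  have : Module.Finite (RPow R I n) A := Module.Finite.of_surjective (Algebra.linearMap _ A) hφ
  have : Module.Finite (RPow R I n) M := Module.Finite.trans A M
  obtain ⟨s, f, hf⟩ := Module.Finite.exists_fin' (RPow R I n) M
  have hP := isAdicComplete_rpow (fg_of_isBase h) n
  have hPR : IsAdicComplete I (RPow R I n) := (IsAdicComplete.map_algebraMap_iff _ _).1 hP
  rcases isBase_cases h with hN | ⟨_, _, _, t, ht, htu, rfl⟩
  · have := isNoetherianRing_of_topFiniteType hA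
    have hjac := map_le_jacobson_of_topFiniteType (fg_of_isBase h) hA
    have : IsHausdorff I M := (IsHausdorff.map_algebraMap_iff (R := R) (S := A)).1
      (IsHausdorff.of_le_jacobson (M := M) (I.map (algebraMap R A)) hjac)
    have := isAdicComplete_piFin (I := I) (M := RPow R I n) s
    have := isPrecomplete_of_surjective (I := I) (f.restrictScalars R) hf
    exact ⟨⟩
  · have : IsAdicComplete (Ideal.span {t}) (Fin s → RPow R (Ideal.span {t}) n) :=
      isAdicComplete_finFun t s
    have := isPrecomplete_of_surjective (I := Ideal.span {t}) (f.restrictScalars R) hf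
    refine { haus' := fun x hx => ?_, toIsPrecomplete := this }
    obtain ⟨z, rfl⟩ := hf x
    have hP1 := isAdicComplete_rpow_singleton t n
    have : IsHausdorff (Ideal.span {algebraMap R (RPow R (Ideal.span {t}) n) t})
        (Fin s → RPow R (Ideal.span {t}) n) := by
      rw [← Set.image_singleton, ← Ideal.map_span]
      exact (IsHausdorff.map_algebraMap_iff (R := R)).2 inferInstance
    refine LinearMap.mem_ker.1 (mem_of_forall_mem_sup (t := t) (N := LinearMap.ker f)
      (satFG_rpow ht htu n _ _ (sat_saturation ⟨{t}, by simp⟩ _)) fun k => ?_)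
    have := hx k
    rw [SModEq.sub_mem, sub_zero, Ideal.span_singleton_pow, Submodule.ideal_span_singleton_smul,
      Submodule.mem_smul_pointwise_iff_exists] at this
    obtain ⟨y, -, hy⟩ := this
    obtain ⟨w, rfl⟩ := hf y
    exact ⟨z - t ^ k • w, LinearMap.mem_ker.2 (by rw [map_sub, LinearMap.map_smul_of_tower, hy, sub_self]),
      w, by abel⟩

end Groth.Agent.Adic.CV
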