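import Groth.Agent.Adic.CV.Complete
import Mathlib.RingTheory.AdicCompletion.Algebra
import Mathlib.RingTheory.FinitePresentation
import Mathlib.RingTheory.FiniteType

/-!
Truncations of completions and of algebras topologically of finite type or presentation.
-/

namespace Groth.Agent.Adic.CV

open AdicRing MvPolynomial

universe u v w

variable {R : Type u} [CommRing R] {I : Ideal R}

/-- The completion of an `R`-algebra along an ideal of `R`. -/
abbrev Compl (I : Ideal R) (C : Type v) [CommRing C] [Algebra R C] : Type v :=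
  AdicCompletion (I.map (algebraMap R C)) C

variable {C : Type v} [CommRing C] [Algebra R C]

theorem evalₐ_pow (k : ℕ) :
    Function.Surjective (AdicCompletion.evalₐ (I.map (algebraMap R C)) k) :=
  AdicCompletion.surjective_evalₐ _ k

theorem ker_evalₐ (hI : I.FG) (k : ℕ) :
    RingHom.ker (AdicCompletion.evalₐ (I.map (algebraMap R C)) k).toRingHom =
      (I ^ k).map (algebraMap R (Compl I C)) := by
  have h := AdicCompletion.pow_smul_top_eq_ker_eval (M := C) (n := k) (hI.map (algebraMap R C))
  ext x
  have h1 : x ∈ (I ^ k).map (algebraMap R (Compl I C)) ↔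
      x ∈ ((I.map (algebraMap R C)) ^ k • ⊤ : Submodule C (Compl I C)) := by
    rw [Ideal.smul_top_eq_map, Submodule.restrictScalars_mem, ← Ideal.map_pow, Ideal.map_map,
      ← IsScalarTower.algebraMap_eq]
  rw [h1, h, RingHom.mem_ker, LinearMap.mem_ker, AdicCompletion.eval_apply]
  obtain ⟨a, rfl⟩ := AdicCompletion.mk_surjective (I.map (algebraMap R C)) C x
  simp only [AlgHom.toRingHom_eq_coe, RingHom.coe_coe, AdicCompletion.evalₐ_mk,
    AdicCompletion.mk_apply_coe, Ideal.Quotient.eq_zero_iff_mem, Submodule.mkQ_apply,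
    Submodule.Quotient.mk_eq_zero, smul_eq_mul, Ideal.mul_top]

/-- The truncations of the completion of `C` are those of `C`, over any ring of scalars. -/
noncomputable def quotComplOver (S : Type w) [CommRing S] [Algebra S C] (hI : I.FG) (k : ℕ) :
    (Compl I C ⧸ (I ^ k).map (algebraMap R (Compl I C))) ≃ₐ[S]
      C ⧸ (I.map (algebraMap R C)) ^ k :=
  (Ideal.quotientEquivAlgOfEq S (ker_evalₐ hI k).symm).trans
    (Ideal.quotientKerAlgEquivOfSurjective
      (f := (AdicCompletion.evalₐ (I.map (algebraMap R C)) k).restrictScalars S) (evalₐ_pow k))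

/-- The truncations of the completion of `C` are those of `C`. -/
noncomputable def quotCompl (hI : I.FG) (k : ℕ) :
    (Compl I C ⧸ (I ^ k).map (algebraMap R (Compl I C))) ≃ₐ[R]
      C ⧸ (I.map (algebraMap R C)) ^ k :=
  quotComplOver R hI k

theorem isAdicComplete_compl (hI : I.FG) :
    IsAdicComplete (I.map (algebraMap R (Compl I C))) (Compl I C) := by
  have := AdicCompletion.isAdicComplete (M := C) (hI.map (algebraMap R C))
  have h := (IsAdicComplete.map_algebraMap_iff (S := Compl I C) (I.map (algebraMap R C))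
    (Compl I C)).2 this
  rwa [Ideal.map_map, ← IsScalarTower.algebraMap_eq] at h

variable {A : Type v} [CommRing A] [Algebra R A]

theorem finiteType_trunc (hA : TopFiniteType R I A) (hI : I.FG) (m : ℕ) :
    Algebra.FiniteType R (trunc A I m) := by
  obtain ⟨n, φ, hφ⟩ := hA
  let q : Compl I (MvPolynomial (Fin n) R) →ₐ[R] trunc A I m := (Ideal.Quotient.mkₐ R _).comp φ
  have hq : Function.Surjective q := Ideal.Quotient.mk_surjective.comp hφ
  refine Algebra.FiniteType.of_surjective (A := MvPolynomial (Fin n) R)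
    (q.comp (IsScalarTower.toAlgHom R (MvPolynomial (Fin n) R) (Compl I (MvPolynomial (Fin n) R)))) fun y => ?_
  obtain ⟨x, rfl⟩ := hq y
  obtain ⟨p, hp⟩ := Ideal.Quotient.mk_surjective
    (AdicCompletion.evalₐ (I.map (algebraMap R (MvPolynomial (Fin n) R))) (m + 1) x)
  refine ⟨p, ?_⟩
  have hd : AdicCompletion.of (I.map (algebraMap R (MvPolynomial (Fin n) R))) _ p - x ∈
      (I ^ (m + 1)).map (algebraMap R (Compl I (MvPolynomial (Fin n) R))) := by
    rw [← ker_evalₐ hI, RingHom.mem_ker]
    show AdicCompletion.evalₐ _ _ (_ - x) = 0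
    rw [map_sub, AdicCompletion.evalₐ_of, hp, sub_self]
  have := Ideal.mem_map_of_mem q.toRingHom hd
  rw [Ideal.map_map] at this
  erw [q.comp_algebraMap] at this
  rw [← sub_eq_zero]
  have h0 : (I ^ (m + 1)).map (algebraMap R (trunc A I m)) = ⊥ := by
    rw [IsScalarTower.algebraMap_eq R A (trunc A I m), ← Ideal.map_map, Ideal.Quotient.algebraMap_eq,
      Ideal.map_quotient_self]
  rw [h0, Ideal.mem_bot] at this
  exact (map_sub q _ _).symm.trans this

theorem topFiniteType_of_finiteType_trunc (hI : I.FG) [IsAdicComplete (I.map (algebraMap R A)) A]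
    (h : Algebra.FiniteType R (trunc A I 0)) : TopFiniteType R I A := by
  obtain ⟨n, g, hg⟩ := Algebra.FiniteType.iff_quotient_mvPolynomial''.1 h
  choose v hv using fun i => Ideal.Quotient.mk_surjective (g (X i))
  refine ⟨n, rpowLift I v, ?_⟩
  have hP := isAdicComplete_rpow hI n
  let ψ := rpowLift (n := n) I v
  have e : (I.map (algebraMap R (RPow R I n))).map ψ.toRingHom = I.map (algebraMap R A) := by
    rw [Ideal.map_map]; exact congrArg (fun f => Ideal.map f I) ψ.comp_algebraMap
  have : IsHausdorff ((I.map (algebraMap R (RPow R I n))).map ψ.toRingHom) A := by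
    rw [e]; infer_instance
  refine surjective_of_mk_map_comp_surjective (I := I.map (algebraMap R (RPow R I n)))
    ψ.toRingHom fun y => ?_
  obtain ⟨y, rfl⟩ := Ideal.Quotient.mk_surjective y
  obtain ⟨p, hp⟩ := hg (Ideal.Quotient.mk _ y)
  refine ⟨AdicCompletion.of _ _ p, ?_⟩
  have hcomp : (Ideal.Quotient.mkₐ R _).comp
      (ψ.comp (IsScalarTower.toAlgHom R (MvPolynomial (Fin n) R) (RPow R I n))) = g :=
    MvPolynomial.algHom_ext fun i => by
      show Ideal.Quotient.mk _ (ψ (varX I i)) = _
      rw [rpowLift_varX, hv]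
  have := DFunLike.congr_fun hcomp p
  rw [hp] at this
  show Ideal.Quotient.mk _ (ψ _) = Ideal.Quotient.mk _ y
  rw [Ideal.Quotient.eq, e]
  have h2 := Ideal.Quotient.eq.1 this
  rwa [zero_add, pow_one] at h2

end Groth.Agent.Adic.CV
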