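import Groth.Agent.Adic.CV.PolyMod
import Groth.Agent.Adic.CV.Trunc
import Mathlib.RingTheory.AdicCompletion.AsTensorProduct
import Mathlib.RingTheory.Flat.Tensor

/-!
Completion of finite modules over rings whose saturated submodules are finitely generated.
-/

namespace Groth.Agent.Adic.CV

open AdicRing TensorProduct

universe u

variable {R : Type u} [CommRing R] {t : R} {B : Type u} [CommRing B] [Algebra R B]

set_option quotPrecheck false in
local notation "J" => Ideal.map (algebraMap R B) (Ideal.span {t})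

theorem mem_pow_smul_iff {M : Type u} [AddCommGroup M] [Module B M] (k : ℕ) (x : M) :
    x ∈ ((J) ^ k • ⊤ : Submodule B M) ↔ ∃ y, x = algebraMap R B (t ^ k) • y := by
  rw [← Ideal.map_pow, Ideal.span_singleton_pow, Ideal.map_span, Set.image_singleton,
    Submodule.ideal_span_singleton_smul, Submodule.mem_smul_pointwise_iff_exists]
  exact ⟨fun ⟨y, _, e⟩ => ⟨y, e.symm⟩, fun ⟨y, e⟩ => ⟨y, trivial, e.symm⟩⟩

theorem ker_eval_eq (M : Type u) [AddCommGroup M] [Module B M] {k : ℕ}
    {x : AdicCompletion (J) M} (hx : x.val k = 0) : ∃ y, x = algebraMap R B (t ^ k) • y := by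
  have h : x ∈ (AdicCompletion.eval (J) M k).ker := hx
  rw [← AdicCompletion.pow_smul_top_eq_ker_eval
    (Ideal.FG.map (⟨{t}, by simp⟩ : (Ideal.span {t}).FG) _)] at h
  exact (mem_pow_smul_iff k x).1 h

theorem val_of_sub_eq_zero {M : Type u} [AddCommGroup M] [Module B M] {k : ℕ}
    (x : AdicCompletion (J) M) : ∃ z, (x - AdicCompletion.of (J) M z).val k = 0 := by
  obtain ⟨z, hz⟩ := Submodule.Quotient.mk_surjective _ (x.val k)
  refine ⟨z, ?_⟩
  rw [AdicCompletion.val_sub_apply, AdicCompletion.of_apply, Submodule.mkQ_apply, hz, sub_self]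

variable {F : Type u} [AddCommGroup F] [Module B F]

/-- The kernel of the completion of a quotient map by `N` is generated by `N`. -/
theorem mem_span_image_of {N : Submodule B F}
    [Module R F] [IsScalarTower R B F]
    (hfg : (saturation (Ideal.span {t}) N).FG) {x : AdicCompletion (J) F}
    (hx : ∀ k : ℕ, ∃ n ∈ N, (x - AdicCompletion.of (J) F n).val k = 0) :
    x ∈ Submodule.span (AdicCompletion (J) B) (AdicCompletion.of (J) F '' N) := by
  classical
  let S := saturation (Ideal.span {t}) N
  have hS := (sat_singleton_iff t S).1 (sat_saturation ⟨{t}, by simp⟩ N)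
  obtain ⟨r, v, hv⟩ : ∃ (r : ℕ) (v : Fin r → F), Submodule.span B (Set.range v) = S :=
    Submodule.fg_iff_exists_fin_generating_family.1 hfg
  have hvS : ∀ i, v i ∈ S := fun i => hv ▸ Submodule.subset_span ⟨i, rfl⟩
  let B' := AdicCompletion (J) B
  let G : Submodule B' (AdicCompletion (J) F) :=
    Submodule.span B' (Set.range fun i => AdicCompletion.of (J) F (v i))
  have hG : G.FG := Submodule.fg_span (Set.finite_range _)
  have hSG : ∀ z ∈ S, AdicCompletion.of (J) F z ∈ G := by
    intro z hz
    rw [← hv] at hz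
    obtain ⟨c, rfl⟩ := (Submodule.mem_span_range_iff_exists_fun _).1 hz
    rw [map_sum]
    refine sum_mem fun i _ => ?_
    rw [map_smul, ← algebraMap_smul B' (c i)]
    exact Submodule.smul_mem _ _ (Submodule.subset_span ⟨i, rfl⟩)
  have happrox : ∀ g ∈ G, ∀ k, ∃ z ∈ S, (g - AdicCompletion.of (J) F z).val k = 0 := by
    intro g hg k
    induction hg using Submodule.span_induction with
    | mem g hg =>
      obtain ⟨i, rfl⟩ := hg
      exact ⟨v i, hvS i, by rw [sub_self]; rfl⟩
    | zero => exact ⟨0, zero_mem _, by rw [map_zero, sub_self]; rfl⟩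
    | add a b _ _ ha hb =>
      obtain ⟨z, hz, hz'⟩ := ha
      obtain ⟨w, hw, hw'⟩ := hb
      refine ⟨z + w, add_mem hz hw, ?_⟩
      rw [map_add, add_sub_add_comm, AdicCompletion.val_add_apply, hz', hw', add_zero]
    | smul b g _ hg =>
      obtain ⟨z, hz, hz'⟩ := hg
      obtain ⟨b0, hb0⟩ := val_of_sub_eq_zero (k := k) b
      refine ⟨b0 • z, Submodule.smul_mem _ _ hz, ?_⟩
      have e : b • g - AdicCompletion.of (J) F (b0 • z) =
          (b - AdicCompletion.of (J) B b0) • g + b0 • (g - AdicCompletion.of (J) F z) := by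
        rw [map_smul, smul_sub, sub_smul, show AdicCompletion.of (J) B b0 • g = b0 • g from
          algebraMap_smul B' b0 g]
        abel
      rw [e, AdicCompletion.val_add_apply, AdicCompletion.smul_eval, hb0, AdicCompletion.val_smul_apply,
        hz', smul_zero, add_zero]
      exact zero_smul _ _
  -- `L` is the closure of `G`
  let L : Submodule B' (AdicCompletion (J) F) :=
    { carrier := {y | ∀ k : ℕ, ∃ g ∈ G, (y - g).val k = 0}
      zero_mem' := fun k => ⟨0, zero_mem _, by rw [sub_self]; rfl⟩
      add_mem' := fun {a b} ha hb k => by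
        obtain ⟨g, hg, hg'⟩ := ha k
        obtain ⟨g', hg'', hg'''⟩ := hb k
        refine ⟨g + g', add_mem hg hg'', ?_⟩
        rw [add_sub_add_comm, AdicCompletion.val_add_apply, hg', hg''', add_zero]
      smul_mem' := fun c a ha k => by
        obtain ⟨g, hg, hg'⟩ := ha k
        refine ⟨c • g, G.smul_mem c hg, ?_⟩
        rw [← smul_sub, AdicCompletion.smul_eval, hg']
        exact smul_zero _ }
  -- division by `t` inside `G`, up to a given level
  have hdiv : ∀ (z : AdicCompletion (J) F), algebraMap R B t • z ∈ G → z ∈ L := by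
    intro z hz k
    obtain ⟨z0, hz0⟩ := val_of_sub_eq_zero (k := k + 1) z
    obtain ⟨n0, hn0, hn0'⟩ := happrox _ hz (k + 1)
    have hdiff : algebraMap R B t • z0 - n0 ∈ ((J) ^ (k + 1) • ⊤ : Submodule B F) := by
      have : (AdicCompletion.of (J) F (algebraMap R B t • z0 - n0)).val (k + 1) = 0 := by
        rw [show AdicCompletion.of (J) F (algebraMap R B t • z0 - n0) =
          (algebraMap R B t • z - AdicCompletion.of (J) F n0) -
            algebraMap R B t • (z - AdicCompletion.of (J) F z0) by
              rw [map_sub, map_smul, smul_sub]; abel]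
        rw [AdicCompletion.val_sub_apply, hn0', AdicCompletion.val_smul_apply, hz0, smul_zero,
          sub_zero]
      rwa [AdicCompletion.of_apply, Submodule.mkQ_apply, Submodule.Quotient.mk_eq_zero] at this
    obtain ⟨w, hw⟩ := (mem_pow_smul_iff _ _).1 hdiff
    have hmem : z0 - algebraMap R B (t ^ k) • w ∈ S := hS _ (by
      have : t • (z0 - algebraMap R B (t ^ k) • w) = n0 := by
        rw [← algebraMap_smul B t, smul_sub, smul_smul, ← map_mul, ← pow_succ', ← hw]
        abel
      rw [this]; exact hn0)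
    refine ⟨_, hSG _ hmem, ?_⟩
    rw [map_sub, map_smul, sub_sub_eq_add_sub, add_sub_right_comm, AdicCompletion.val_add_apply]
    have h1 : (z - AdicCompletion.of (J) F z0).val k = 0 := by
      rw [← AdicCompletion.transitionMap_comp_eval_apply (J) F k.le_succ]
      show AdicCompletion.transitionMap (J) F k.le_succ ((z - AdicCompletion.of (J) F z0).val (k + 1)) = 0
      rw [hz0, map_zero]
    rw [h1, zero_add]
    rw [← map_smul, AdicCompletion.of_apply, Submodule.mkQ_apply, Submodule.Quotient.mk_eq_zero]
    exact (mem_pow_smul_iff _ _).2 ⟨w, rfl⟩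
  have hle : L ≤ G := by
    have hB := isAdicComplete_compl (R := R) (C := B) (I := Ideal.span {t}) ⟨{t}, by simp⟩
    have e : (Ideal.span {t}).map (algebraMap R B') = Ideal.span {algebraMap R B' t} := by
      simp only [Ideal.map_span, Set.image_singleton]
    have : IsPrecomplete (Ideal.span {algebraMap R B' t}) B' := by
      rw [← e]; exact hB.toIsPrecomplete
    have : IsHausdorff (Ideal.span {algebraMap R B' t}) (AdicCompletion (J) F) := by
      rw [← e, IsScalarTower.algebraMap_eq R B B', ← Ideal.map_map]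
      exact (IsHausdorff.map_algebraMap_iff (R := B) (S := B')).2 inferInstance
    refine le_of_le_sup_smul (algebraMap R B' t) hG fun y hy => ?_
    obtain ⟨g, hg, hg'⟩ := hy 1
    obtain ⟨z, hz⟩ := ker_eval_eq F hg'
    refine ⟨g, hg, z, fun k => ?_, ?_⟩
    · obtain ⟨g', hg1, hg2⟩ := hy (k + 1)
      obtain ⟨z', hz'⟩ := ker_eval_eq F hg2
      have hzg : algebraMap R B t • (z - algebraMap R B (t ^ k) • z') ∈ G := by
        have : algebraMap R B t • (z - algebraMap R B (t ^ k) • z') = g' - g := by
          rw [smul_sub, smul_smul, ← map_mul, ← pow_succ', ← hz']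
          rw [pow_one] at hz
          rw [← hz]
          abel
        rw [this]; exact sub_mem hg1 hg
      obtain ⟨g'', hg3, hg4⟩ := hdiv _ hzg k
      refine ⟨g'', hg3, ?_⟩
      rw [show z - g'' = (z - algebraMap R B (t ^ k) • z' - g'') + algebraMap R B (t ^ k) • z' by abel,
        AdicCompletion.val_add_apply, hg4, zero_add]
      obtain ⟨z'', hz''⟩ := val_of_sub_eq_zero (k := k) z'
      rw [show algebraMap R B (t ^ k) • z' = algebraMap R B (t ^ k) • (z' - AdicCompletion.of (J) F z'') +
          AdicCompletion.of (J) F (algebraMap R B (t ^ k) • z'') by rw [map_smul, smul_sub]; abel,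
        AdicCompletion.val_add_apply, AdicCompletion.val_smul_apply, hz'', smul_zero, zero_add,
        AdicCompletion.of_apply, Submodule.mkQ_apply, Submodule.Quotient.mk_eq_zero]
      exact (mem_pow_smul_iff _ _).2 ⟨z'', rfl⟩
    · rw [show algebraMap R B' t • z = algebraMap R B t • z from
        algebraMap_smul B' (algebraMap R B t) z]
      rw [pow_one] at hz
      rw [← hz]; abel
  obtain ⟨a, ha⟩ := exists_pow_saturation_le N hfg
  obtain ⟨n, hn, hn'⟩ := hx a
  obtain ⟨y, hy⟩ := ker_eval_eq F hn'
  have hxG : x ∈ G := hle fun k => by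
    obtain ⟨n', hn1, hn2⟩ := hx k
    exact ⟨_, hSG _ (le_saturation N hn1), hn2⟩
  have hyG : y ∈ G := by
    have h1 : algebraMap R B (t ^ a) • y ∈ G := hy ▸ sub_mem hxG (hSG _ (le_saturation N hn))
    have : ∀ j, algebraMap R B (t ^ j) • y ∈ G → y ∈ G := by
      intro j
      induction j with
      | zero => simp
      | succ j ih =>
        intro hj
        refine ih (hle (hdiv _ ?_))
        rwa [smul_smul, ← map_mul, ← pow_succ']
    exact this a h1
  rw [eq_add_of_sub_eq hy]
  refine add_mem ?_ (Submodule.subset_span ⟨n, hn, rfl⟩)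
  obtain ⟨c, rfl⟩ := (Submodule.mem_span_range_iff_exists_fun _).1 hyG
  rw [Finset.smul_sum]
  refine sum_mem fun i _ => ?_
  rw [smul_comm, ← map_smul]
  refine Submodule.smul_mem _ _ (Submodule.subset_span ⟨_, ?_, rfl⟩)
  rw [algebraMap_smul]
  exact ha _ (hvS i) _
    (Ideal.pow_mem_pow (Ideal.mem_span_singleton_self t) a)

theorem ofTensorProduct_bijective_of_satFG (hsat : SatFG (Ideal.span {t}) B) (M : Type u)
    [AddCommGroup M] [Module B M] [Module.Finite B M] :
    Function.Bijective (AdicCompletion.ofTensorProduct (J) M) := by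
  refine ⟨?_, AdicCompletion.ofTensorProduct_surjective_of_finite (J) M⟩
  rw [injective_iff_map_eq_zero]
  obtain ⟨s, π, hπ⟩ := Module.Finite.exists_fin' B M
  intro x hx
  obtain ⟨x', rfl⟩ := LinearMap.lTensor_surjective (AdicCompletion (J) B) hπ x
  have hx' : AdicCompletion.map (J) π (AdicCompletion.ofTensorProduct (J) (Fin s → B) x') = 0 := by
    have := LinearMap.congr_fun (AdicCompletion.ofTensorProduct_naturality (J) π) x'
    exact this.trans hx
  have hmem := mem_span_image_of (N := LinearMap.ker π)
    (hsat _ _ (sat_saturation ⟨{t}, by simp⟩ _))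
    (x := AdicCompletion.ofTensorProduct (J) (Fin s → B) x') fun k => by
    obtain ⟨z, hz⟩ := val_of_sub_eq_zero (k := k)
      (AdicCompletion.ofTensorProduct (J) (Fin s → B) x')
    have h0 : (AdicCompletion.map (J) π (AdicCompletion.of (J) _ z)).val k = 0 := by
      have h2 : (AdicCompletion.map (J) π (AdicCompletion.ofTensorProduct (J) (Fin s → B) x' -
          AdicCompletion.of (J) _ z)).val k = 0 := by
        rw [AdicCompletion.map_val_apply, hz, map_zero]
      rwa [map_sub, hx', zero_sub, AdicCompletion.val_neg_apply, neg_eq_zero] at h2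
    rw [AdicCompletion.map_of, AdicCompletion.of_apply, Submodule.mkQ_apply,
      Submodule.Quotient.mk_eq_zero] at h0
    obtain ⟨w, hw⟩ := (mem_pow_smul_iff k (π z)).1 h0
    obtain ⟨w', rfl⟩ := hπ w
    refine ⟨z - algebraMap R B (t ^ k) • w', by simp [hw], ?_⟩
    rw [map_sub, ← sub_add, AdicCompletion.val_add_apply, hz, zero_add, AdicCompletion.of_apply,
      Submodule.mkQ_apply, Submodule.Quotient.mk_eq_zero]
    exact (mem_pow_smul_iff k _).2 ⟨w', rfl⟩
  obtain ⟨c, hc1, hc2⟩ : ∃ c, AdicCompletion.ofTensorProduct (J) (Fin s → B) c =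
      AdicCompletion.ofTensorProduct (J) (Fin s → B) x' ∧ π.lTensor (AdicCompletion (J) B) c = 0 := by
    generalize AdicCompletion.ofTensorProduct (J) (Fin s → B) x' = y at hmem ⊢
    induction hmem using Submodule.span_induction with
    | mem y hy =>
      obtain ⟨n, hn, rfl⟩ := hy
      refine ⟨1 ⊗ₜ n, by simp, ?_⟩
      rw [LinearMap.lTensor_tmul, LinearMap.mem_ker.1 hn, tmul_zero]
    | zero => exact ⟨0, by simp, by simp⟩
    | add a b _ _ ha hb =>
      obtain ⟨c, hc, hc'⟩ := ha
      obtain ⟨d, hd, hd'⟩ := hb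
      exact ⟨c + d, by rw [map_add, hc, hd], by rw [map_add, hc', hd', add_zero]⟩
    | smul b y _ hy =>
      obtain ⟨c, hc, hc'⟩ := hy
      refine ⟨b • c, by rw [map_smul, hc], ?_⟩
      show (TensorProduct.AlgebraTensorModule.lTensor (AdicCompletion (J) B) _ π) (b • c) = 0
      rw [map_smul]
      exact (congrArg (b • ·) hc').trans (smul_zero b)
  rw [← (AdicCompletion.ofTensorProduct_bijective_of_pi_of_fintype (J) (Fin s)).injective hc1, hc2]

theorem flat_of_satFG (hsat : SatFG (Ideal.span {t}) B) :
    Module.Flat B (AdicCompletion (J) B) := by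
  rw [Module.Flat.iff_lTensor_injective]
  intro K hK
  have : Module.Finite B K := Module.Finite.iff_fg.2 hK
  rw [injective_iff_map_eq_zero]
  intro x hx
  apply (ofTensorProduct_bijective_of_satFG hsat K).injective
  rw [map_zero]
  obtain ⟨n₀, hn₀⟩ := artinRees_singleton (A := B) (M := B) (N := K)
    (hsat _ _ (sat_saturation ⟨{t}, by simp⟩ _))
  generalize hy : AdicCompletion.ofTensorProduct (J) K x = y
  have hy0 : AdicCompletion.map (J) K.subtype y = 0 := by
    have := LinearMap.congr_fun (AdicCompletion.ofTensorProduct_naturality (J) K.subtype) x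
    rw [← hy]
    refine this.trans ?_
    show AdicCompletion.ofTensorProduct (J) B (K.subtype.lTensor _ x) = 0
    rw [hx, map_zero]
  refine AdicCompletion.ext fun m => ?_
  obtain ⟨z, hz⟩ := val_of_sub_eq_zero (k := m + n₀) y
  have h0 : (z : B) ∈ ((J) ^ (m + n₀) • ⊤ : Submodule B B) := by
    have h2 : (AdicCompletion.map (J) K.subtype (y - AdicCompletion.of (J) K z)).val (m + n₀) = 0 := by
      rw [AdicCompletion.map_val_apply, hz, map_zero]
    rw [map_sub, hy0, zero_sub, AdicCompletion.map_of, AdicCompletion.val_neg_apply, neg_eq_zero,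
      AdicCompletion.of_apply, Submodule.mkQ_apply, Submodule.Quotient.mk_eq_zero] at h2
    exact h2
  obtain ⟨w, hw⟩ := (mem_pow_smul_iff _ _).1 h0
  obtain ⟨u, hu, hzu⟩ := hn₀ m (z : B) (by
    rw [hw, algebraMap_smul]
    exact Submodule.smul_mem_smul (Ideal.pow_mem_pow (Ideal.mem_span_singleton_self t) _) trivial)
    z.2
  rw [AdicCompletion.val_zero_apply, show y = (y - AdicCompletion.of (J) K z) +
    AdicCompletion.of (J) K z by abel, AdicCompletion.val_add_apply]
  have h1 : (y - AdicCompletion.of (J) K z).val m = 0 := by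
    rw [← AdicCompletion.transitionMap_comp_eval_apply (J) K (Nat.le_add_right m n₀)]
    show AdicCompletion.transitionMap (J) K _ ((y - AdicCompletion.of (J) K z).val (m + n₀)) = 0
    rw [hz, map_zero]
  rw [h1, zero_add, AdicCompletion.of_apply, Submodule.mkQ_apply, Submodule.Quotient.mk_eq_zero]
  refine (mem_pow_smul_iff m z).2 ⟨⟨u, hu⟩, Subtype.ext ?_⟩
  rw [hzu, SetLike.val_smul, algebraMap_smul]

end Groth.Agent.Adic.CV
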