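import Groth.Agent.Adic.CV.Trunc
import Groth.Agent.Adic.CV.Complete
import Groth.Agent.Hensel.Pair
import Groth.Agent.WEtale.Olivier
import Mathlib.RingTheory.Jacobson.Ring
import Mathlib.RingTheory.Algebraic.Integral
import Mathlib.RingTheory.Ideal.GoingUp

/-!
Algebras of dimension one over a complete valuation ring of height one.
-/

namespace Groth.Agent.Adic.CV.DimOne

open AdicRing Polynomial

universe u v

/-- A root of a polynomial with a unit coefficient over an integrally closed local subring: the
root or its inverse lies in the subring. -/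
theorem mem_or_inv_mem_of_unit_coeff {L : Type*} [Field L] (S : Subring L) [IsLocalRing S]
    (hS : ∀ y : L, IsIntegral S y → y ∈ S) (x : L) :
    ∀ (d : ℕ) (g : S[X]), g.natDegree ≤ d → aeval x g = 0 → (∃ k, IsUnit (g.coeff k)) →
      x ∈ S ∨ x⁻¹ ∈ S := by
  intro d
  induction d with
  | zero =>
    intro g hd h ⟨k, hk⟩
    have hg : g = C (g.coeff 0) := eq_C_of_natDegree_le_zero hd
    have hk0 : k = 0 := by
      by_contra hne
      rw [coeff_eq_zero_of_natDegree_lt (by omega)] at hk
      exact not_isUnit_zero hk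
    subst hk0
    rw [hg, aeval_C] at h
    exact absurd h ((hk.map (algebraMap S L)).ne_zero)
  | succ d ih =>
    intro g hd h ⟨k, hk⟩
    by_cases hd' : g.natDegree ≤ d
    · exact ih g hd' h ⟨k, hk⟩
    have hn : g.natDegree = d + 1 := by omega
    set c := g.leadingCoeff with hc
    let s : S := ⟨(c : L) * x, hS _ (by
      simpa [hc, Subring.smul_def] using isIntegral_leadingCoeff_smul g x h)⟩
    by_cases hcu : IsUnit c
    · left
      obtain ⟨e, he⟩ := hcu.exists_left_inv
      have : x = (e : L) * (s : L) := by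
        show x = (e : L) * ((c : L) * x)
        rw [← mul_assoc, ← Subring.coe_mul, he, Subring.coe_one, one_mul]
      rw [this]
      exact S.mul_mem e.2 s.2
    let g' := g.eraseLead + C s * X ^ d
    have hg'd : g'.natDegree ≤ d := by
      refine (natDegree_add_le _ _).trans (max_le ?_ (natDegree_C_mul_X_pow_le _ _))
      exact g.eraseLead_natDegree_le.trans (by omega)
    have hg'x : aeval x g' = 0 := by
      have h2 := h
      rw [← g.eraseLead_add_C_mul_X_pow, map_add, map_mul, aeval_C, map_pow, aeval_X, hn, pow_succ] at h2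
      rw [map_add, map_mul, aeval_C, map_pow, aeval_X, ← h2]
      show _ + ((c : L) * x) * x ^ d = _ + (c : L) * (x ^ d * x)
      ring
    have hkd : k ≤ d := by
      by_contra hne
      rcases Nat.lt_or_ge g.natDegree k with hlt | hge
      · rw [coeff_eq_zero_of_natDegree_lt hlt] at hk
        exact not_isUnit_zero hk
      · have : k = g.natDegree := by omega
        exact hcu (by rw [hc, leadingCoeff, ← this]; exact hk)
    by_cases hu : IsUnit (g'.coeff k)
    · exact ih g' hg'd hg'x ⟨k, hu⟩
    have hcoeff : g'.coeff k = g.coeff k + if k = d then s else 0 := by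
      simp [g', coeff_C_mul_X_pow, eraseLead_coeff_of_ne k (by omega : k ≠ g.natDegree)]
    by_cases hkd' : k = d
    · rw [if_pos hkd'] at hcoeff
      have hsu : IsUnit s := by
        by_contra hs
        exact (IsLocalRing.nonunits_add hu (show -s ∈ nonunits S from fun h => hs (by simpa using h.neg)))
          (by rw [hcoeff, add_neg_cancel_right]; exact hk)
      obtain ⟨e, he⟩ := hsu.exists_left_inv
      right
      have h1 : (e : L) * ((c : L) * x) = 1 := congrArg Subtype.val he
      have : x⁻¹ = (e : L) * (c : L) := by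
        refine inv_eq_of_mul_eq_one_left ?_
        rw [mul_assoc]
        exact h1
      rw [this]
      exact S.mul_mem e.2 c.2
    · rw [if_neg hkd', add_zero] at hcoeff
      exact absurd (hcoeff ▸ hk) hu

variable {R : Type u} [CommRing R] [IsDomain R] [ValuationRing R] [Ring.KrullDimLE 1 R]
  {t : R}

omit [ValuationRing R] [Ring.KrullDimLE 1 R] in
/-- A nonzero polynomial over a valuation ring is a multiple of one with a unit coefficient. -/
theorem exists_unit_coeff [ValuationRing R] (g : R[X]) (hg : g ≠ 0) :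
    ∃ (c : R) (g' : R[X]), c ≠ 0 ∧ g = C c * g' ∧ ∃ k, IsUnit (g'.coeff k) := by
  have key : ∀ s : Finset ℕ, s.Nonempty → ∃ k ∈ s, ∀ j ∈ s, g.coeff k ∣ g.coeff j := by
    intro s hs
    induction hs using Finset.Nonempty.cons_induction with
    | singleton a => exact ⟨a, Finset.mem_singleton_self a, fun j hj => by rw [Finset.mem_singleton.1 hj]⟩
    | cons a s ha hs ih =>
      obtain ⟨k, hk, hks⟩ := ih
      rcases ValuationRing.dvd_total (g.coeff k) (g.coeff a) with h | h
      · exact ⟨k, Finset.mem_cons_of_mem hk, fun j hj => by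
          rcases Finset.mem_cons.1 hj with rfl | hj
          exacts [h, hks j hj]⟩
      · exact ⟨a, Finset.mem_cons_self a s, fun j hj => by
          rcases Finset.mem_cons.1 hj with rfl | hj
          exacts [dvd_rfl, h.trans (hks j hj)]⟩
  obtain ⟨k, hk, hdiv⟩ := key g.support (support_nonempty.2 hg)
  have hk0 : g.coeff k ≠ 0 := mem_support_iff.1 hk
  have hall : ∀ j, g.coeff k ∣ g.coeff j := fun j => by
    by_cases hj : g.coeff j = 0
    · rw [hj]; exact dvd_zero _
    · exact hdiv j (mem_support_iff.2 hj)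
  obtain ⟨g', hg'⟩ := (C_dvd_iff_dvd_coeff _ _).2 hall
  refine ⟨g.coeff k, g', hk0, hg', k, ?_⟩
  have : g.coeff k = g.coeff k * g'.coeff k := by
    conv_lhs => rw [hg']
    rw [coeff_C_mul]
  exact IsUnit.of_mul_eq_one 1 (by rw [mul_one]; exact (mul_left_cancel₀ hk0 (by rw [mul_one]; exact this)).symm)

theorem eq_maximalIdeal_of_mem (ht : t ≠ 0) (q : Ideal R) [q.IsPrime] (htq : t ∈ q) :
    q = IsLocalRing.maximalIdeal R := by
  have := Ideal.isMaximal_of_isPrime_of_ne_bot q
    (fun h => ht (Ideal.mem_bot.1 ((Ideal.ext_iff.1 h t).1 htq)))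
  exact IsLocalRing.eq_maximalIdeal this

theorem maximalIdeal_le_radical (ht : t ≠ 0) :
    IsLocalRing.maximalIdeal R ≤ (Ideal.span {t}).radical := by
  rw [Ideal.radical_eq_sInf]
  refine le_sInf ?_
  rintro q ⟨hle, hq⟩
  have := hq
  exact (eq_maximalIdeal_of_mem ht q (hle (Ideal.mem_span_singleton_self t))).ge

theorem henselianLocalRing (ht : t ≠ 0) [IsAdicComplete (Ideal.span {t}) R] :
    HenselianLocalRing R :=
  Hensel.henselianLocalRing_of_henselianRing
    (Hensel.henselianRing_of_radical_eq (maximalIdeal_le_radical ht))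

variable (ht : t ≠ 0) [IsAdicComplete (Ideal.span {t}) R]

include ht in
/-- The integral closure of `R` in a field is local. -/
theorem isLocalRing_integralClosure (L : Type v) [Field L] [Algebra R L] (L₀ : Type u) [Field L₀]
    [Algebra R L₀] (e : L₀ ≃ₐ[R] L) : IsLocalRing (integralClosure R L) := by
  refine IsLocalRing.of_isUnit_or_isUnit_of_isUnit_add fun {x y} hxy => ?_
  obtain ⟨w, hw⟩ := hxy.exists_left_inv
  let s : Finset L₀ := by
    classical exact {e.symm (x : L), e.symm (y : L), e.symm (w : L)}
  let C := Algebra.adjoin R (s : Set L₀)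
  have hfin : Module.Finite R C := Module.Finite.iff_fg.2 (fg_adjoin_of_finite s.finite_toSet fun z hz => by
    classical
    simp only [s, Finset.coe_insert, Finset.coe_singleton, Set.mem_insert_iff, Set.mem_singleton_iff] at hz
    rcases hz with rfl | rfl | rfl
    exacts [x.2.map e.symm, y.2.map e.symm, w.2.map e.symm])
  have := henselianLocalRing ht
  have : IsLocalRing C := WEtale.Olivier.isLocalRing_of_finite (A := R)
  have hxC : e.symm (x : L) ∈ C := Algebra.subset_adjoin (by classical simp [s])
  have hyC : e.symm (y : L) ∈ C := Algebra.subset_adjoin (by classical simp [s])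
  have hwC : e.symm (w : L) ∈ C := Algebra.subset_adjoin (by classical simp [s])
  let ψ : C →ₐ[R] integralClosure R L := ((e.toAlgHom.comp C.val)).codRestrict (integralClosure R L)
    fun z => ((Algebra.IsIntegral.isIntegral (R := R) z).map (e.toAlgHom.comp C.val))
  have h1 : IsUnit ((⟨_, hxC⟩ : C) + ⟨_, hyC⟩) := IsUnit.of_mul_eq_one_right (⟨_, hwC⟩ : C) (Subtype.ext (by
    show e.symm (w : L) * (e.symm (x : L) + e.symm (y : L)) = 1
    rw [← map_add, ← map_mul, ← map_one e.symm]
    exact congrArg e.symm (congrArg Subtype.val hw)))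
  refine (IsLocalRing.isUnit_or_isUnit_of_isUnit_add h1).imp (fun h => ?_) (fun h => ?_)
  · have := h.map ψ
    rwa [show ψ ⟨_, hxC⟩ = x from Subtype.ext (e.apply_symm_apply _)] at this
  · have := h.map ψ
    rwa [show ψ ⟨_, hyC⟩ = y from Subtype.ext (e.apply_symm_apply _)] at this

include ht in
/-- An algebraic element or its inverse is integral. -/
theorem isIntegral_or_isIntegral_inv {L : Type u} [Field L] [Algebra R L]
    (hinj : Function.Injective (algebraMap R L)) {x : L} (hx : IsAlgebraic R x) :
    IsIntegral R x ∨ IsIntegral R x⁻¹ := by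
  obtain ⟨g, hg0, hgx⟩ := hx
  obtain ⟨c, g', hc, rfl, k, hk⟩ := exists_unit_coeff g hg0
  have hg'x : aeval x g' = 0 := by
    rw [map_mul, aeval_C] at hgx
    exact (mul_eq_zero.1 hgx).resolve_left fun h => hc (hinj (h.trans (map_zero _).symm))
  have hloc := isLocalRing_integralClosure ht L L AlgEquiv.refl
  let S := (integralClosure R L).toSubring
  have : IsLocalRing S := hloc
  refine mem_or_inv_mem_of_unit_coeff S (fun y hy => ?_) x g'.natDegree
    (g'.map (algebraMap R (integralClosure R L))) (natDegree_map_le) ?_ ⟨k, ?_⟩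
  · exact isIntegral_trans (R := R) (A := integralClosure R L) y hy
  · exact (aeval_map_algebraMap (integralClosure R L) x g').trans hg'x
  · rw [coeff_map]
    exact hk.map _

omit [IsDomain R] [ValuationRing R] [Ring.KrullDimLE 1 R] [IsAdicComplete (Ideal.span {t}) R] in
/-- Modulo the ideal, the completion consists of the elements of the ring completed. -/
theorem exists_add_smul (t : R) {P₀ : Type v} [CommRing P₀] [Algebra R P₀] (x : Compl (Ideal.span {t}) P₀) :
    ∃ (P : P₀) (y : Compl (Ideal.span {t}) P₀),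
      x = algebraMap P₀ (Compl (Ideal.span {t}) P₀) P + t • y := by
  let J := (Ideal.span {t}).map (algebraMap R P₀)
  obtain ⟨P, hP⟩ := Ideal.Quotient.mk_surjective (AdicCompletion.evalₐ J 1 x)
  have hk : AdicCompletion.evalₐ J 1 (x - algebraMap P₀ (Compl (Ideal.span {t}) P₀) P) = 0 :=
    (map_sub _ _ _).trans (sub_eq_zero.2 (hP.symm.trans (AdicCompletion.evalₐ_of J 1 P).symm))
  have hk' := (Ideal.ext_iff.1 (ker_evalₐ (I := Ideal.span {t}) ⟨{t}, by simp⟩ 1) _).1 (RingHom.mem_ker.2 hk)
  have he : (Ideal.span {t} ^ 1).map (algebraMap R (Compl (Ideal.span {t}) P₀)) =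
      Ideal.span {algebraMap R (Compl (Ideal.span {t}) P₀) t} :=
    (congrArg (Ideal.map _) (pow_one _)).trans
      ((Ideal.map_span _ _).trans (congrArg Ideal.span Set.image_singleton))
  obtain ⟨y, hy⟩ := Ideal.mem_span_singleton'.1 ((Ideal.ext_iff.1 he _).1 hk')
  exact ⟨P, y, by rw [Algebra.smul_def, mul_comm, hy, add_sub_cancel]⟩

omit [IsAdicComplete (Ideal.span {t}) R] in
theorem not_isUnit_of_isAdicComplete [IsAdicComplete (Ideal.span {t}) R] : ¬ IsUnit t := fun h => by
  have := IsAdicComplete.le_jacobson_bot (Ideal.span {t}) (Ideal.mem_span_singleton_self t)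
  rw [Ideal.jacobson_bot, IsLocalRing.ringJacobson_eq_maximalIdeal] at this
  exact this h

include ht in
theorem isBase : IsBase R (Ideal.span {t}) :=
  ⟨inferInstance, Or.inr ⟨inferInstance, inferInstance, inferInstance, t, ht, rfl⟩⟩

omit [IsDomain R] [ValuationRing R] [Ring.KrullDimLE 1 R] [IsAdicComplete (Ideal.span {t}) R] in
theorem noPowTorsion_iff {M : Type v} [AddCommGroup M] [Module R M] :
    NoPowTorsion (Ideal.span {t}) M ↔ ∀ x : M, t • x = 0 → x = 0 := by
  refine ⟨fun h x hx => h x 1 fun a ha => ?_, fun h x n hn => ?_⟩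
  · rw [pow_one, Ideal.mem_span_singleton'] at ha
    obtain ⟨b, rfl⟩ := ha
    rw [mul_smul, hx, smul_zero]
  · have hx := hn (t ^ n) (Ideal.pow_mem_pow (Ideal.mem_span_singleton_self t) n)
    clear hn
    induction n generalizing x with
    | zero => simpa using hx
    | succ n ih => exact h x (ih (t • x) (by rwa [smul_smul, ← pow_succ]))

section

variable {B : Type u} [CommRing B] [Algebra R B] [IsDomain B]

include ht in
theorem injective_algebraMap (hB : Admissible R (Ideal.span {t}) B) :
    Function.Injective (algebraMap R B) := by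
  rw [injective_iff_map_eq_zero]
  intro r hr
  by_contra hr0
  obtain ⟨k, hk⟩ : ∃ k, r ∣ t ^ k := by
    have : t ∈ (Ideal.span {r}).radical := by
      rw [Ideal.radical_eq_sInf, Submodule.mem_sInf]
      rintro p ⟨hrp, hp⟩
      have := Ideal.isMaximal_of_isPrime_of_ne_bot p fun h =>
        hr0 (Ideal.mem_bot.1 ((Ideal.ext_iff.1 h r).1 (hrp (Ideal.mem_span_singleton_self r))))
      rw [IsLocalRing.eq_maximalIdeal this]
      exact not_isUnit_of_isAdicComplete
    obtain ⟨k, hk⟩ := this
    exact ⟨k, Ideal.mem_span_singleton.1 hk⟩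
  obtain ⟨c, hc⟩ := hk
  refine one_ne_zero (α := B) (hB.2 1 k fun a ha => ?_)
  rw [Ideal.span_singleton_pow, Ideal.mem_span_singleton'] at ha
  obtain ⟨b, rfl⟩ := ha
  rw [Algebra.smul_def, mul_one, hc, map_mul, map_mul, hr, zero_mul, mul_zero]

omit [IsDomain B] in
theorem topFiniteType_of_admissible (hB : Admissible R (Ideal.span {t}) B) :
    TopFiniteType R (Ideal.span {t}) B := by
  obtain ⟨n, φ, hφ, -⟩ := hB.1
  exact ⟨n, φ, hφ⟩

include ht in
/-- An admissible local domain of dimension one is finite. -/
theorem finite [IsLocalRing B] (hB : Admissible R (Ideal.span {t}) B) (hdim : ringKrullDim B = 1) :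
    Module.Finite R B := by
  have hA := topFiniteType_of_admissible hB
  have hI : (Ideal.span {t}).FG := ⟨{t}, by simp⟩
  have hinj := injective_algebraMap ht hB
  have ht0 : algebraMap R B t ≠ 0 := fun h => ht (hinj (h.trans (map_zero _).symm))
  have hjac := map_le_jacobson_of_topFiniteType hI hA
  have hHB : IsHausdorff (Ideal.span {t}) B :=
    (isAdicComplete_of_finite (isBase ht) hA B).toIsHausdorff
  have : Ring.KrullDimLE 1 B := Ring.krullDimLE_iff.2 hdim.le
  -- only one prime contains `t`
  have hprime : ∀ q : Ideal B, q.IsPrime → algebraMap R B t ∈ q → q = IsLocalRing.maximalIdeal B := by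
    intro q hq htq
    have := Ideal.isMaximal_of_isPrime_of_ne_bot q
      (fun h => ht0 (Ideal.mem_bot.1 ((Ideal.ext_iff.1 h _).1 htq)))
    exact IsLocalRing.eq_maximalIdeal this
  let I := (Ideal.span {t}).map (algebraMap R B)
  have htI : algebraMap R B t ∈ I := Ideal.mem_map_of_mem _ (Ideal.mem_span_singleton_self t)
  have hIq : ∀ q : Ideal B, algebraMap R B t ∈ q → I ≤ q := fun q h => by
    rw [Ideal.map_le_iff_le_comap, Ideal.span_le, Set.singleton_subset_iff]
    exact h
  have hrad : ∀ z : B, z ∈ IsLocalRing.maximalIdeal B → IsNilpotent (Ideal.Quotient.mk I z) := by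
    intro z hz
    have : z ∈ I.radical := by
      rw [Ideal.radical_eq_sInf, Submodule.mem_sInf]
      rintro q ⟨hle, hq⟩
      rw [hprime q hq (hle htI)]
      exact hz
    obtain ⟨N, hN⟩ := this
    exact ⟨N, by rw [← map_pow, Ideal.Quotient.eq_zero_iff_mem]; exact hN⟩
  have hIm : I ≤ IsLocalRing.maximalIdeal B := hIq _ (by
    have := hjac htI
    rwa [Ideal.jacobson_bot, IsLocalRing.ringJacobson_eq_maximalIdeal] at this)
  have hft : Algebra.FiniteType R (B ⧸ I) := by
    have := finiteType_trunc hA hI 0
    unfold trunc at this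
    rwa [zero_add, pow_one] at this
  -- the residue field is integral
  have hint : Algebra.IsIntegral R (B ⧸ I) := by
    have : IsJacobsonRing (R ⧸ Ideal.span {t}) := by
      have : Ring.KrullDimLE 0 (R ⧸ Ideal.span {t}) := by
        rw [Ring.krullDimLE_zero_iff]
        intro q hq
        have hmm := eq_maximalIdeal_of_mem ht (q.comap (Ideal.Quotient.mk (Ideal.span {t}))) (by
          rw [Ideal.mem_comap, Ideal.Quotient.eq_zero_iff_mem.2 (Ideal.mem_span_singleton_self t)]
          exact zero_mem _)
        have : (q.comap (Ideal.Quotient.mk (Ideal.span {t}))).IsMaximal := hmm ▸ inferInstance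
        rw [← Ideal.map_comap_of_surjective _ Ideal.Quotient.mk_surjective q]
        exact (Ideal.map_eq_top_or_isMaximal_of_surjective _ Ideal.Quotient.mk_surjective this).resolve_left
          (by rw [Ideal.map_comap_of_surjective _ Ideal.Quotient.mk_surjective]; exact hq.ne_top)
      infer_instance
    obtain ⟨n, φ, hφ⟩ := Algebra.FiniteType.iff_quotient_mvPolynomial''.1 hft
    let κ := B ⧸ IsLocalRing.maximalIdeal B
    letI : Field κ := Ideal.Quotient.field _
    let π : B ⧸ I →+* κ := Ideal.Quotient.factor hIm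
    let f : MvPolynomial (Fin n) (R ⧸ Ideal.span {t}) →+* κ :=
      MvPolynomial.eval₂Hom (Ideal.Quotient.lift _ (algebraMap R κ) (fun a ha => by
        obtain ⟨c, rfl⟩ := Ideal.mem_span_singleton'.1 ha
        rw [map_mul]
        exact mul_eq_zero_of_right _ (Ideal.Quotient.eq_zero_iff_mem.2 (hIm htI))))
        fun i => π (φ (MvPolynomial.X i))
    have hf : f.comp (MvPolynomial.map (Ideal.Quotient.mk _)) = π.comp φ.toRingHom := by
      refine MvPolynomial.ringHom_ext (fun r => ?_) (fun i => ?_)
      · simp [f]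
        rfl
      · simp [f]
    have hfs : Function.Surjective f := fun z => by
      obtain ⟨w, hw⟩ := Ideal.Quotient.factor_surjective hIm z
      obtain ⟨P, hP⟩ := hφ w
      refine ⟨MvPolynomial.map (Ideal.Quotient.mk _) P, ?_⟩
      rw [← hw, ← hP]
      exact RingHom.congr_fun hf P
    have h1 := MvPolynomial.comp_C_integral_of_surjective_of_isJacobsonRing f hfs
    have h2 : ((f.comp MvPolynomial.C).comp (Ideal.Quotient.mk _)).IsIntegral :=
      RingHom.IsIntegral.trans _ _ (RingHom.isIntegral_of_surjective _ Ideal.Quotient.mk_surjective) h1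
    have h3 : (f.comp MvPolynomial.C).comp (Ideal.Quotient.mk _) = algebraMap R κ :=
      RingHom.ext fun r => by simp [f]
    rw [h3] at h2
    refine ⟨fun y => ?_⟩
    obtain ⟨z, rfl⟩ := Ideal.Quotient.mk_surjective y
    obtain ⟨p, hp, hpz⟩ := h2 (Ideal.Quotient.mk _ z)
    have hm : Polynomial.aeval z p ∈ IsLocalRing.maximalIdeal B := by
      rw [← Ideal.Quotient.eq_zero_iff_mem]
      have := (Polynomial.aeval_algHom_apply (Ideal.Quotient.mkₐ R (IsLocalRing.maximalIdeal B)) z p).symm
      rw [Ideal.Quotient.mkₐ_eq_mk] at this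
      rw [this]
      exact hpz
    obtain ⟨N, hN⟩ := hrad _ hm
    refine ⟨p ^ N, hp.pow N, ?_⟩
    have := (Polynomial.aeval_algHom_apply (Ideal.Quotient.mkₐ R I) z p)
    rw [Ideal.Quotient.mkₐ_eq_mk] at this
    rw [← Polynomial.aeval_def, map_pow, this]
    exact hN
  have hfinI : Module.Finite R (B ⧸ I) := Algebra.IsIntegral.finite
  -- successive approximation
  obtain ⟨s, f, hf⟩ := Module.Finite.exists_fin' R (B ⧸ I)
  choose v hv using fun i : Fin s => Ideal.Quotient.mk_surjective (f (Pi.single i 1))
  let F : (Fin s → R) →ₗ[R] B := Fintype.linearCombination R v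
  have hF : ∀ y : B, ∃ (a : Fin s → R) (y' : B), y = F a + t • y' := by
    intro y
    obtain ⟨a, ha⟩ := hf (Ideal.Quotient.mk I y)
    have hcomp : (Ideal.Quotient.mkₐ R I).toLinearMap.comp F = f := by
      refine (Pi.basisFun R (Fin s)).ext fun i => ?_
      simp [F, hv]
    have hmem : y - F a ∈ I := by
      rw [← Ideal.Quotient.eq_zero_iff_mem, map_sub, ← ha, sub_eq_zero]
      exact (LinearMap.congr_fun hcomp a).symm
    have hI' : I = Ideal.span {algebraMap R B t} :=
      (Ideal.map_span _ _).trans (congrArg Ideal.span Set.image_singleton)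
    rw [hI', Ideal.mem_span_singleton'] at hmem
    obtain ⟨y', hy'⟩ := hmem
    exact ⟨a, y', by rw [Algebra.smul_def, mul_comm, hy', add_sub_cancel]⟩
  choose A₁ Y₁ hAY using hF
  refine Module.Finite.of_surjective F fun y => ?_
  let Y : ℕ → B := fun k => Nat.rec y (fun _ z => Y₁ z) k
  let a : ℕ → Fin s → R := fun k => Nat.rec 0 (fun j acc => acc + t ^ j • A₁ (Y j)) k
  have key : ∀ k, y = F (a k) + t ^ k • Y k := by
    intro k
    induction k with
    | zero => simp [a, Y]
    | succ k ih =>
      show y = F (a k + t ^ k • A₁ (Y k)) + t ^ (k + 1) • Y₁ (Y k)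
      rw [map_add, map_smul, add_assoc, pow_succ, mul_smul, ← smul_add, ← hAY]
      exact ih
  have hcs : IsAdicComplete (Ideal.span {t}) (Fin s → R) :=
    isAdicComplete_piFin (M := R) s
  have hmem : ∀ {m j : ℕ}, m ≤ j → ∀ w : Fin s → R,
      t ^ j • w ∈ (Ideal.span {t} ^ m • ⊤ : Submodule R (Fin s → R)) := fun {m j} hle w =>
    Submodule.smul_mem_smul (Ideal.pow_le_pow_right hle
      (Ideal.pow_mem_pow (Ideal.mem_span_singleton_self t) j)) trivial
  obtain ⟨L, hL⟩ := IsPrecomplete.prec hcs.toIsPrecomplete (f := a) fun {m n} hmn => by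
    rw [SModEq.sub_mem]
    induction hmn with
    | refl => rw [sub_self]; exact zero_mem _
    | @step j hle ih =>
      show a m - (a j + t ^ j • A₁ (Y j)) ∈ _
      rw [← sub_sub]
      exact sub_mem ih (hmem hle _)
  refine ⟨L, ?_⟩
  rw [← sub_eq_zero]
  refine IsHausdorff.haus' (I := Ideal.span {t}) _ fun k => ?_
  rw [SModEq.zero]
  have h1 : F (a k - L) ∈ (Ideal.span {t} ^ k • ⊤ : Submodule R B) := by
    have hk := SModEq.sub_mem.1 (hL k)
    exact Submodule.smul_induction_on hk (fun r hr z _ => by
      rw [map_smul]; exact Submodule.smul_mem_smul hr trivial) (fun z z' hz hz' => by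
      rw [map_add]; exact add_mem hz hz')
  have h2 : t ^ k • Y k ∈ (Ideal.span {t} ^ k • ⊤ : Submodule R B) :=
    Submodule.smul_mem_smul (Ideal.pow_mem_pow (Ideal.mem_span_singleton_self t) k) trivial
  have : F L - y = -F (a k - L) - t ^ k • Y k := by
    conv_lhs => rw [key k]
    rw [map_sub]
    abel
  rw [this]
  exact sub_mem (neg_mem h1) h2

end

omit [IsAdicComplete (Ideal.span {t}) R] in
/-- Injective integral extensions of `R` by domains have dimension one. -/
theorem ringKrullDim_eq_one {C : Type v} [CommRing C] [IsDomain C] [Algebra R C]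
    [Algebra.IsIntegral R C] (hinj : Function.Injective (algebraMap R C)) (htu : ¬ IsUnit t) (ht : t ≠ 0) :
    ringKrullDim C = 1 := by
  have h1 : Ring.KrullDimLE 1 C := by
    rw [Ring.krullDimLE_one_iff_of_noZeroDivisors]
    intro q hq0 hq
    have hq' : q.comap (algebraMap R C) ≠ ⊥ := fun h => hq0 (Ideal.eq_bot_of_comap_eq_bot h)
    have : (q.comap (algebraMap R C)).IsMaximal := Ideal.isMaximal_of_isPrime_of_ne_bot _ hq'
    exact Ideal.isMaximal_of_isIntegral_of_isMaximal_comap q this
  refine le_antisymm (Ring.krullDimLE_iff.1 h1) ?_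
  have hnf : ¬ IsField C := fun h => htu (by
    have := isField_of_isIntegral_of_isField hinj h
    obtain ⟨u, hu⟩ := this.mul_inv_cancel ht
    exact IsUnit.of_mul_eq_one _ hu)
  rcases lt_or_ge (ringKrullDim C) 1 with h | h
  · refine absurd ?_ hnf
    have h0 : Ring.KrullDimLE 0 C := Ring.krullDimLE_iff.2 (ENat.WithBot.lt_add_one_iff.1 (by simpa using h))
    exact Ring.KrullDimLE.isField_of_isDomain
  · exact h

end Groth.Agent.Adic.CV.DimOne
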