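import Groth.Agent.Adic.CV.Trunc
import Mathlib.RingTheory.Jacobson.Artinian
import Mathlib.RingTheory.Henselian
import Mathlib.RingTheory.Ideal.GoingUp
import Mathlib.RingTheory.Valuation.ValuationRing
import Mathlib.RingTheory.Localization.Integral
import Mathlib.RingTheory.Polynomial.Content
import Mathlib.RingTheory.IntegralClosure.IsIntegralClosure.Basic
import Mathlib.RingTheory.LocalRing.ResidueField.Basic

/-!
Admissible domains of dimension one over a complete valuation ring of height one.
-/

namespace Groth.Agent.Adic.CV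

open AdicRing

universe u

theorem ringKrullDim_eq_one {D : Type*} [CommRing D] [IsDomain D] [Ring.KrullDimLE 1 D]
    {x : D} (hx0 : x ≠ 0) (hx : ¬ IsUnit x) : ringKrullDim D = 1 := by
  refine le_antisymm (Ring.krullDimLE_iff.1 inferInstance) (Order.one_le_krullDim_iff.2 ?_)
  obtain ⟨M, hM, hxM⟩ := exists_max_ideal_of_mem_nonunits hx
  refine ⟨⟨⊥, Ideal.isPrime_bot⟩, ⟨M, hM.isPrime⟩, lt_of_le_of_ne bot_le fun h => hx0 ?_⟩
  have h' : (⊥ : Ideal D) = M := congrArg PrimeSpectrum.asIdeal h
  rw [← h'] at hxM
  exact Ideal.mem_bot.1 hxM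

theorem krullDimLE_one_of_ringKrullDim_eq {D : Type*} [CommRing D] (h : ringKrullDim D = 1) :
    Ring.KrullDimLE 1 D := Ring.krullDimLE_iff.2 h.le

theorem topFinitePresentation_of_noPowTorsion' {R : Type u} [CommRing R] {I : Ideal R}
    (hR : IsBase R I) {A : Type u} [CommRing A] [Algebra R A] (hA : TopFiniteType R I A)
    (hT : NoPowTorsion I A) : TopFinitePresentation R I A := by
  obtain ⟨n, φ, hφ⟩ := hA
  refine ⟨n, φ, hφ, satFG_of_topFiniteType hR
    ⟨n, AlgHom.id R _, Function.surjective_id⟩ _ (RingHom.ker φ.toRingHom) fun x k hx => ?_⟩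
  refine hT (φ x) k fun a ha => ?_
  simpa using hx a ha

variable {R : Type u} [CommRing R] [IsDomain R] [ValuationRing R] [Ring.KrullDimLE 1 R] {t : R}

theorem isBase_classV (ht : t ≠ 0) [IsAdicComplete (Ideal.span {t}) R] :
    IsBase R (Ideal.span {t}) :=
  ⟨inferInstance, Or.inr ⟨inferInstance, inferInstance, inferInstance, t, ht, rfl⟩⟩

theorem not_isUnit_t [IsAdicComplete (Ideal.span {t}) R] : ¬ IsUnit t :=
  classV_unfold inferInstance inferInstance

theorem topFiniteType_self [IsAdicComplete (Ideal.span {t}) R] :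
    TopFiniteType R (Ideal.span {t}) R := by
  have : IsAdicComplete ((Ideal.span {t}).map (algebraMap R R)) R := by
    rw [Algebra.algebraMap_self, Ideal.map_id]; infer_instance
  refine ⟨0, rpowLift _ Fin.elim0, fun r => ⟨algebraMap R _ r, ?_⟩⟩
  exact (rpowLift (Ideal.span {t}) (Fin.elim0 : Fin 0 → R)).commutes r

/-- A finite torsion-free algebra is admissible. -/
theorem admissible_of_finite (ht : t ≠ 0) [IsAdicComplete (Ideal.span {t}) R] (D : Type u)
    [CommRing D] [Algebra R D] [Module.Finite R D] (hT : NoPowTorsion (Ideal.span {t}) D) :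
    Admissible R (Ideal.span {t}) D := by
  have h := isBase_classV ht
  have hc := isAdicComplete_of_finite h topFiniteType_self D
  have : IsAdicComplete ((Ideal.span {t}).map (algebraMap R D)) D :=
    (IsAdicComplete.map_algebraMap_iff _ _).2 hc
  have : Algebra.FiniteType R (trunc D (Ideal.span {t}) 0) :=
    Algebra.FiniteType.of_surjective (A := D) (Ideal.Quotient.mkₐ R _) Ideal.Quotient.mk_surjective
  exact ⟨topFinitePresentation_of_noPowTorsion' h
    (topFiniteType_of_finiteType_trunc (fg_of_isBase h) this) hT, hT⟩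

theorem noPowTorsion_of_injective {A : Type u} [CommRing A] [Algebra R A] {B : Type u} [CommRing B]
    [Algebra R B] (φ : A →ₐ[R] B) (hφ : Function.Injective φ) {I : Ideal R}
    (h : NoPowTorsion I B) : NoPowTorsion I A := fun x n hx => hφ (by
  rw [map_zero]
  exact h (φ x) n fun a ha => by rw [← map_smul, hx a ha, map_zero])

theorem noPowTorsion_singleton_iff {M : Type*} [AddCommGroup M] [Module R M] :
    NoPowTorsion (Ideal.span {t}) M ↔ ∀ x : M, t • x = 0 → x = 0 := by
  have := sat_singleton_iff (A := R) t (⊥ : Submodule R M)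
  simpa [Sat, NoPowTorsion] using this

theorem noPowTorsion_of_isDomain {D : Type u} [CommRing D] [IsDomain D] [Algebra R D]
    (hD : algebraMap R D t ≠ 0) : NoPowTorsion (Ideal.span {t}) D := by
  rw [noPowTorsion_singleton_iff]
  intro x hx
  rw [Algebra.smul_def] at hx
  exact (mul_eq_zero.1 hx).resolve_left hD

theorem algebraMap_ne_zero_of_noPowTorsion {D : Type u} [CommRing D] [Nontrivial D] [Algebra R D]
    (htu : ¬ IsUnit t) (hT : NoPowTorsion (Ideal.span {t}) D) {r : R} (hr : r ≠ 0) :
    algebraMap R D r ≠ 0 := by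
  intro h0
  have hT' := noPowTorsion_singleton_iff.1 hT
  obtain ⟨m, u, hm⟩ := exists_dvd_pow hr htu
  have hz : (t ^ m) • (1 : D) = 0 := by
    rw [Algebra.smul_def, mul_one, hm, map_mul, h0, zero_mul]
  clear hm
  induction m with
  | zero => simp at hz
  | succ m ih =>
    rw [pow_succ', mul_smul] at hz
    exact ih (hT' _ hz)

/-- If the special fibre is zero-dimensional, the algebra is finite over `R`. -/
theorem finite_of_isMaximal_of_mem (ht : t ≠ 0) [IsAdicComplete (Ideal.span {t}) R] (D : Type u)
    [CommRing D] [Algebra R D] (hD : TopFiniteType R (Ideal.span {t}) D)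
    (hp : ∀ q : Ideal D, q.IsPrime → algebraMap R D t ∈ q → q.IsMaximal) : Module.Finite R D := by
  have h := isBase_classV ht
  have htu := not_isUnit_t (t := t)
  let I := Ideal.span {t}
  let D1 := trunc D I 0
  have : Algebra.FiniteType R D1 := finiteType_trunc hD (fg_of_isBase h) 0
  let 𝔪 := IsLocalRing.maximalIdeal R
  have htI : ∀ a ∈ 𝔪, ∃ m, (algebraMap R D1 a) ^ m = 0 := by
    intro a ha
    obtain ⟨m, u, hu⟩ := exists_pow_dvd_of_dvd ht ((IsLocalRing.mem_maximalIdeal a).1 ha)
    refine ⟨m, ?_⟩
    rw [← map_pow, hu, map_mul, IsScalarTower.algebraMap_apply R D D1, Ideal.Quotient.algebraMap_eq,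
      Ideal.Quotient.eq_zero_iff_mem.2 (Ideal.mem_map_of_mem _ (by
        rw [zero_add, pow_one]; exact Ideal.mem_span_singleton_self t)), zero_mul]
  -- the special fibre
  let S := D1 ⧸ 𝔪.map (algebraMap R D1)
  let k := R ⧸ 𝔪
  let _ : Algebra k S :=
    (Ideal.quotientMap (𝔪.map (algebraMap R D1)) (algebraMap R D1) Ideal.le_comap_map).toAlgebra
  have : IsScalarTower R k S := IsScalarTower.of_algebraMap_eq fun r => rfl
  let : Field k := Ideal.Quotient.field 𝔪
  have : Algebra.FiniteType k S :=
    have : Algebra.FiniteType R S :=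
      Algebra.FiniteType.of_surjective (A := D1) (Ideal.Quotient.mkₐ R _) Ideal.Quotient.mk_surjective
    Algebra.FiniteType.of_restrictScalars_finiteType R k S
  have : Ring.KrullDimLE 0 S := Ring.KrullDimLE.mk₀ fun q hq => by
    let π : D →+* S := (Ideal.Quotient.mk (𝔪.map (algebraMap R D1))).comp (Ideal.Quotient.mk _)
    have hπ : Function.Surjective π := Ideal.Quotient.mk_surjective.comp Ideal.Quotient.mk_surjective
    have : (q.comap π).IsMaximal := hp _ (Ideal.comap_isPrime _ _) (by
      rw [Ideal.mem_comap]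
      have : π (algebraMap R D t) = 0 := by
        simp only [π, RingHom.comp_apply]
        rw [Ideal.Quotient.eq_zero_iff_mem]
        exact Ideal.mem_map_of_mem (algebraMap R D1) ((IsLocalRing.mem_maximalIdeal t).2 htu)
      rw [this]; exact zero_mem q)
    have h2 := Ideal.map_eq_top_or_isMaximal_of_surjective π hπ this
    rw [Ideal.map_comap_of_surjective π hπ] at h2
    exact (or_iff_right hq.ne_top).1 h2
  have : Module.Finite k S := (Module.finite_iff_krullDimLE_zero k S).2 inferInstance
  have : Module.Finite R S := Module.Finite.trans k S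
  have : Algebra.IsIntegral R D1 := ⟨fun x => by
    obtain ⟨p, hp, hpx⟩ := (Algebra.IsIntegral.isIntegral (R := R) (Ideal.Quotient.mk _ x : S))
    have h0 : Polynomial.aeval x p ∈ 𝔪.map (algebraMap R D1) := by
      rw [← Ideal.Quotient.eq_zero_iff_mem, ← Ideal.Quotient.mkₐ_eq_mk R,
        ← Polynomial.aeval_algHom_apply]
      exact hpx
    have hnil : 𝔪.map (algebraMap R D1) ≤ nilradical D1 := by
      rw [Ideal.map_le_iff_le_comap]
      exact fun a ha => htI a ha
    obtain ⟨m, hm⟩ := hnil h0
    exact ⟨p ^ m, hp.pow m, by rw [← Polynomial.aeval_def, map_pow, hm]⟩⟩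
  have : Module.Finite R D1 := Algebra.IsIntegral.finite
  obtain ⟨r, v, hv⟩ := Submodule.fg_iff_exists_fin_generating_family.1
    (Module.finite_def.1 (this : Module.Finite R D1))
  choose w hw using fun i => Ideal.Quotient.mk_surjective (v i)
  have hc := isAdicComplete_of_finite h hD D
  have hle : (⊤ : Submodule R D) ≤ Submodule.span R (Set.range w) :=
    le_of_le_sup_smul t (Submodule.fg_span (Set.finite_range w)) fun x _ => by
      obtain ⟨c, hcx⟩ := (Submodule.mem_span_range_iff_exists_fun R).1
        (show (Ideal.Quotient.mk _ x : D1) ∈ Submodule.span R (Set.range v) by rw [hv]; trivial)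
      have hd : x - ∑ i, c i • w i ∈ (I ^ (0 + 1)).map (algebraMap R D) := by
        rw [← Ideal.Quotient.eq_zero_iff_mem, map_sub, map_sum, sub_eq_zero]
        exact hcx.symm.trans (Finset.sum_congr rfl fun i _ => by rw [← hw]; rfl)
      rw [zero_add, pow_one, Ideal.map_span, Set.image_singleton, Ideal.mem_span_singleton] at hd
      obtain ⟨y, hy⟩ := hd
      exact ⟨_, sum_mem fun i _ => Submodule.smul_mem _ _ (Submodule.subset_span ⟨i, rfl⟩),
        y, trivial, by rw [Algebra.smul_def t, ← hy]; abel⟩
  exact Module.finite_def.2 ((top_le_iff.1 hle) ▸ Submodule.fg_span (Set.finite_range w))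

end Groth.Agent.Adic.CV
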