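import Groth.Agent.Adic.CV.Completion

/-!
Completions of algebras of finite type over algebras topologically of finite type.
-/

namespace Groth.Agent.Adic.CV

open AdicRing

universe u

variable {R : Type u} [CommRing R] {I : Ideal R} {A : Type u} [CommRing A] [Algebra R A]

theorem ofTensorProduct_bijective_of_finiteType (h : IsBase R I) (hA : TopFiniteType R I A)
    (B : Type u) [CommRing B] [Algebra R B] [Algebra A B] [IsScalarTower R A B]
    [Algebra.FiniteType A B] (M : Type u) [AddCommGroup M] [Module B M] [Module.Finite B M] :
    Function.Bijective (AdicCompletion.ofTensorProduct (I.map (algebraMap R B)) M) := by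
  have hsat := satFG_of_finiteType h hA B
  rcases isBase_cases h with hN | ⟨_, _, _, t, ht, htu, rfl⟩
  · have := isNoetherianRing_of_topFiniteType hA
    have := Algebra.FiniteType.isNoetherianRing A B
    exact AdicCompletion.ofTensorProduct_bijective_of_finite_of_isNoetherian _ M
  · exact ofTensorProduct_bijective_of_satFG hsat M

theorem flat_compl_of_finiteType (h : IsBase R I) (hA : TopFiniteType R I A)
    (C : Type u) [CommRing C] [Algebra R C] [Algebra A C] [IsScalarTower R A C]
    [Algebra.FiniteType A C] :
    Module.Flat C (AdicCompletion (I.map (algebraMap R C)) C) := by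
  have hsat := satFG_of_finiteType h hA C
  rcases isBase_cases h with hN | ⟨_, _, _, t, ht, htu, rfl⟩
  · have := isNoetherianRing_of_topFiniteType hA
    have := Algebra.FiniteType.isNoetherianRing A C
    exact AdicCompletion.flat_of_isNoetherian _
  · exact flat_of_satFG hsat

end Groth.Agent.Adic.CV
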