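import Groth.Agent.Adic.CV.Complete
import Groth.Agent.RegLoc.AdicNoeth
import Mathlib.RingTheory.MvPolynomial.Homogeneous
import Mathlib.RingTheory.MvPolynomial.Basic
import Mathlib.RingTheory.Polynomial.Basic

/-!
Saturated ideals of polynomial rings over restricted power series are finitely generated
(graded Nakayama).
-/

namespace Groth.Agent.Adic.CV

open AdicRing MvPolynomial

universe u

variable {R : Type u} [CommRing R] [IsDomain R] [ValuationRing R] [Ring.KrullDimLE 1 R] {t : R}
  {n : ℕ}

omit [Ring.KrullDimLE 1 R] in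
theorem exists_smul_of_red_eq_zero (ht : t ≠ 0) (htu : ¬ IsUnit t)
    {x : RPow R (Ideal.span {t}) n} (h : red t n htu x = 0) :
    ∃ e w, e ∣ t ∧ ¬ IsUnit e ∧ x = e • w := by
  classical
  obtain ⟨p, hp⟩ := MvPolynomial.map_surjective (Ideal.Quotient.mk (Ideal.span {t}))
    Ideal.Quotient.mk_surjective (res t n dvd_rfl x)
  let s : Finset R := insert t (p.support.image fun c => p.coeff c)
  obtain ⟨e, hes, he⟩ := exists_content s ⟨t, Finset.mem_insert_self _ _⟩ id
  simp only [id] at he
  have hdvd : e ∣ t := he t (Finset.mem_insert_self _ _)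
  have heu : ¬ IsUnit e := by
    rcases Finset.mem_insert.1 hes with rfl | hmem
    · exact htu
    · obtain ⟨c, -, rfl⟩ := Finset.mem_image.1 hmem
      have h0 : (red t n htu x).coeff c = 0 := by rw [h, MvPolynomial.coeff_zero]
      rw [red, RingHom.comp_apply, ← hp, MvPolynomial.map_map, Ideal.Quotient.lift_comp_mk,
        MvPolynomial.coeff_map] at h0
      exact fun hu => (hu.map (IsLocalRing.residue R)).ne_zero h0
  have hres : res t n hdvd x = 0 := by
    rw [res_eq_map, ← hp, MvPolynomial.map_map, Ideal.Quotient.factor_comp_mk]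
    ext c
    rw [MvPolynomial.coeff_map, MvPolynomial.coeff_zero, Ideal.Quotient.eq_zero_iff_mem,
      Ideal.mem_span_singleton]
    by_cases hc : c ∈ p.support
    · exact he _ (Finset.mem_insert_of_mem (Finset.mem_image_of_mem _ hc))
    · rw [MvPolynomial.notMem_support_iff.1 hc]; exact dvd_zero e
  obtain ⟨w, hw⟩ := exists_smul_of_res_eq_zero hdvd hres
  exact ⟨e, w, hdvd, heu, hw⟩

theorem exists_smul_of_map_red_eq_zero (ht : t ≠ 0) (htu : ¬ IsUnit t) {τ : Type*}
    {p : MvPolynomial τ (RPow R (Ideal.span {t}) n)}
    (h : MvPolynomial.map (red t n htu) p = 0) :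
    ∃ e w, e ∣ t ∧ ¬ IsUnit e ∧ p = e • w ∧ w.support ⊆ p.support := by
  classical
  have h' : ∀ c, ∃ e w, e ∣ t ∧ ¬ IsUnit e ∧ p.coeff c = e • w := fun c =>
    exists_smul_of_red_eq_zero ht htu (by rw [← MvPolynomial.coeff_map, h, MvPolynomial.coeff_zero])
  choose es ws hes heu hws using h'
  let s : Finset R := insert t (p.support.image es)
  obtain ⟨e, he', he⟩ := exists_content s ⟨t, Finset.mem_insert_self _ _⟩ id
  simp only [id] at he
  have hu : ¬ IsUnit e := by
    rcases Finset.mem_insert.1 he' with rfl | hmem
    · exact htu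
    · obtain ⟨c, -, rfl⟩ := Finset.mem_image.1 hmem
      exact heu c
  choose! q hq using he
  let w : MvPolynomial τ (RPow R (Ideal.span {t}) n) :=
    ∑ c ∈ p.support, monomial c (q (es c) • ws c)
  have hcoeff : ∀ c, w.coeff c = if c ∈ p.support then q (es c) • ws c else 0 := by
    intro c
    simp [w, MvPolynomial.coeff_sum, MvPolynomial.coeff_monomial]
  refine ⟨e, w, ⟨q t, hq t (Finset.mem_insert_self _ _)⟩, hu, ?_, fun c hc => ?_⟩
  · ext c : 1
    rw [MvPolynomial.coeff_smul, hcoeff]
    by_cases hc : c ∈ p.support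
    · rw [if_pos hc, smul_smul, ← hq _ (Finset.mem_insert_of_mem (Finset.mem_image_of_mem _ hc)),
        ← hws]
    · rw [if_neg hc, smul_zero, MvPolynomial.notMem_support_iff.1 hc]
  · by_contra hcp
    rw [MvPolynomial.mem_support_iff, hcoeff, if_neg hcp] at hc
    exact hc rfl

theorem homogeneousComponent_map {S T : Type*} [CommRing S] [CommRing T] {τ : Type*} (f : S →+* T)
    (k : ℕ) (p : MvPolynomial τ S) :
    homogeneousComponent k (MvPolynomial.map f p) =
      MvPolynomial.map f (homogeneousComponent k p) := by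
  classical
  ext c
  simp only [coeff_homogeneousComponent, MvPolynomial.coeff_map]
  split_ifs <;> simp

theorem fg_of_saturated_mvPolynomial (ht : t ≠ 0) (htu : ¬ IsUnit t) (σ : Type) [Finite σ]
    (J : Ideal (MvPolynomial σ (RPow R (Ideal.span {t}) n)))
    (hsat : ∀ x, t • x ∈ J → x ∈ J) : J.FG := by
  classical
  let P := RPow R (Ideal.span {t}) n
  let S := MvPolynomial (Option σ) P
  let dh : S →ₐ[P] MvPolynomial σ P := aeval fun i => Option.elim i 1 X
  let rP : S →+* MvPolynomial (Option σ) (MvPolynomial (Fin n) (IsLocalRing.ResidueField R)) :=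
    MvPolynomial.map (red t n htu)
  let H : ℕ → Submodule P S := fun d =>
    homogeneousSubmodule (Option σ) P d ⊓ (J.restrictScalars P).comap dh.toLinearMap
  have htf : ∀ y : S, t • y = 0 → y = 0 := fun y hy => by
    ext c : 1
    refine eq_zero_of_smul_eq_zero ht _ ?_
    rw [← MvPolynomial.coeff_smul, hy, MvPolynomial.coeff_zero]
  have hHsat : ∀ d (x : S), t • x ∈ H d → x ∈ H d := by
    intro d x ⟨h1, h2⟩
    refine ⟨?_, hsat _ ?_⟩
    · rw [SetLike.mem_coe, mem_homogeneousSubmodule] at h1 ⊢
      intro c hc
      by_contra hne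
      refine hc (eq_zero_of_smul_eq_zero ht _ ?_)
      rw [← MvPolynomial.coeff_smul]
      refine h1.coeff_eq_zero fun hd => hne ?_
      rwa [Finsupp.degree_eq_weight_one] at hd
    · have h3 : dh.toLinearMap (t • x) ∈ J.restrictScalars P := h2
      rwa [LinearMap.map_smul_of_tower] at h3
  have hHfg : ∀ d, (H d).FG := by
    intro d
    let M := restrictTotalDegree (Option σ) P d
    have hle : H d ≤ M := fun x hx => by
      rw [mem_restrictTotalDegree]
      exact IsHomogeneous.totalDegree_le hx.1
    have h := satFG_rpow ht htu n M ((H d).comap M.subtype)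
      ((sat_singleton_iff t _).2 fun x hx => hHsat d x.1 (by simpa using hx))
    have := h.map M.subtype
    rwa [Submodule.map_comap_eq, Submodule.range_subtype, inf_eq_right.2 hle] at this
  have hL : (Ideal.span (⋃ d, rP '' (H d : Set S))).FG := IsNoetherian.noetherian _
  obtain ⟨s, hs, hspan⟩ := (Submodule.fg_span_iff_fg_span_finset_subset _).1 hL
  have hg : ∀ y ∈ s, ∃ (d : ℕ) (x : S), x ∈ H d ∧ rP x = y := fun y hy => by
    obtain ⟨d, x, hx, rfl⟩ := Set.mem_iUnion.1 (hs hy)
    exact ⟨d, x, hx, rfl⟩
  choose! deg g hgH hg using hg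
  let G : Ideal S := Ideal.span (g '' s)
  have hG : G.FG := Submodule.fg_span (s.finite_toSet.image g)
  have hGJ : ∀ d, H d ≤ G.restrictScalars P := by
    intro d
    let 𝔪 : Ideal P := (IsLocalRing.maximalIdeal R).map (algebraMap R P)
    refine Submodule.le_of_le_smul_of_le_jacobson_bot (I := 𝔪) (hHfg d) ?_ fun x hx => ?_
    · rw [Ideal.map_le_iff_le_comap]
      intro e he
      obtain ⟨m, u, hu⟩ := exists_pow_dvd_of_dvd ht ((IsLocalRing.mem_maximalIdeal e).1 he)
      refine Ideal.isRadical_jacobson ⊥ ⟨m, ?_⟩
      rw [← map_pow, hu, map_mul]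
      refine Ideal.mul_mem_right _ _ ?_
      have := isAdicComplete_rpow_singleton t n
      exact IsAdicComplete.le_jacobson_bot _ (Ideal.mem_span_singleton_self _)
    · have hx' : rP x ∈ Ideal.span (s : Set _) := by
        show rP x ∈ Submodule.span _ (s : Set _)
        rw [← hspan]
        exact Ideal.subset_span (Set.mem_iUnion.2 ⟨d, x, hx, rfl⟩)
      obtain ⟨a, -, ha⟩ := Submodule.mem_span_finset.1 hx'
      have hlift : ∀ y, ∃ b : S, rP b = a y := fun y =>
        MvPolynomial.map_surjective _ (red_surjective htu) (a y)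
      choose b hb using hlift
      let z : S := ∑ y ∈ s,
        if deg y ≤ d then homogeneousComponent (d - deg y) (b y) * g y else 0
      have hzG : z ∈ G := Ideal.sum_mem _ fun y hy => by
        split_ifs
        · exact Ideal.mul_mem_left _ _ (Ideal.subset_span ⟨y, hy, rfl⟩)
        · exact zero_mem _
      have hzH : z ∈ H d := sum_mem fun y hy => by
        split_ifs with hle
        · refine ⟨?_, ?_⟩
          · rw [SetLike.mem_coe, mem_homogeneousSubmodule]
            have h1 : (g y).IsHomogeneous (deg y) := (hgH y hy).1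
            have := (homogeneousComponent_isHomogeneous (d - deg y) (b y)).mul h1
            rwa [Nat.sub_add_cancel hle] at this
          · show dh (_ * g y) ∈ J
            rw [map_mul]
            exact Ideal.mul_mem_left _ _ (hgH y hy).2
        · exact zero_mem _
      have hzr : rP z = rP x := by
        have hxd : homogeneousComponent d (rP x) = rP x := by
          rw [homogeneousComponent_map, homogeneousComponent_of_mem hx.1, if_pos rfl]
        rw [← hxd, ← ha, map_sum, map_sum]
        refine Finset.sum_congr rfl fun y hy => ?_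
        have h1 : (g y).IsHomogeneous (deg y) := (hgH y hy).1
        rw [smul_eq_mul, show a y * y = rP (b y) * rP (g y) by rw [hb, hg y hy], ← map_mul,
          homogeneousComponent_map,
          RegLoc.AdicNoeth.homogeneousComponent_mul_of_isHomogeneous h1]
      obtain ⟨e, w, hed, heu, hw, hsupp⟩ := exists_smul_of_map_red_eq_zero ht htu (p := x - z)
        (by rw [map_sub]; exact sub_eq_zero.2 hzr.symm)
      have hwH : w ∈ H d := by
        obtain ⟨u, hu⟩ := hed
        refine hHsat d w ?_
        have ht' : t • w = u • (x - z) := by rw [hw, smul_smul, mul_comm, ← hu]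
        rw [ht']
        exact Submodule.smul_of_tower_mem _ u (sub_mem hx hzH)
      refine Submodule.mem_sup.2 ⟨z, hzG, e • w, ?_, by rw [← hw]; abel⟩
      rw [← algebraMap_smul P e w]
      exact Submodule.smul_mem_smul
        (Ideal.mem_map_of_mem _ ((IsLocalRing.mem_maximalIdeal e).2 heu)) hwH
  have hJ : J = G.map dh.toRingHom := by
    refine le_antisymm (fun x hx => ?_) ?_
    · let d := x.totalDegree
      let q : S := ∑ c ∈ x.support,
        rename some (monomial c (x.coeff c)) * (X none) ^ (d - c.degree)
      have hq : dh q = x := by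
        conv_rhs => rw [x.as_sum]
        rw [map_sum]
        refine Finset.sum_congr rfl fun c _ => ?_
        rw [map_mul, map_pow]
        have e1 : dh (rename some (monomial c (x.coeff c))) = monomial c (x.coeff c) :=
          (aeval_rename _ _ _).trans
            (DFunLike.congr_fun (MvPolynomial.aeval_X_left (σ := σ) (R := P)) _)
        have e2 : dh (X none) = 1 := aeval_X _ _
        rw [e1, e2, one_pow, mul_one]
      have hqH : q ∈ H d := by
        refine ⟨?_, by show dh q ∈ J; rwa [hq]⟩
        rw [SetLike.mem_coe, mem_homogeneousSubmodule]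
        refine IsHomogeneous.sum _ _ _ fun c hc => ?_
        have hcd : c.degree ≤ d := MvPolynomial.le_totalDegree hc
        have := ((isHomogeneous_monomial (x.coeff c) (n := c.degree) rfl).rename_isHomogeneous
          (f := (some : σ → Option σ))).mul
          ((isHomogeneous_X P (none : Option σ)).pow (d - c.degree))
        rwa [one_mul, Nat.add_sub_cancel' hcd] at this
      rw [← hq]
      exact Ideal.mem_map_of_mem dh.toRingHom (hGJ d hqH)
    · rw [Ideal.map_le_iff_le_comap]
      refine Ideal.span_le.2 ?_
      rintro _ ⟨y, hy, rfl⟩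
      exact (hgH y hy).2
  rw [hJ]
  exact Ideal.FG.map hG _

end Groth.Agent.Adic.CV
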