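import Groth.Agent.Adic.CV.RigPoint
import Groth.Agent.Adic.CV.PolyIdeal
import Mathlib.RingTheory.NoetherNormalization
import Mathlib.RingTheory.Localization.BaseChange
import Mathlib.RingTheory.TensorProduct.Basic

/-!
Generic fibres of admissible algebras: the special fibre of an admissible domain whose generic
fibre is a field is zero-dimensional.
-/

namespace Groth.Agent.Adic.CV

open AdicRing TensorProduct

universe u

variable {R : Type u} [CommRing R] [IsDomain R] [ValuationRing R] [Ring.KrullDimLE 1 R] {t : R}

/-- If the special fibre is finite over `k[X]`, the algebra is finite over `R⟨X⟩`. -/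
theorem finite_of_finite_specialFibre (ht : t ≠ 0) [IsAdicComplete (Ideal.span {t}) R] (D : Type u)
    [CommRing D] [Algebra R D] (hD : TopFiniteType R (Ideal.span {t}) D) {d : ℕ}
    (ψ : RPow R (Ideal.span {t}) d →ₐ[R] D)
    (hS : ((Ideal.Quotient.mk ((IsLocalRing.maximalIdeal R).map (algebraMap R D))).comp
      ψ.toRingHom).Finite) : ψ.toRingHom.Finite := by
  algebraize [ψ.toRingHom]
  have : IsScalarTower R (RPow R (Ideal.span {t}) d) D :=
    IsScalarTower.of_algebraMap_eq fun r => (ψ.commutes r).symm
  let P := RPow R (Ideal.span {t}) d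
  have h := isBase_classV ht
  let 𝔫 := (IsLocalRing.maximalIdeal R).map (algebraMap R D)
  let D1 := trunc D (Ideal.span {t}) 0
  have hDR : Algebra.FiniteType R D1 := finiteType_trunc hD (fg_of_isBase h) 0
  have : Algebra.FiniteType P D1 := Algebra.FiniteType.of_restrictScalars_finiteType R P D1
  have hfinS : Module.Finite P (D ⧸ 𝔫) := hS
  have : Algebra.IsIntegral P D1 := ⟨fun y => by
    obtain ⟨x, rfl⟩ := Ideal.Quotient.mk_surjective y
    obtain ⟨p, hp, hpx⟩ := (IsIntegral.of_finite P (Ideal.Quotient.mk 𝔫 x))
    have h0 : Polynomial.aeval x p ∈ 𝔫 := by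
      rw [← Ideal.Quotient.eq_zero_iff_mem, ← Ideal.Quotient.mkₐ_eq_mk P,
        ← Polynomial.aeval_algHom_apply]
      exact hpx
    obtain ⟨m, hm⟩ := exists_pow_mem_of_mem ht h0
    refine ⟨p ^ m, hp.pow m, ?_⟩
    have e : Polynomial.aeval (Ideal.Quotient.mkₐ P _ x : D1) (p ^ m) =
        Ideal.Quotient.mk _ (Polynomial.aeval x p ^ m) := by
      rw [Polynomial.aeval_algHom_apply, map_pow]; rfl
    rw [← Polynomial.aeval_def]
    refine e.trans (Ideal.Quotient.eq_zero_iff_mem.2 ?_)
    rw [zero_add, pow_one, Ideal.map_span, Set.image_singleton]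
    exact hm⟩
  have : Module.Finite P D1 := Algebra.IsIntegral.finite
  obtain ⟨r, v, hv⟩ := Submodule.fg_iff_exists_fin_generating_family.1
    (Module.finite_def.1 (this : Module.Finite P D1))
  choose w hw using fun i => Ideal.Quotient.mk_surjective (v i)
  have hc := isAdicComplete_of_finite h hD D
  have := isAdicComplete_rpow_singleton t d
  have : IsHausdorff (Ideal.span {algebraMap R P t}) D := by
    rw [← Set.image_singleton, ← Ideal.map_span]
    exact (IsHausdorff.map_algebraMap_iff (R := R)).2 hc.toIsHausdorff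
  have hle : (⊤ : Submodule P D) ≤ Submodule.span P (Set.range w) :=
    le_of_le_sup_smul (algebraMap R P t) (Submodule.fg_span (Set.finite_range w)) fun x _ => by
      obtain ⟨c, hcx⟩ := (Submodule.mem_span_range_iff_exists_fun P).1
        (show (Ideal.Quotient.mk _ x : D1) ∈ Submodule.span P (Set.range v) by rw [hv]; trivial)
      have hd : x - ∑ i, c i • w i ∈ ((Ideal.span {t}) ^ (0 + 1)).map (algebraMap R D) := by
        rw [← Ideal.Quotient.eq_zero_iff_mem, map_sub, map_sum, sub_eq_zero]
        exact hcx.symm.trans (Finset.sum_congr rfl fun i _ => by rw [← hw]; rfl)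
      rw [zero_add, pow_one, Ideal.map_span, Set.image_singleton, Ideal.mem_span_singleton] at hd
      obtain ⟨y, hy⟩ := hd
      exact ⟨_, sum_mem fun i _ => Submodule.smul_mem _ _ (Submodule.subset_span ⟨i, rfl⟩),
        y, trivial, by rw [algebraMap_smul, Algebra.smul_def t, ← hy]; abel⟩
  exact Module.finite_def.2 ((top_le_iff.1 hle) ▸ Submodule.fg_span (Set.finite_range w))

theorem varX_not_dvd_pow (ht : t ≠ 0) (htu : ¬ IsUnit t) {d : ℕ} (i : Fin d) (M : ℕ)
    (u : RPow R (Ideal.span {t}) d) :
    varX (Ideal.span {t}) i * u ≠ t ^ M • (1 : RPow R (Ideal.span {t}) d) := by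
  induction M generalizing u with
  | zero =>
    intro h
    have := congrArg (red t d htu) h
    rw [pow_zero, one_smul, map_one, map_mul, show varX (Ideal.span {t}) i =
      AdicCompletion.of _ _ (MvPolynomial.X i) from rfl, red_of, MvPolynomial.map_X] at this
    have := congrArg MvPolynomial.constantCoeff this
    simp at this
  | succ M ih =>
    intro h
    have h1 := congrArg (res t d dvd_rfl) h
    rw [res_smul, map_mul, show varX (Ideal.span {t}) i = AdicCompletion.of _ _ (MvPolynomial.X i)
      from rfl, res_of, MvPolynomial.map_X, map_one, mul_one,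
      Ideal.Quotient.eq_zero_iff_mem.2 (Ideal.mem_span_singleton.2 (dvd_pow_self t M.succ_ne_zero)),
      map_zero] at h1
    have h2 : res t d dvd_rfl u = 0 := by
      ext c
      have := congrArg (MvPolynomial.coeff (Finsupp.single i 1 + c)) h1
      rwa [MvPolynomial.coeff_X_mul] at this
    obtain ⟨u', rfl⟩ := exists_smul_of_res_eq_zero dvd_rfl h2
    refine ih u' ?_
    have h3 : t • (varX (Ideal.span {t}) i * u' - t ^ M • (1 : RPow R (Ideal.span {t}) d)) = 0 := by
      rw [smul_sub, ← mul_smul_comm, h, smul_smul, ← pow_succ', sub_self]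
    exact sub_eq_zero.1 (eq_zero_of_smul_eq_zero ht _ h3)

/-- An admissible domain with generic fibre a field has zero-dimensional special fibre. -/
theorem isMaximal_of_mem_of_generic_field (ht : t ≠ 0) [IsAdicComplete (Ideal.span {t}) R] (D : Type u)
    [CommRing D] [IsDomain D] [Algebra R D] (hD : TopFiniteType R (Ideal.span {t}) D)
    (hT : NoPowTorsion (Ideal.span {t}) D)
    (hgen : ∀ z : D, z ≠ 0 → ∃ (w : D) (N : ℕ), z * w = algebraMap R D t ^ N) :
    Module.Finite R D := by
  have h := isBase_classV ht
  have htu := not_isUnit_t (t := t)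
  let 𝔫 := (IsLocalRing.maximalIdeal R).map (algebraMap R D)
  let S := D ⧸ 𝔫
  have h𝔫 : 𝔫 ≠ ⊤ := by
    intro htop
    obtain ⟨m, hm⟩ := exists_pow_mem_of_mem ht (show (1 : D) ∈ 𝔫 by rw [htop]; trivial)
    rw [one_pow, Ideal.mem_span_singleton] at hm
    have hj := map_le_jacobson_of_topFiniteType (fg_of_isBase h) hD
    rw [Ideal.map_span, Set.image_singleton, Ideal.span_singleton_le_iff_mem] at hj
    obtain ⟨M, hM⟩ := Ideal.exists_maximal D
    exact hM.ne_top (Ideal.eq_top_of_isUnit_mem M (Ideal.mem_sInf.1 hj ⟨bot_le, hM⟩)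
      (isUnit_of_dvd_one hm))
  have : Nontrivial S := Ideal.Quotient.nontrivial_iff.2 h𝔫
  let k := IsLocalRing.ResidueField R
  let _ : Algebra k S := (show k →+* S from
    Ideal.quotientMap 𝔫 (algebraMap R D) Ideal.le_comap_map).toAlgebra
  have : IsScalarTower R k S := IsScalarTower.of_algebraMap_eq fun r => rfl
  have : Algebra.FiniteType k S :=
    have : Algebra.FiniteType R S := by
      have := finiteType_trunc hD (fg_of_isBase h) 0
      have hle : (Ideal.span {t} ^ (0 + 1)).map (algebraMap R D) ≤ 𝔫 := by
        rw [zero_add, pow_one]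
        exact Ideal.map_mono ((Ideal.span_singleton_le_iff_mem _).2
          ((IsLocalRing.mem_maximalIdeal t).2 htu))
      exact Algebra.FiniteType.of_surjective (A := trunc D (Ideal.span {t}) 0)
        (Ideal.Quotient.factorₐ R hle) (Ideal.Quotient.factor_surjective hle)
    Algebra.FiniteType.of_restrictScalars_finiteType R k S
  obtain ⟨d, g, hg, hgfin⟩ := exists_finite_inj_algHom_of_fg k S
  choose z hz using fun i => Ideal.Quotient.mk_surjective (g (MvPolynomial.X i))
  have hc : IsAdicComplete ((Ideal.span {t}).map (algebraMap R D)) D :=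
    (IsAdicComplete.map_algebraMap_iff _ _).2 (isAdicComplete_of_finite h hD D)
  let ψ := rpowLift (Ideal.span {t}) (n := d) z
  -- compatibility with `g`
  let θ₁ : RPow R (Ideal.span {t}) d →ₐ[R] S := (Ideal.Quotient.mkₐ R 𝔫).comp ψ
  let θ₂ : RPow R (Ideal.span {t}) d →ₐ[R] S :=
    { g.toRingHom.comp (red t d htu) with
      commutes' := fun r => by
        show g (red t d htu (algebraMap R _ r)) = algebraMap R S r
        rw [rpow_algebraMap, red_of, MvPolynomial.map_C]
        exact (g.commutes (IsLocalRing.residue R r)).trans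
          (IsScalarTower.algebraMap_apply R k S r).symm }
  have hθ : θ₁ = θ₂ := by
    have : IsHausdorff ((Ideal.span {t}).map (algebraMap R S)) S := by
      rw [show (Ideal.span {t}).map (algebraMap R S) = ⊥ by
        rw [Ideal.map_span, Set.image_singleton, Ideal.span_singleton_eq_bot,
          IsScalarTower.algebraMap_apply R D S, Ideal.Quotient.algebraMap_eq,
          Ideal.Quotient.eq_zero_iff_mem]
        exact Ideal.mem_map_of_mem _ ((IsLocalRing.mem_maximalIdeal t).2 htu)]
      infer_instance
    refine rpow_algHom_ext ⟨{t}, by simp⟩ fun i => ?_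
    show Ideal.Quotient.mk 𝔫 (ψ (varX _ i)) = g (red t d htu (AdicCompletion.of _ _ (MvPolynomial.X i)))
    rw [rpowLift_varX, hz, red_of, MvPolynomial.map_X]
  have hfin : ψ.toRingHom.Finite := by
    refine finite_of_finite_specialFibre ht D hD ψ ?_
    show θ₁.toRingHom.Finite
    rw [hθ]
    exact RingHom.Finite.comp hgfin (RingHom.Finite.of_surjective _ (red_surjective htu))
  have hinj : Function.Injective ψ := by
    let K := RingHom.ker ψ.toRingHom
    have hKfg : K.FG := fg_of_saturated_ideal ht htu K fun x hx => by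
      rw [RingHom.mem_ker] at hx ⊢
      exact noPowTorsion_singleton_iff.1 hT (ψ x) (by rw [← map_smul]; exact hx)
    have hK : K = ⊥ := by
      refine Submodule.eq_bot_of_le_smul_of_le_jacobson_bot
        ((IsLocalRing.maximalIdeal R).map (algebraMap R (RPow R (Ideal.span {t}) d))) K hKfg ?_ ?_
      · intro x hx
        have hr : red t d htu x = 0 := hg (by
          have := DFunLike.congr_fun hθ x
          rw [map_zero]
          refine (this.symm.trans ?_ : θ₂ x = 0)
          show Ideal.Quotient.mk 𝔫 (ψ x) = 0
          rw [show ψ x = 0 from hx, map_zero])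
        obtain ⟨e, w, hed, heu, rfl⟩ := exists_smul_of_red_eq_zero ht htu hr
        rw [← algebraMap_smul (RPow R (Ideal.span {t}) d) e w]
        refine Submodule.smul_mem_smul
          (Ideal.mem_map_of_mem _ ((IsLocalRing.mem_maximalIdeal e).2 heu)) ?_
        rw [RingHom.mem_ker] at hx ⊢
        obtain ⟨u, hu⟩ := hed
        refine noPowTorsion_singleton_iff.1 hT (ψ w) ?_
        have e0 : t • w = u • (e • w) := by rw [smul_smul, mul_comm, ← hu]
        rw [← map_smul, e0, map_smul, show ψ (e • w) = 0 from hx, smul_zero]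
      · rw [Ideal.map_le_iff_le_comap]
        intro e he
        obtain ⟨m, u, hu⟩ := exists_pow_dvd_of_dvd ht ((IsLocalRing.mem_maximalIdeal e).1 he)
        refine Ideal.isRadical_jacobson ⊥ ⟨m, ?_⟩
        rw [← map_pow, hu, map_mul]
        refine Ideal.mul_mem_right _ _ ?_
        have := isAdicComplete_rpow_singleton t d
        exact IsAdicComplete.le_jacobson_bot _ (Ideal.mem_span_singleton_self _)
    exact (RingHom.injective_iff_ker_eq_bot ψ.toRingHom).2 hK
  rcases Nat.eq_zero_or_pos d with rfl | hd
  · -- `d = 0`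
    refine finite_of_isMaximal_of_mem ht D hD fun q hq htq => ?_
    have hnq : 𝔫 ≤ q := fun y hy => by
      obtain ⟨m, hm⟩ := exists_pow_mem_of_mem ht hy
      exact hq.mem_of_pow_mem m ((Ideal.span_singleton_le_iff_mem _).2 htq hm)
    have hfk : Module.Finite k S := by
      have hgs : g.toRingHom.Finite := hgfin
      let e := MvPolynomial.isEmptyAlgEquiv k (Fin 0)
      have := RingHom.Finite.comp hgs
        (RingHom.Finite.of_surjective e.symm.toRingEquiv.toRingHom e.symm.surjective)
      have he : g.toRingHom.comp e.symm.toRingEquiv.toRingHom = algebraMap k S :=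
        RingHom.ext fun r => g.commutes r
      rw [he] at this
      exact RingHom.finite_algebraMap.1 this
    have : IsArtinianRing S := isArtinian_of_tower k inferInstance
    have h1 : (q.map (Ideal.Quotient.mk 𝔫)).IsPrime :=
      Ideal.map_isPrime_of_surjective Ideal.Quotient.mk_surjective (by rwa [Ideal.mk_ker])
    have h2 := Ideal.comap_isMaximal_of_surjective (Ideal.Quotient.mk 𝔫) Ideal.Quotient.mk_surjective
      (K := q.map (Ideal.Quotient.mk 𝔫))
    rw [Ideal.comap_map_of_surjective _ Ideal.Quotient.mk_surjective, ← RingHom.ker_eq_comap_bot,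
      Ideal.mk_ker, sup_eq_left.2 hnq] at h2
    exact h2
  · -- a variable would be invertible in the generic fibre
    exfalso
    let i : Fin d := ⟨0, hd⟩
    let X := varX (Ideal.span {t}) i
    have hX : ψ X ≠ 0 := fun h0 => varX_not_dvd_pow ht htu i 0 0 (by
      have : X = 0 := hinj (h0.trans (map_zero ψ).symm)
      exfalso
      have h1 := congrArg (red t d htu) this
      rw [map_zero, show X = AdicCompletion.of _ _ (MvPolynomial.X i) from rfl, red_of,
        MvPolynomial.map_X] at h1
      exact MvPolynomial.X_ne_zero i h1)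
    obtain ⟨w, N, hw⟩ := hgen (ψ X) hX
    algebraize [ψ.toRingHom]
    obtain ⟨p, hp, hpw⟩ : IsIntegral (RPow R (Ideal.span {t}) d) w := by
      have : Module.Finite (RPow R (Ideal.span {t}) d) D := hfin
      exact IsIntegral.of_finite _ w
    have h1 := congrArg (fun y => y * ψ X ^ p.natDegree) hpw
    rw [← Polynomial.aeval_def, Polynomial.aeval_eq_sum_range] at h1
    simp only [zero_mul, Finset.sum_mul] at h1
    let q : RPow R (Ideal.span {t}) d := ∑ j ∈ Finset.range (p.natDegree + 1),
      p.coeff j * (algebraMap R _ t ^ N) ^ j * X ^ (p.natDegree - j)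
    have hq : q = 0 := hinj (by
      rw [map_zero, ← h1, map_sum]
      refine Finset.sum_congr rfl fun j hj => ?_
      have hj' : j ≤ p.natDegree := Nat.lt_succ_iff.1 (Finset.mem_range.1 hj)
      rw [map_mul, map_mul, map_pow, map_pow, map_pow, AlgHom.commutes, Algebra.smul_def, ← hw,
        show ψ X ^ p.natDegree = ψ X ^ j * ψ X ^ (p.natDegree - j) by
          rw [← pow_add, Nat.add_sub_cancel' hj'], mul_pow]
      show ψ (p.coeff j) * _ * _ = ψ (p.coeff j) * _ * _
      ring)
    simp only [q, Finset.sum_range_succ, Nat.sub_self, pow_zero, mul_one, hp.coeff_natDegree,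
      one_mul] at hq
    refine varX_not_dvd_pow ht htu i (N * p.natDegree)
      (-∑ j ∈ Finset.range p.natDegree, p.coeff j * (algebraMap R _ t ^ N) ^ j *
        X ^ (p.natDegree - j - 1)) ?_
    rw [Algebra.smul_def, mul_one, map_pow, pow_mul, eq_neg_of_add_eq_zero_right hq, mul_neg,
      Finset.mul_sum]
    refine congrArg Neg.neg (Finset.sum_congr rfl fun j hj => ?_)
    have hj' := Finset.mem_range.1 hj
    rw [show p.natDegree - j = p.natDegree - j - 1 + 1 by omega, pow_succ,
      show p.natDegree - j - 1 + 1 - 1 = p.natDegree - j - 1 by omega]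
    ring

end Groth.Agent.Adic.CV
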