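import Groth.Agent.Adic.CV.GenericFibre
import Mathlib.RingTheory.Localization.Ideal
import Mathlib.RingTheory.Flat.TorsionFree
import Mathlib.RingTheory.Flat.Stability

/-!
Points of the generic fibre and finite extensions inside the generic fibre.
-/

namespace Groth.Agent.Adic.CV

open AdicRing TensorProduct

universe u

variable {R : Type u} [CommRing R] [IsDomain R] [ValuationRing R] [Ring.KrullDimLE 1 R] {t : R}

theorem isLocalization_away_fractionRing (ht : t ≠ 0) (htu : ¬ IsUnit t) :
    IsLocalization.Away t (FractionRing R) := by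
  constructor
  constructor
  · rintro ⟨_, k, rfl⟩
    rw [map_pow]
    exact ((map_ne_zero_iff _ (IsFractionRing.injective R (FractionRing R))).2 ht).isUnit.pow k
  · intro z
    obtain ⟨a, b, hb, rfl⟩ := IsFractionRing.div_surjective (A := R) z
    have hb0 : b ≠ 0 := nonZeroDivisors.ne_zero hb
    obtain ⟨m, c, hc⟩ := exists_dvd_pow hb0 htu
    refine ⟨⟨a * c, ⟨t ^ m, m, rfl⟩⟩, ?_⟩
    show algebraMap R _ a / algebraMap R _ b * algebraMap R _ (t ^ m) = algebraMap R _ (a * c)
    have := (map_ne_zero_iff _ (IsFractionRing.injective R (FractionRing R))).2 hb0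
    rw [hc, map_mul, map_mul]
    field_simp
  · intro x y hxy
    exact ⟨1, by rw [IsFractionRing.injective R (FractionRing R) hxy]⟩

theorem isLocalization_generic (ht : t ≠ 0) (htu : ¬ IsUnit t) (A : Type u) [CommRing A]
    [Algebra R A] : IsLocalization.Away (algebraMap R A t) (A ⊗[R] FractionRing R) := by
  have := isLocalization_away_fractionRing ht htu
  exact IsLocalization.Away.tensor t (FractionRing R)

theorem generic_injective (ht : t ≠ 0) (htu : ¬ IsUnit t) {A : Type u} [CommRing A] [Algebra R A]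
    (hT : NoPowTorsion (Ideal.span {t}) A) :
    Function.Injective (algebraMap A (A ⊗[R] FractionRing R)) := by
  have := isLocalization_generic ht htu A
  refine IsLocalization.injective (M := Submonoid.powers (algebraMap R A t)) _ ?_
  rintro _ ⟨k, rfl⟩
  refine mem_nonZeroDivisors_iff_right.2 fun x hx => hT x k fun a ha => ?_
  rw [Ideal.span_singleton_pow, Ideal.mem_span_singleton'] at ha
  obtain ⟨b, rfl⟩ := ha
  rw [mul_smul, Algebra.smul_def (t ^ k), map_pow, mul_comm _ x, hx, smul_zero]

theorem noPowTorsion_subalgebra_generic (ht : t ≠ 0) (htu : ¬ IsUnit t) {A : Type u} [CommRing A]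
    [Algebra R A] (B : Subalgebra A (A ⊗[R] FractionRing R)) :
    NoPowTorsion (Ideal.span {t}) B := by
  have := isLocalization_generic ht htu A
  rw [noPowTorsion_singleton_iff]
  intro x hx
  have hu : IsUnit (algebraMap R (A ⊗[R] FractionRing R) t) := by
    rw [IsScalarTower.algebraMap_apply R A (A ⊗[R] FractionRing R)]
    exact IsLocalization.Away.algebraMap_isUnit _
  refine Subtype.ext (hu.mul_right_eq_zero.1 ?_)
  have := congrArg Subtype.val hx
  rwa [Subalgebra.coe_smul, Algebra.smul_def] at this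

theorem finite_admissible_adjoin (ht : t ≠ 0) [IsAdicComplete (Ideal.span {t}) R] (A : Type u)
    [CommRing A] [Algebra R A] (hA : TopFiniteType R (Ideal.span {t}) A) {n : ℕ}
    (f : Fin n → A ⊗[R] FractionRing R) (hf : ∀ i, IsIntegral A (f i)) :
    Admissible R (Ideal.span {t}) (Algebra.adjoin A (Set.range f)) ∧
      Module.Finite A (Algebra.adjoin A (Set.range f)) := by
  let A' := Algebra.adjoin A (Set.range f)
  have hfin : Module.Finite A A' := Module.Finite.of_fg
    (fg_adjoin_of_finite (Set.finite_range f) (by rintro _ ⟨i, rfl⟩; exact hf i))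
  have hI := fg_of_isBase (isBase_classV (t := t) ht)
  have hT := noPowTorsion_subalgebra_generic ht not_isUnit_t A'
  have hc := isAdicComplete_of_finite (isBase_classV ht) hA A'
  have : IsAdicComplete ((Ideal.span {t}).map (algebraMap R A')) A' :=
    (IsAdicComplete.map_algebraMap_iff _ _).2 hc
  have hle : ((Ideal.span {t}) ^ (0 + 1)).map (algebraMap R A) ≤
      (((Ideal.span {t}) ^ (0 + 1)).map (algebraMap R A')).comap (algebraMap A A') := by
    rw [← Ideal.map_le_iff_le_comap, Ideal.map_map, ← IsScalarTower.algebraMap_eq]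
  let _ : Algebra (trunc A (Ideal.span {t}) 0) (trunc A' (Ideal.span {t}) 0) :=
    (Ideal.quotientMap _ (algebraMap A A') hle).toAlgebra
  have : IsScalarTower A (trunc A (Ideal.span {t}) 0) (trunc A' (Ideal.span {t}) 0) :=
    IsScalarTower.of_algebraMap_eq fun r => rfl
  have : IsScalarTower R (trunc A (Ideal.span {t}) 0) (trunc A' (Ideal.span {t}) 0) :=
    IsScalarTower.of_algebraMap_eq fun r => by
      rw [IsScalarTower.algebraMap_apply R A (trunc A (Ideal.span {t}) 0),
        ← IsScalarTower.algebraMap_apply A (trunc A (Ideal.span {t}) 0) (trunc A' (Ideal.span {t}) 0),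
        ← IsScalarTower.algebraMap_apply]
  have : Module.Finite A (trunc A' (Ideal.span {t}) 0) :=
    Module.Finite.of_surjective (Ideal.Quotient.mkₐ A _).toLinearMap Ideal.Quotient.mk_surjective
  have : Module.Finite (trunc A (Ideal.span {t}) 0) (trunc A' (Ideal.span {t}) 0) :=
    Module.Finite.of_restrictScalars_finite A _ _
  have := finiteType_trunc hA hI 0
  have : Algebra.FiniteType R (trunc A' (Ideal.span {t}) 0) :=
    Algebra.FiniteType.trans (S := trunc A (Ideal.span {t}) 0) inferInstance inferInstance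
  exact ⟨⟨topFinitePresentation_of_noPowTorsion' (isBase_classV ht)
    (topFiniteType_of_finiteType_trunc hI this) hT, hT⟩, hfin⟩

theorem generic_maximal_of_dim_one (ht : t ≠ 0) [IsAdicComplete (Ideal.span {t}) R] (A : Type u)
    [CommRing A] [Algebra R A] (hA : TopFiniteType R (Ideal.span {t}) A) (p : Ideal A) (hp : p.IsPrime)
    (htp : algebraMap R A t ∉ p) (hdim : ringKrullDim (A ⧸ p) = 1) :
    (p.map (algebraMap A (A ⊗[R] FractionRing R))).IsMaximal ∧
      (p.map (algebraMap A (A ⊗[R] FractionRing R))).comap (algebraMap A (A ⊗[R] FractionRing R)) = p := by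
  have htu := not_isUnit_t (t := t)
  have := isLocalization_generic ht htu A
  have := krullDimLE_one_of_ringKrullDim_eq hdim
  let M := Submonoid.powers (algebraMap R A t)
  have hdisj : Disjoint (M : Set A) p := by
    rw [Set.disjoint_left]
    rintro _ ⟨k, rfl⟩ hk
    exact htp (hp.mem_of_pow_mem k hk)
  have hcomap := IsLocalization.under_map_of_isPrime_disjoint M (A ⊗[R] FractionRing R) hp hdisj
  refine ⟨?_, hcomap⟩
  have hprime := IsLocalization.isPrime_of_isPrime_disjoint M (A ⊗[R] FractionRing R) p hp hdisj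
  obtain ⟨Q, hQ, hle⟩ := Ideal.exists_le_maximal _ hprime.ne_top
  obtain ⟨hq, hqd⟩ := (IsLocalization.isPrime_iff_isPrime_disjoint M (A ⊗[R] FractionRing R) Q).1 hQ.isPrime
  have hpq : p ≤ Q.under A := hcomap ▸ Ideal.comap_mono hle
  suffices Q.under A ≤ p by
    have e : Q = p.map (algebraMap A (A ⊗[R] FractionRing R)) := by
      rw [← IsLocalization.map_under M (A ⊗[R] FractionRing R) Q, le_antisymm this hpq]
    exact e ▸ hQ
  by_contra hnot
  have hJ : (Ideal.map (Ideal.Quotient.mk p) (Q.under A)).IsPrime :=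
    Ideal.map_isPrime_of_surjective Ideal.Quotient.mk_surjective (by rwa [Ideal.mk_ker])
  have hJmax : (Ideal.map (Ideal.Quotient.mk p) (Q.under A)).IsMaximal := by
    refine Ideal.IsPrime.isMaximal_of_ne_bot hJ fun h0 => hnot ?_
    rw [Ideal.map_eq_bot_iff_le_ker, Ideal.mk_ker] at h0
    exact h0
  have hqmax : (Q.under A).IsMaximal := by
    have := Ideal.comap_isMaximal_of_surjective (Ideal.Quotient.mk p) Ideal.Quotient.mk_surjective
      (K := Ideal.map (Ideal.Quotient.mk p) (Q.under A))
    rwa [Ideal.comap_map_of_surjective _ Ideal.Quotient.mk_surjective, ← RingHom.ker_eq_comap_bot,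
      Ideal.mk_ker, sup_eq_left.2 hpq] at this
  have hjac := map_le_jacobson_of_topFiniteType (fg_of_isBase (isBase_classV (t := t) ht)) hA
  rw [Ideal.map_span, Set.image_singleton, Ideal.span_singleton_le_iff_mem] at hjac
  exact Set.disjoint_left.1 hqd ⟨1, pow_one _⟩ (Ideal.mem_sInf.1 hjac ⟨bot_le, hqmax⟩)

theorem dim_one_of_generic_maximal (ht : t ≠ 0) [IsAdicComplete (Ideal.span {t}) R] (A : Type u)
    [CommRing A] [Algebra R A] (hA : TopFiniteType R (Ideal.span {t}) A)
    (m : Ideal (A ⊗[R] FractionRing R)) (hm : m.IsMaximal) :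
    algebraMap R A t ∉ m.comap (algebraMap A (A ⊗[R] FractionRing R)) ∧
      ringKrullDim (A ⧸ m.comap (algebraMap A (A ⊗[R] FractionRing R))) = 1 ∧
      (m.comap (algebraMap A (A ⊗[R] FractionRing R))).map (algebraMap A (A ⊗[R] FractionRing R)) = m := by
  have htu := not_isUnit_t (t := t)
  have := isLocalization_generic ht htu A
  let M := Submonoid.powers (algebraMap R A t)
  obtain ⟨hp, hpd⟩ := (IsLocalization.isPrime_iff_isPrime_disjoint M _ m).1 hm.isPrime
  have htp : algebraMap R A t ∉ m.comap (algebraMap A (A ⊗[R] FractionRing R)) := fun hmem =>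
    Set.disjoint_left.1 hpd ⟨1, pow_one _⟩ hmem
  refine ⟨htp, ?_, IsLocalization.map_under M (A ⊗[R] FractionRing R) m⟩
  let p := m.comap (algebraMap A (A ⊗[R] FractionRing R))
  let D := A ⧸ p
  have : IsDomain D := Ideal.Quotient.isDomain p
  have htD : algebraMap R D t ≠ 0 := by
    rw [IsScalarTower.algebraMap_apply R A D, Ideal.Quotient.algebraMap_eq, ne_eq,
      Ideal.Quotient.eq_zero_iff_mem]
    exact htp
  have hT := noPowTorsion_of_isDomain (t := t) htD
  have hD : TopFiniteType R (Ideal.span {t}) D := by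
    obtain ⟨n, φ, hφ⟩ := hA
    exact ⟨n, (Ideal.Quotient.mkₐ R p).comp φ, Ideal.Quotient.mk_surjective.comp hφ⟩
  have hgen : ∀ z : D, z ≠ 0 → ∃ (w : D) (N : ℕ), z * w = algebraMap R D t ^ N := by
    intro z hz
    obtain ⟨a, rfl⟩ := Ideal.Quotient.mk_surjective z
    have ha : algebraMap A (A ⊗[R] FractionRing R) a ∉ m := fun h =>
      hz (Ideal.Quotient.eq_zero_iff_mem.2 h)
    obtain ⟨b, i, hi, hbi⟩ := hm.exists_inv ha
    obtain ⟨k, c, hc⟩ := IsLocalization.Away.surj (algebraMap R A t) b
    refine ⟨Ideal.Quotient.mk p c, k, ?_⟩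
    rw [IsScalarTower.algebraMap_apply R A D, Ideal.Quotient.algebraMap_eq, ← map_pow, ← map_mul,
      Ideal.Quotient.eq, Ideal.mem_comap, map_sub, map_mul, ← hc, map_pow]
    have e : algebraMap A (A ⊗[R] FractionRing R) a *
          (b * algebraMap A (A ⊗[R] FractionRing R) (algebraMap R A t) ^ k) -
        algebraMap A (A ⊗[R] FractionRing R) (algebraMap R A t) ^ k =
        -(i * algebraMap A (A ⊗[R] FractionRing R) (algebraMap R A t) ^ k) := by
      linear_combination (algebraMap A (A ⊗[R] FractionRing R) (algebraMap R A t) ^ k) * hbi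
    rw [e]
    exact neg_mem (Ideal.mul_mem_right _ _ hi)
  have := isMaximal_of_mem_of_generic_field ht D hD hT hgen
  exact ringKrullDim_eq_one_of_finite ht D (injective_algebraMap_of_admissible (t := t) D hT)

theorem blowup_universal (ht : t ≠ 0) [IsAdicComplete (Ideal.span {t}) R] (A : Type u) [CommRing A]
    [Algebra R A] (hT : NoPowTorsion (Ideal.span {t}) A) {n : ℕ}
    (f : Fin n → A ⊗[R] FractionRing R) (hf : ∀ i, IsIntegral A (f i)) (c : R) (hc : c ≠ 0)
    (g : Fin n → A) (hg : ∀ i, algebraMap A (A ⊗[R] FractionRing R) (g i) = c • f i)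
    (D : Type u) [CommRing D] [Algebra R D] (hD : NoPowTorsion (Ideal.span {t}) D) (φ : A →ₐ[R] D)
    (hgen : (Ideal.span (insert (algebraMap R A c) (Set.range g))).map φ =
          Ideal.span {algebraMap R D c} ∨
      ∃ i, (Ideal.span (insert (algebraMap R A c) (Set.range g))).map φ = Ideal.span {φ (g i)}) :
    (Ideal.span (insert (algebraMap R A c) (Set.range g))).map φ = Ideal.span {algebraMap R D c} ∧
      ∃! ψ : Algebra.adjoin A (Set.range f) →ₐ[R] D,
        ψ.comp (IsScalarTower.toAlgHom R A (Algebra.adjoin A (Set.range f))) = φ := by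
  classical
  have htu := not_isUnit_t (t := t)
  obtain ⟨N, e, hN⟩ := exists_dvd_pow hc htu
  have hinj := generic_injective ht htu hT
  have hsmA : ∀ x : A ⊗[R] FractionRing R,
      c • x = algebraMap R (A ⊗[R] FractionRing R) c * x := fun x => Algebra.smul_def c x
  have hsmD : ∀ x : D ⊗[R] FractionRing R,
      c • x = algebraMap R (D ⊗[R] FractionRing R) c * x := fun x => Algebra.smul_def c x
  have hnzd : ∀ x : D, algebraMap R D c * x = 0 → x = 0 := fun x hx => hD x N fun a ha => by
    rw [Ideal.span_singleton_pow, Ideal.mem_span_singleton'] at ha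
    obtain ⟨b, rfl⟩ := ha
    rw [hN, mul_smul, mul_comm c e, mul_smul, Algebra.smul_def c x, hx, smul_zero, smul_zero]
  have hcmem : algebraMap R D c ∈ (Ideal.span (insert (algebraMap R A c) (Set.range g))).map φ := by
    rw [← φ.commutes c]
    exact Ideal.mem_map_of_mem φ (Ideal.subset_span (Set.mem_insert _ _))
  have hgmem : ∀ i, φ (g i) ∈ (Ideal.span (insert (algebraMap R A c) (Set.range g))).map φ := fun i =>
    Ideal.mem_map_of_mem φ (Ideal.subset_span (Set.mem_insert_of_mem _ ⟨i, rfl⟩))
  have hspan : (Ideal.span (insert (algebraMap R A c) (Set.range g))).map φ =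
      Ideal.span {algebraMap R D c} := by
    rcases hgen with h | ⟨i, hi⟩
    · exact h
    rw [hi] at hcmem ⊢
    obtain ⟨w, hw⟩ := Ideal.mem_span_singleton.1 hcmem
    obtain ⟨p, hp, hpf⟩ := hf i
    rw [← Polynomial.aeval_def] at hpf
    have hrel : ∑ j ∈ Finset.range (p.natDegree + 1),
        p.coeff j * g i ^ j * algebraMap R A c ^ (p.natDegree - j) = 0 := by
      refine hinj ?_
      rw [map_zero, map_sum, ← mul_zero (algebraMap R (A ⊗[R] FractionRing R) c ^ p.natDegree),
        ← hpf, Polynomial.aeval_eq_sum_range, Finset.mul_sum]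
      refine Finset.sum_congr rfl fun j hj => ?_
      have hj' : j ≤ p.natDegree := Nat.lt_succ_iff.1 (Finset.mem_range.1 hj)
      rw [map_mul, map_mul, map_pow, map_pow, hg, ← IsScalarTower.algebraMap_apply, hsmA,
        Algebra.smul_def, ← pow_mul_pow_sub (algebraMap R (A ⊗[R] FractionRing R) c) hj', mul_pow]
      ring
    have h1 := congrArg φ hrel
    simp only [map_sum, map_mul, map_pow, map_zero, AlgHom.commutes, hw] at h1
    have hwnzd : ∀ x, φ (g i) * x = 0 → x = 0 := fun x hx => hnzd x (by
      rw [hw, mul_comm (φ (g i)) w, mul_assoc, hx, mul_zero])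
    have h2 : φ (g i) ^ p.natDegree *
        ∑ j ∈ Finset.range (p.natDegree + 1), φ (p.coeff j) * w ^ (p.natDegree - j) = 0 := by
      rw [← h1, Finset.mul_sum]
      refine Finset.sum_congr rfl fun j hj => ?_
      have hj' : j ≤ p.natDegree := Nat.lt_succ_iff.1 (Finset.mem_range.1 hj)
      rw [← pow_mul_pow_sub (φ (g i)) hj', mul_pow]
      ring
    have h3 : ∀ (k : ℕ) x, φ (g i) ^ k * x = 0 → x = 0 := by
      intro k
      induction k with
      | zero => simp
      | succ k ih => intro x hx; exact hwnzd x (ih _ (by rw [pow_succ, mul_assoc] at hx; exact hx))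
    have h4 := h3 _ _ h2
    rw [Finset.sum_range_succ, Nat.sub_self, pow_zero, mul_one, hp.coeff_natDegree, map_one] at h4
    have hu : IsUnit w := by
      refine IsUnit.of_mul_eq_one (-∑ j ∈ Finset.range p.natDegree,
        φ (p.coeff j) * w ^ (p.natDegree - j - 1)) ?_
      rw [mul_neg, Finset.mul_sum, neg_eq_iff_eq_neg, ← eq_neg_of_add_eq_zero_left h4]
      refine Finset.sum_congr rfl fun j hj => ?_
      have := Finset.mem_range.1 hj
      conv_rhs => rw [show p.natDegree - j = p.natDegree - j - 1 + 1 by omega, pow_succ]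
      ring
    rw [hw]
    exact (Ideal.span_singleton_mul_right_unit hu _).symm
  refine ⟨hspan, ?_⟩
  have hd : ∀ i, ∃ d, φ (g i) = algebraMap R D c * d := fun i =>
    Ideal.mem_span_singleton.1 (hspan ▸ hgmem i)
  choose d hd using hd
  let Φ : A ⊗[R] FractionRing R →ₐ[R] D ⊗[R] FractionRing R :=
    Algebra.TensorProduct.map φ (AlgHom.id R (FractionRing R))
  let ιD : D →ₐ[R] D ⊗[R] FractionRing R :=
    IsScalarTower.toAlgHom R D (D ⊗[R] FractionRing R)
  have hιinj : Function.Injective ιD := generic_injective ht htu hD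
  have hΦA : ∀ a, Φ (algebraMap A (A ⊗[R] FractionRing R) a) = ιD (φ a) := fun a => by
    show Φ (a ⊗ₜ 1) = φ a ⊗ₜ 1
    rw [Algebra.TensorProduct.map_tmul]
    rfl
  have hΦf : ∀ i, Φ (f i) = ιD (d i) := fun i => by
    have := isLocalization_generic ht htu D
    have hu : IsUnit (algebraMap R (D ⊗[R] FractionRing R) c) := by
      refine isUnit_of_mul_isUnit_left (y := algebraMap R _ e) ?_
      rw [← map_mul, ← hN, map_pow, IsScalarTower.algebraMap_apply R D (D ⊗[R] FractionRing R)]
      exact (IsLocalization.Away.algebraMap_isUnit _).pow N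
    refine hu.mul_left_cancel ?_
    rw [← ιD.commutes c, ← map_mul, ← hd, ← hΦA, hg, map_smul, hsmD, ιD.commutes]
  have hrange : ∀ x ∈ Algebra.adjoin A (Set.range f), Φ x ∈ ιD.range := by
    intro x hx
    induction hx using Algebra.adjoin_induction with
    | mem y hy => obtain ⟨i, rfl⟩ := hy; exact ⟨d i, (hΦf i).symm⟩
    | algebraMap a => exact ⟨φ a, (hΦA a).symm⟩
    | add _ _ _ _ ha hb => rw [map_add]; exact add_mem ha hb
    | mul _ _ _ _ ha hb => rw [map_mul]; exact mul_mem ha hb
  let ψ : Algebra.adjoin A (Set.range f) →ₐ[R] D :=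
    (AlgEquiv.ofInjective ιD hιinj).symm.toAlgHom.comp
      ((Φ.comp ((Algebra.adjoin A (Set.range f)).val.restrictScalars R)).codRestrict ιD.range
        fun x => hrange x.1 x.2)
  have hψ : ∀ x, ιD (ψ x) = Φ x := fun x =>
    congrArg Subtype.val ((AlgEquiv.ofInjective ιD hιinj).apply_symm_apply
      ⟨Φ x, hrange x.1 x.2⟩)
  refine ⟨ψ, AlgHom.ext fun a => hιinj ?_, fun ψ' hψ' => AlgHom.ext fun x => ?_⟩
  · show ιD (ψ (algebraMap A _ a)) = ιD (φ a)
    rw [hψ]
    exact hΦA a
  · obtain ⟨x, hx⟩ := x
    induction hx using Algebra.adjoin_induction with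
    | mem y hy =>
      obtain ⟨i, rfl⟩ := hy
      refine sub_eq_zero.1 (hnzd _ ?_)
      have hc1 : ∀ F : Algebra.adjoin A (Set.range f) →ₐ[R] D,
          F.comp (IsScalarTower.toAlgHom R A _) = φ →
          algebraMap R D c * F ⟨f i, Algebra.subset_adjoin ⟨i, rfl⟩⟩ = φ (g i) := by
        intro F hF
        rw [← Algebra.smul_def, ← map_smul, ← DFunLike.congr_fun hF (g i)]
        exact congrArg F (Subtype.ext (by rw [Subalgebra.coe_smul]; exact (hg i).symm))
      rw [mul_sub, hc1 ψ' hψ', hc1 ψ (AlgHom.ext fun a => hιinj (by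
        show ιD (ψ (algebraMap A _ a)) = ιD (φ a)
        rw [hψ]; exact hΦA a)), sub_self]
    | algebraMap a =>
      refine (DFunLike.congr_fun hψ' a).trans (hιinj ?_)
      rw [hψ]
      exact (hΦA a).symm
    | add y z hy hz iy iz =>
      have := congrArg₂ (· + ·) iy iz
      simp only [← map_add] at this
      exact this
    | mul y z hy hz iy iz =>
      have := congrArg₂ (· * ·) iy iz
      simp only [← map_mul] at this
      exact this

end Groth.Agent.Adic.CV
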