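import Groth.Agent.Adic.CV.DimOneBase
import Mathlib.RingTheory.Idempotents
import Mathlib.RingTheory.IntegralClosure.IntegrallyClosed
import Mathlib.RingTheory.Localization.FractionRing

/-!
Finite domains over complete valuation rings of height one are local; integral closures are
valuation rings.
-/

namespace Groth.Agent.Adic.CV

open AdicRing Polynomial

universe u

variable {R : Type u} [CommRing R] [IsDomain R] [ValuationRing R] [Ring.KrullDimLE 1 R] {t : R}

theorem exists_pow_mem_of_mem (ht : t ≠ 0) [IsAdicComplete (Ideal.span {t}) R] {D : Type u}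
    [CommRing D] [Algebra R D] {y : D}
    (hy : y ∈ (IsLocalRing.maximalIdeal R).map (algebraMap R D)) :
    ∃ m, y ^ m ∈ Ideal.span {algebraMap R D t} := by
  have : (IsLocalRing.maximalIdeal R).map (algebraMap R D) ≤
      (Ideal.span {algebraMap R D t}).radical := by
    rw [Ideal.map_le_iff_le_comap]
    intro a ha
    obtain ⟨m, u, hu⟩ := exists_pow_dvd_of_dvd ht ((IsLocalRing.mem_maximalIdeal a).1 ha)
    exact ⟨m, by rw [← map_pow, hu, map_mul]; exact Ideal.mul_mem_right _ _ (Ideal.mem_span_singleton_self _)⟩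
  exact this hy

/-- A finite domain over `R` is local. -/
theorem isLocalRing_of_finite (ht : t ≠ 0) [IsAdicComplete (Ideal.span {t}) R] (D : Type u)
    [CommRing D] [IsDomain D] [Algebra R D] [Module.Finite R D] : IsLocalRing D := by
  classical
  have h := isBase_classV ht
  have hc := isAdicComplete_of_finite h (topFiniteType_self (t := t)) D
  have hcD : IsAdicComplete (Ideal.span {algebraMap R D t}) D := by
    have := (IsAdicComplete.map_algebraMap_iff (Ideal.span {t}) (S := D) D).2 hc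
    rwa [Ideal.map_span, Set.image_singleton] at this
  have hjac := IsAdicComplete.le_jacobson_bot (Ideal.span {algebraMap R D t})
  by_contra hloc
  obtain ⟨M, hM, N, hN, hne⟩ : ∃ M : Ideal D, M.IsMaximal ∧ ∃ N : Ideal D, N.IsMaximal ∧ M ≠ N := by
    obtain ⟨M, hM⟩ := Ideal.exists_maximal D
    by_contra! hall
    exact hloc (IsLocalRing.of_unique_max_ideal ⟨M, hM, fun N hN => (hall M hM N hN).symm⟩)
  have htmem : ∀ P : Ideal D, P.IsMaximal → algebraMap R D t ∈ P := fun P hP =>
    (sInf_le ⟨bot_le, hP⟩ : (⊥ : Ideal D).jacobson ≤ P) (hjac (Ideal.mem_span_singleton_self _))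
  obtain ⟨x, hxM, hxN⟩ := Set.not_subset.1 (fun hsub => hne (hM.eq_of_le hN.ne_top hsub))
  -- the special fibre is artinian
  let 𝔫 := (IsLocalRing.maximalIdeal R).map (algebraMap R D)
  let k := R ⧸ IsLocalRing.maximalIdeal R
  let _ : Algebra k (D ⧸ 𝔫) :=
    (Ideal.quotientMap 𝔫 (algebraMap R D) Ideal.le_comap_map).toAlgebra
  have : IsScalarTower R k (D ⧸ 𝔫) := IsScalarTower.of_algebraMap_eq fun r => rfl
  let : Field k := Ideal.Quotient.field _
  have : Module.Finite R (D ⧸ 𝔫) := inferInstance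
  have : Module.Finite k (D ⧸ 𝔫) := Module.Finite.of_restrictScalars_finite R k (D ⧸ 𝔫)
  have : IsArtinianRing (D ⧸ 𝔫) := isArtinian_of_tower k inferInstance
  obtain ⟨n, y, hy⟩ := IsArtinian.exists_pow_succ_smul_dvd (M := D ⧸ 𝔫)
    (Ideal.Quotient.mk 𝔫 x) (1 : D ⧸ 𝔫)
  rw [smul_eq_mul, smul_eq_mul, mul_one] at hy
  obtain ⟨y, rfl⟩ := Ideal.Quotient.mk_surjective y
  set q := Ideal.Quotient.mk 𝔫 with hq
  have hstep : ∀ j, q x ^ (n + j) * q y ^ j = q x ^ n := by
    intro j
    induction j with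
    | zero => simp
    | succ j ih =>
      calc q x ^ (n + (j + 1)) * q y ^ (j + 1)
          = (q x ^ (n + 1) * q y) * (q x ^ j * q y ^ j) := by ring
        _ = q x ^ n * (q x ^ j * q y ^ j) := by rw [show n.succ = n + 1 from rfl] at hy; rw [hy]
        _ = q x ^ n := by rw [← mul_assoc, ← pow_add, ih]
  -- an idempotent modulo `𝔫`
  have he : IsIdempotentElem (q (x ^ (n + 1) * y ^ (n + 1))) := by
    have h1 : q x ^ (2 * (n + 1)) * q y ^ (n + 1) = q x ^ (n + 1) := by
      calc q x ^ (2 * (n + 1)) * q y ^ (n + 1)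
          = q x * (q x ^ (n + (n + 1)) * q y ^ (n + 1)) := by ring
        _ = q x ^ (n + 1) := by rw [hstep, pow_succ']
    rw [IsIdempotentElem, map_mul, map_pow, map_pow]
    calc q x ^ (n + 1) * q y ^ (n + 1) * (q x ^ (n + 1) * q y ^ (n + 1))
        = (q x ^ (2 * (n + 1)) * q y ^ (n + 1)) * q y ^ (n + 1) := by ring
      _ = _ := by rw [h1]
  have h𝔫 : ∀ P : Ideal D, P.IsMaximal → 𝔫 ≤ P := fun P hP z hz => by
    obtain ⟨m, hm⟩ := exists_pow_mem_of_mem ht hz
    exact hP.isPrime.mem_of_pow_mem m ((Ideal.span_singleton_le_iff_mem _).2 (htmem P hP) hm)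
  have hnN : x ^ (n + 1) * y ^ (n + 1) ∉ N := by
    intro hmem
    have h2 : x ^ (n + (n + 1)) * y ^ (n + 1) - x ^ n ∈ N := h𝔫 N hN (by
      rw [← Ideal.Quotient.eq_zero_iff_mem, map_sub, map_mul, map_pow, map_pow, map_pow]
      exact sub_eq_zero.2 (hstep (n + 1)))
    have h3 : x ^ (n + (n + 1)) * y ^ (n + 1) ∈ N := by
      rw [pow_add, mul_assoc]; exact Ideal.mul_mem_left _ _ hmem
    have := sub_mem h3 h2
    rw [sub_sub_cancel] at this
    exact hxN (hN.isPrime.mem_of_pow_mem n this)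
  have hnM : x ^ (n + 1) * y ^ (n + 1) ∈ M :=
    Ideal.mul_mem_right _ _ (Ideal.pow_mem_of_mem M hxM _ n.succ_pos)
  -- lift to an idempotent modulo `t`
  let I := Ideal.span {algebraMap R D t}
  have hle : I ≤ 𝔫 := by
    rw [Ideal.span_singleton_le_iff_mem]
    exact Ideal.mem_map_of_mem _ ((IsLocalRing.mem_maximalIdeal t).2 not_isUnit_t)
  obtain ⟨e, hei, heq⟩ := exists_isIdempotentElem_eq_of_ker_isNilpotent
    (f := Ideal.Quotient.factor hle) (fun z hz => by
      obtain ⟨z, rfl⟩ := Ideal.Quotient.mk_surjective z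
      rw [RingHom.mem_ker, Ideal.Quotient.factor_mk, Ideal.Quotient.eq_zero_iff_mem] at hz
      obtain ⟨m, hm⟩ := exists_pow_mem_of_mem ht hz
      exact ⟨m, by rw [← map_pow]; exact Ideal.Quotient.eq_zero_iff_mem.2 hm⟩)
    _ ⟨Ideal.Quotient.mk I _, Ideal.Quotient.factor_mk hle _⟩ he
  obtain ⟨e, rfl⟩ := Ideal.Quotient.mk_surjective e
  rw [Ideal.Quotient.factor_mk] at heq
  have hsq : e * e - e ∈ I := by
    rw [← Ideal.Quotient.eq_zero_iff_mem, map_sub, map_mul, hei.eq, sub_self]
  have hu : IsUnit (Ideal.Quotient.mk I (2 * e - 1)) := by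
    refine IsUnit.of_mul_eq_one (Ideal.Quotient.mk I (2 * e - 1)) ?_
    rw [← map_mul, ← map_one (Ideal.Quotient.mk I), Ideal.Quotient.eq,
      show (2 * e - 1) * (2 * e - 1) - 1 = 4 * (e * e - e) by ring]
    exact Ideal.mul_mem_left _ _ hsq
  obtain ⟨a, ha, hae⟩ := HenselianRing.is_henselian (I := I) (Polynomial.X ^ 2 - Polynomial.X)
    (Polynomial.monic_X_pow_sub (by rw [Polynomial.degree_X]; norm_num)) e
    (by simpa [sq] using hsq) (by
      rw [show (derivative (X ^ 2 - X : D[X])).eval e = 2 * e - 1 by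
        simp [derivative_X_pow, one_add_one_eq_two]]
      exact hu)
  have ha' : a * (a - 1) = 0 := by
    simp only [IsRoot, eval_sub, eval_pow, eval_X] at ha
    linear_combination ha
  have hcong : ∀ P : Ideal D, P.IsMaximal → (a - x ^ (n + 1) * y ^ (n + 1)) ∈ P := fun P hP => by
    have h1 : a - e ∈ P := h𝔫 P hP (hle hae)
    have h2 : e - x ^ (n + 1) * y ^ (n + 1) ∈ P := h𝔫 P hP (Ideal.Quotient.eq.1 heq)
    simpa using add_mem h1 h2
  rcases mul_eq_zero.1 ha' with h0 | h1
  · refine hnN ?_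
    have := hcong N hN
    rw [h0, zero_sub] at this
    exact neg_mem_iff.1 this
  · refine hM.ne_top ((Ideal.eq_top_iff_one M).2 ?_)
    have := add_mem (hcong M hM) hnM
    rw [sub_eq_zero.1 h1, sub_add_cancel] at this
    exact this

end Groth.Agent.Adic.CV
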