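import Groth.Agent.Adic.CV.PolyIdeal
import Mathlib.RingTheory.FiniteType

/-!
Saturated submodules of finite modules over algebras of finite type over an algebra topologically
of finite type.
-/

namespace Groth.Agent.Adic.CV

open AdicRing MvPolynomial

universe u

variable {R : Type u} [CommRing R]

theorem satFG_mvPolynomial [IsDomain R] [ValuationRing R] [Ring.KrullDimLE 1 R] {t : R} (ht : t ≠ 0)
    (htu : ¬ IsUnit t) (n m : ℕ) :
    SatFG (Ideal.span {t}) (MvPolynomial (Fin m) (RPow R (Ideal.span {t}) n)) := by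
  refine satFG_of_free fun s N hN => ?_
  let P := RPow R (Ideal.span {t}) n
  let ψ : MvPolynomial (Fin m ⊕ Fin s) P →ₐ[P] TrivSqZeroExt (MvPolynomial (Fin m) P)
      (Fin s → MvPolynomial (Fin m) P) := aeval (Sum.elim
    (fun i => TrivSqZeroExt.inl (X i)) (fun j => TrivSqZeroExt.inr (Pi.single j 1)))
  refine fg_of_saturated_free_of_sqZero (S' := MvPolynomial (Fin m ⊕ Fin s) P) ?_
    (fg_of_saturated_mvPolynomial ht htu _) s (ψ.restrictScalars R) (fun x => ?_) N hN
  · intro x hx
    ext c : 1
    refine eq_zero_of_smul_eq_zero ht _ ?_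
    rw [← MvPolynomial.coeff_smul, hx, MvPolynomial.coeff_zero]
  · have hι : ψ.comp (rename Sum.inl) = TrivSqZeroExt.inlAlgHom P (MvPolynomial (Fin m) P)
        (Fin s → MvPolynomial (Fin m) P) :=
      MvPolynomial.algHom_ext fun i => by
        rw [AlgHom.comp_apply, rename_X, aeval_X]
        rfl
    have hι' : ∀ a, ψ (rename Sum.inl a) = TrivSqZeroExt.inl a := DFunLike.congr_fun hι
    refine ⟨rename Sum.inl x.fst + ∑ j, rename Sum.inl (x.snd j) * X (Sum.inr j), ?_⟩
    show ψ _ = x
    have hY : ∀ j, ψ (X (Sum.inr j)) = TrivSqZeroExt.inr (Pi.single j 1) := fun j => aeval_X _ _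
    simp only [map_add, map_sum, map_mul]
    rw [hι', Finset.sum_congr rfl fun j _ => by rw [hι', hY]]
    refine TrivSqZeroExt.ext ?_ ?_
    · rw [TrivSqZeroExt.fst_add, TrivSqZeroExt.fst_inl, TrivSqZeroExt.fst_sum,
        Finset.sum_eq_zero fun j _ => ?_, add_zero]
      rw [TrivSqZeroExt.fst_mul, TrivSqZeroExt.fst_inr, mul_zero]
    · simp only [TrivSqZeroExt.snd_add, TrivSqZeroExt.snd_inl, TrivSqZeroExt.snd_sum,
        TrivSqZeroExt.snd_mul, TrivSqZeroExt.fst_inl, TrivSqZeroExt.snd_inr, TrivSqZeroExt.fst_inr,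
        zero_add, smul_zero, add_zero]
      exact (pi_eq_sum_univ' x.snd).symm

theorem satFG_of_finiteType {I : Ideal R} (h : IsBase R I) {A : Type u} [CommRing A] [Algebra R A]
    (hA : TopFiniteType R I A) (C : Type u) [CommRing C] [Algebra R C] [Algebra A C]
    [IsScalarTower R A C] [Algebra.FiniteType A C] : SatFG I C := by
  rcases isBase_cases h with hN | ⟨_, _, _, t, ht, htu, rfl⟩
  · have := isNoetherianRing_of_topFiniteType hA
    have := Algebra.FiniteType.isNoetherianRing A C
    exact satFG_of_isNoetherianRing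
  obtain ⟨n, φ, hφ⟩ := hA
  obtain ⟨m, g, hg⟩ := Algebra.FiniteType.iff_quotient_mvPolynomial''.1
    (inferInstance : Algebra.FiniteType A C)
  refine satFG_of_surjective ((g.restrictScalars R).comp (MvPolynomial.mapAlgHom φ)) ?_
    (satFG_mvPolynomial ht htu n m)
  exact hg.comp (MvPolynomial.map_surjective φ.toRingHom hφ)

theorem exists_torsion_bound {I : Ideal R} (h : IsBase R I) {A : Type u} [CommRing A] [Algebra R A]
    (hA : TopFiniteType R I A) (C : Type u) [CommRing C] [Algebra R C] [Algebra A C]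
    [IsScalarTower R A C] [Algebra.FiniteType A C] {M : Type u} [AddCommGroup M] [Module C M]
    [Module R M] [IsScalarTower R C M] [Module.Finite C M] (N : Submodule C M) :
    (saturation I N).FG :=
  satFG_of_finiteType h hA C M _ (sat_saturation (fg_of_isBase h) N)

end Groth.Agent.Adic.CV
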