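import Groth.Agent.Adic.CV.Basic
import Mathlib.RingTheory.MvPolynomial.Ideal
import Mathlib.RingTheory.Polynomial.Basic

/-!
Restricted power series over `(R, (t))`: completeness, torsion freeness and reduction modulo a
divisor of `t`.
-/

namespace Groth.Agent.Adic.CV

open AdicRing MvPolynomial

universe u

variable {R : Type u} [CommRing R]

theorem rpow_algebraMap (I : Ideal R) (n : ℕ) (r : R) :
    algebraMap R (RPow R I n) r = AdicCompletion.of _ _ (C r) := rfl

theorem rpow_map (I : Ideal R) (n : ℕ) :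
    I.map (algebraMap R (RPow R I n)) = (I.map (C : R →+* MvPolynomial (Fin n) R)).map
      (algebraMap (MvPolynomial (Fin n) R) (RPow R I n)) := by
  rw [Ideal.map_map]; rfl

theorem isAdicComplete_rpow {I : Ideal R} (hI : I.FG) (n : ℕ) :
    IsAdicComplete (I.map (algebraMap R (RPow R I n))) (RPow R I n) := by
  rw [rpow_map]
  have := AdicCompletion.isAdicComplete (M := MvPolynomial (Fin n) R)
    (hI.map (C : R →+* MvPolynomial (Fin n) R))
  exact (IsAdicComplete.map_algebraMap_iff _ _).2 this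

theorem isAdicComplete_rpow_singleton (t : R) (n : ℕ) :
    IsAdicComplete (Ideal.span {algebraMap R (RPow R (Ideal.span {t}) n) t})
      (RPow R (Ideal.span {t}) n) := by
  have := isAdicComplete_rpow (I := Ideal.span {t}) ⟨{t}, by simp⟩ n
  have e : (Ideal.span {t}).map (algebraMap R (RPow R (Ideal.span {t}) n)) =
      Ideal.span {algebraMap R (RPow R (Ideal.span {t}) n) t} := by
    simp only [Ideal.map_span, Set.image_singleton]
  exact e ▸ this

theorem eq_zero_of_smul_eq_zero [IsDomain R] {t : R} (ht : t ≠ 0) {n : ℕ}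
    (z : RPow R (Ideal.span {t}) n) (h : t • z = 0) : z = 0 := by
  refine AdicCompletion.ext_evalₐ fun k => ?_
  obtain ⟨p, hp⟩ := Ideal.Quotient.mk_surjective
    (AdicCompletion.evalₐ ((Ideal.span {t}).map (C : R →+* MvPolynomial (Fin n) R)) (k + 1) z)
  have hle : ((Ideal.span {t}).map (C : R →+* MvPolynomial (Fin n) R)) ^ (k + 1) ≤
      ((Ideal.span {t}).map (C : R →+* MvPolynomial (Fin n) R)) ^ k :=
    Ideal.pow_le_pow_right k.le_succ
  have hfac : AdicCompletion.evalₐ ((Ideal.span {t}).map (C : R →+* MvPolynomial (Fin n) R)) k z =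
      Ideal.Quotient.factor hle (Ideal.Quotient.mk _ p) := by
    rw [hp]
    obtain ⟨a, rfl⟩ := AdicCompletion.mk_surjective
      ((Ideal.span {t}).map (C : R →+* MvPolynomial (Fin n) R)) _ z
    simp only [AdicCompletion.evalₐ_mk, Ideal.Quotient.factor_mk]
    exact (AdicCompletion.Ideal.mk_eq_mk _ k.le_succ a).symm
  rw [hfac, map_zero, Ideal.Quotient.factor_mk, Ideal.Quotient.eq_zero_iff_mem]
  have h1 : AdicCompletion.evalₐ ((Ideal.span {t}).map (C : R →+* MvPolynomial (Fin n) R)) (k + 1)
      (t • z) = 0 := by rw [h, map_zero]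
  rw [← algebraMap_smul (MvPolynomial (Fin n) R) t z, map_smul, ← hp] at h1
  rw [Algebra.smul_def, Ideal.Quotient.algebraMap_eq, ← map_mul, Ideal.Quotient.eq_zero_iff_mem]
    at h1
  simp only [Ideal.span_singleton_pow, Ideal.map_span, Set.image_singleton,
    Ideal.mem_span_singleton, algebraMap_eq] at h1 ⊢
  rw [pow_succ', mul_dvd_mul_iff_left (by simpa using ht)] at h1
  exact h1

variable {t : R}

/-- Reduction modulo a divisor `δ` of `t`. -/
noncomputable def res (t : R) (n : ℕ) {δ : R} (hδ : δ ∣ t) :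
    RPow R (Ideal.span {t}) n →+* MvPolynomial (Fin n) (R ⧸ Ideal.span {δ}) :=
  (Ideal.Quotient.lift _ (MvPolynomial.map (Ideal.Quotient.mk (Ideal.span {δ}))) (by
    intro p hp
    rw [← RingHom.mem_ker, ker_map, Ideal.mk_ker]
    exact Ideal.map_mono (Ideal.span_singleton_le_span_singleton.2 hδ) hp)).comp
  (AdicCompletion.evalOneₐ ((Ideal.span {t}).map (C : R →+* MvPolynomial (Fin n) R))).toRingHom

variable {n : ℕ} {δ : R} (hδ : δ ∣ t)

@[simp] theorem res_of (p : MvPolynomial (Fin n) R) :
    res t n hδ (AdicCompletion.of _ _ p) = MvPolynomial.map (Ideal.Quotient.mk _) p := rfl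

@[simp] theorem res_algebraMap (r : R) :
    res t n hδ (algebraMap R (RPow R (Ideal.span {t}) n) r) = C (Ideal.Quotient.mk _ r) := by
  rw [rpow_algebraMap, res_of, MvPolynomial.map_C]

theorem res_smul (r : R) (x : RPow R (Ideal.span {t}) n) :
    res t n hδ (r • x) = C (Ideal.Quotient.mk _ r) * res t n hδ x := by
  rw [Algebra.smul_def, map_mul, res_algebraMap]

theorem res_surjective : Function.Surjective (res t n hδ) := by
  intro q
  obtain ⟨p, rfl⟩ := MvPolynomial.map_surjective (Ideal.Quotient.mk (Ideal.span {δ}))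
    Ideal.Quotient.mk_surjective q
  exact ⟨AdicCompletion.of _ _ p, res_of hδ p⟩

theorem exists_smul_of_res_eq_zero {z : RPow R (Ideal.span {t}) n} (h : res t n hδ z = 0) :
    ∃ w, z = δ • w := by
  obtain ⟨p, hp⟩ := Ideal.Quotient.mk_surjective
    (AdicCompletion.evalOneₐ ((Ideal.span {t}).map (C : R →+* MvPolynomial (Fin n) R)) z)
  have hd : z - AdicCompletion.of _ _ p ∈
      RingHom.ker (AdicCompletion.evalOneₐ
        ((Ideal.span {t}).map (C : R →+* MvPolynomial (Fin n) R))) := by
    rw [RingHom.mem_ker, map_sub, AdicCompletion.evalOneₐ_of, hp, sub_self]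
  replace hd : _ ∈ RingHom.ker (AdicCompletion.evalOneₐ
    ((Ideal.span {t}).map (C : R →+* MvPolynomial (Fin n) R))).toRingHom := hd
  rw [AdicCompletion.ker_evalOneₐ_eq_map _ (Ideal.FG.map (⟨{t}, by simp⟩ : (Ideal.span {t}).FG) _),
    Ideal.map_map] at hd
  have e : (Ideal.span {t}).map ((algebraMap (MvPolynomial (Fin n) R)
      (RPow R (Ideal.span {t}) n)).comp C) =
      Ideal.span {((algebraMap (MvPolynomial (Fin n) R)
        (RPow R (Ideal.span {t}) n)).comp C) t} := by
    simp only [Ideal.map_span, Set.image_singleton]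
  obtain ⟨w, hw⟩ := Ideal.mem_span_singleton.1 (e ▸ hd)
  have hmap : MvPolynomial.map (Ideal.Quotient.mk (Ideal.span {δ})) p = 0 := by
    rw [← res_of hδ p]
    have : res t n hδ z - res t n hδ (AdicCompletion.of _ _ p) = 0 := by
      rw [← map_sub, hw, map_mul]
      refine mul_eq_zero_of_left ?_ _
      rw [show (algebraMap _ _).comp C t = algebraMap R (RPow R (Ideal.span {t}) n) t from rfl,
        res_algebraMap, Ideal.Quotient.eq_zero_iff_mem.2 (Ideal.mem_span_singleton.2 hδ), map_zero]
    rw [h, zero_sub, neg_eq_zero] at this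
    exact this
  rw [← RingHom.mem_ker, ker_map, Ideal.mk_ker, Ideal.map_span, Set.image_singleton,
    Ideal.mem_span_singleton] at hmap
  obtain ⟨q, hq⟩ := hmap
  obtain ⟨e, he⟩ := hδ
  refine ⟨e • w + AdicCompletion.of _ _ q, ?_⟩
  rw [sub_eq_iff_eq_add] at hw
  rw [hw, smul_add, smul_smul, ← he, hq, Algebra.smul_def, Algebra.smul_def]
  congr 1

end Groth.Agent.Adic.CV
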