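import Groth.Agent.Adic.CV.ValClosure
import Groth.Agent.Adic.CV.CLocLemmas
import Mathlib.RingTheory.LocalRing.RingHom.Basic

/-!
Rig-points: admissible local domains of dimension one.
-/

namespace Groth.Agent.Adic.CV

open AdicRing

universe u

variable {R : Type u} [CommRing R] [IsDomain R] [ValuationRing R] [Ring.KrullDimLE 1 R] {t : R}

theorem mem_of_isIntegral_of_mul_eq_one {B : Type*} [CommRing B] [Algebra R B] (C : Subalgebra R B)
    {w v : B} (hw : w ∈ C) (hv : IsIntegral R v) (hwv : w * v = 1) : v ∈ C := by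
  obtain ⟨p, hp, hpv⟩ := hv
  rw [← Polynomial.aeval_def, Polynomial.aeval_eq_sum_range] at hpv
  have h1 := congrArg (fun z => z * w ^ (p.natDegree - 1)) hpv
  simp only [zero_mul, Finset.sum_mul] at h1
  by_cases hd : p.natDegree = 0
  · have : (1 : B) = 0 := by
      rw [hp.natDegree_eq_zero.1 hd] at hpv
      simpa using hpv
    have hv0 : v = 0 := by rw [← one_mul v, this, zero_mul]
    exact hv0 ▸ C.zero_mem
  · rw [Finset.sum_range_succ] at h1
    have hlead : p.coeff p.natDegree • v ^ p.natDegree * w ^ (p.natDegree - 1) = v := by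
      have e : v ^ p.natDegree * w ^ (p.natDegree - 1) = v := by
        have : v ^ p.natDegree = v * v ^ (p.natDegree - 1) := by
          rw [← pow_succ', Nat.sub_add_cancel (by omega)]
        rw [this, mul_assoc, ← mul_pow, mul_comm v w, hwv, one_pow, mul_one]
      rw [hp.coeff_natDegree, one_smul, e]
    rw [hlead] at h1
    rw [eq_neg_of_add_eq_zero_right h1]
    refine neg_mem (sum_mem fun j hj => ?_)
    rw [smul_mul_assoc]
    refine C.smul_mem ?_ _
    have hj' : j ≤ p.natDegree - 1 := by
      have := Finset.mem_range.1 hj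
      omega
    rw [← Nat.sub_add_cancel hj', pow_add, mul_comm (w ^ (p.natDegree - 1 - j)), ← mul_assoc,
      ← mul_pow, mul_comm v w, hwv, one_pow, one_mul]
    exact pow_mem hw _

theorem surjective_comp_cLoc (ht : t ≠ 0) [IsAdicComplete (Ideal.span {t}) R]
    {A : Type u} [CommRing A] [Algebra R A] (f : A)
    (B : Type u) [CommRing B] [Algebra R B] [IsDomain B] [IsLocalRing B]
    (hB : Admissible R (Ideal.span {t}) B) (hdim : ringKrullDim B = 1)
    (u : CLoc (Ideal.span {t}) f →ₐ[R] B) (hu : Function.Surjective u) :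
    Function.Surjective (u.toRingHom.comp (algebraMap A (CLoc (Ideal.span {t}) f))) := by
  have := finite_of_local_dim_one ht B hB hdim
  let v : A →ₐ[R] B := u.comp (IsScalarTower.toAlgHom R A (CLoc (Ideal.span {t}) f))
  suffices ⊤ ≤ Subalgebra.toSubmodule v.range by
    intro b
    obtain ⟨a, ha⟩ := this (show b ∈ (⊤ : Submodule R B) from trivial)
    exact ⟨a, ha⟩
  obtain ⟨g, hg⟩ := IsLocalization.Away.algebraMap_isUnit (S := Localization.Away f) f |>.exists_right_inv
  let finv : CLoc (Ideal.span {t}) f := AdicCompletion.of _ _ g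
  have hfv : v f * u finv = 1 := by
    show u (algebraMap A (CLoc (Ideal.span {t}) f) f) * u finv = 1
    rw [← map_mul, IsScalarTower.algebraMap_apply A (Localization.Away f) (CLoc (Ideal.span {t}) f),
      show finv = algebraMap (Localization.Away f) (CLoc (Ideal.span {t}) f) g from rfl, ← map_mul,
      hg, map_one, map_one]
  have hmem : u finv ∈ v.range := mem_of_isIntegral_of_mul_eq_one v.range ⟨f, rfl⟩
    (IsIntegral.of_finite R _) hfv
  have hloc : ∀ l : Localization.Away f,
      u (algebraMap (Localization.Away f) (CLoc (Ideal.span {t}) f) l) ∈ v.range := by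
    intro l
    obtain ⟨k, a, hla⟩ := IsLocalization.Away.surj f l
    have h2 := congrArg (fun z => u (algebraMap (Localization.Away f) (CLoc (Ideal.span {t}) f) z)) hla
    simp only [map_mul, map_pow, ← IsScalarTower.algebraMap_apply] at h2
    have h3 : u (algebraMap (Localization.Away f) (CLoc (Ideal.span {t}) f) l) = v a * u finv ^ k := by
      calc _ = u (algebraMap (Localization.Away f) (CLoc (Ideal.span {t}) f) l) *
            (v f * u finv) ^ k := by rw [hfv, one_pow, mul_one]
        _ = (u (algebraMap (Localization.Away f) (CLoc (Ideal.span {t}) f) l) * v f ^ k) *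
            u finv ^ k := by rw [mul_pow, mul_assoc]
        _ = _ := by rw [show v a = u (algebraMap A (CLoc (Ideal.span {t}) f) a) from rfl, ← h2]; rfl
    rw [h3]
    exact Subalgebra.mul_mem _ ⟨a, rfl⟩ (Subalgebra.pow_mem _ hmem k)
  refine Submodule.le_of_le_smul_of_le_jacobson_bot (I := Ideal.span {t}) Module.Finite.fg_top
    (IsAdicComplete.le_jacobson_bot _) fun b _ => ?_
  obtain ⟨z, rfl⟩ := hu b
  obtain ⟨l, hl⟩ := Submodule.Quotient.mk_surjective _
    (AdicCompletion.eval ((Ideal.span {t}).map (algebraMap R (Localization.Away f)))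
      (Localization.Away f) 1 z)
  have hd : z - algebraMap (Localization.Away f) (CLoc (Ideal.span {t}) f) l ∈
      (Ideal.span {t} ^ 1).map (algebraMap R (CLoc (Ideal.span {t}) f)) := by
    rw [← ker_evalₐ (fg_of_isBase (isBase_classV ht)), RingHom.mem_ker]
    show AdicCompletion.evalₐ _ 1 (z - AdicCompletion.of _ _ l) = 0
    rw [map_sub, AdicCompletion.evalₐ_of, sub_eq_zero,
      ← AdicCompletion.factor_eval_eq_evalₐ _ z (by rw [smul_eq_mul, Ideal.mul_top]), ← hl]
    rfl
  have e : (Ideal.span {t} ^ 1).map (algebraMap R (CLoc (Ideal.span {t}) f)) =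
      Ideal.span {algebraMap R (CLoc (Ideal.span {t}) f) t} := by
    simp only [pow_one, Ideal.map_span, Set.image_singleton]
  obtain ⟨y, hy⟩ := Ideal.mem_span_singleton.1 (e ▸ hd)
  refine Submodule.mem_sup.2 ⟨_, hloc l, t • u y, Submodule.smul_mem_smul (Ideal.mem_span_singleton_self t) trivial, ?_⟩
  rw [← map_smul, Algebra.smul_def, ← hy, map_sub]
  abel

theorem range_admissible (ht : t ≠ 0) [IsAdicComplete (Ideal.span {t}) R]
    {A : Type u} [CommRing A] [Algebra R A] (hA : Admissible R (Ideal.span {t}) A)
    (B' : Type u) [CommRing B'] [Algebra R B'] [IsDomain B'] [IsLocalRing B']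
    (hB' : Admissible R (Ideal.span {t}) B') (hdim : ringKrullDim B' = 1) (v : A →ₐ[R] B') :
    Admissible R (Ideal.span {t}) v.range ∧ IsLocalRing v.range ∧ ringKrullDim v.range = 1 := by
  have := finite_of_local_dim_one ht B' hB' hdim
  obtain ⟨⟨n, φ, hφ, -⟩, -⟩ := hA
  have hT : NoPowTorsion (Ideal.span {t}) v.range :=
    noPowTorsion_of_injective v.range.val Subtype.val_injective hB'.2
  have hTFT : TopFiniteType R (Ideal.span {t}) v.range :=
    ⟨n, v.rangeRestrict.comp φ, v.rangeRestrict_surjective.comp hφ⟩
  have hadm : Admissible R (Ideal.span {t}) v.range :=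
    ⟨topFinitePresentation_of_noPowTorsion' (isBase_classV ht) hTFT hT, hT⟩
  have : Algebra.IsIntegral R v.range :=
    Algebra.IsIntegral.of_injective v.range.val Subtype.val_injective
  have : Algebra.IsIntegral v.range B' := Algebra.IsIntegral.tower_top R
  have hloc : IsLocalRing v.range := IsLocalRing.of_nonunits_add fun a b ha hb hu => by
    have hau : ∀ c : v.range, IsUnit (c : B') → IsUnit c := fun c hc =>
      (Algebra.IsIntegral.isLocalHom v.range B').map_nonunit c hc
    rcases IsLocalRing.isUnit_or_isUnit_of_isUnit_add (hu.map v.range.val) with h | h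
    · exact ha (hau a h)
    · exact hb (hau b h)
  have : Ring.KrullDimLE 1 v.range := Ring.KrullDimLE.mk₁' fun q hq hqp => by
    have hinj := injective_algebraMap_of_admissible (t := t) v.range hT
    refine Ideal.isMaximal_of_isIntegral_of_isMaximal_comap (R := R) q ?_
    refine Ideal.IsPrime.isMaximal_of_ne_bot (Ideal.comap_isPrime _ _) fun h0 => hq ?_
    exact Ideal.eq_bot_of_comap_eq_bot h0
  refine ⟨hadm, hloc, ringKrullDim_eq_one (x := algebraMap R v.range t) ?_ ?_⟩
  · exact algebraMap_ne_zero_of_noPowTorsion not_isUnit_t hT ht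
  · intro hu
    refine not_isUnit_t (t := t) ?_
    have : FaithfulSMul R v.range := (faithfulSMul_iff_algebraMap_injective R v.range).2
      (injective_algebraMap_of_admissible (t := t) v.range hT)
    exact (Algebra.IsIntegral.isLocalHom R v.range).map_nonunit t hu

theorem ringKrullDim_eq_one_of_finite (ht : t ≠ 0) [IsAdicComplete (Ideal.span {t}) R]
    (D : Type*) [CommRing D] [IsDomain D] [Algebra R D] [Module.Finite R D]
    (hinj : Function.Injective (algebraMap R D)) : ringKrullDim D = 1 := by
  have : Ring.KrullDimLE 1 D := Ring.KrullDimLE.mk₁' fun q hq hqp => by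
    refine Ideal.isMaximal_of_isIntegral_of_isMaximal_comap (R := R) q ?_
    refine Ideal.IsPrime.isMaximal_of_ne_bot (Ideal.comap_isPrime _ _) fun h0 => hq ?_
    exact Ideal.eq_bot_of_comap_eq_bot h0
  refine ringKrullDim_eq_one (x := algebraMap R D t) (fun h => ht (hinj (h.trans (map_zero _).symm)))
    fun hu => not_isUnit_t (t := t) ?_
  have : FaithfulSMul R D := (faithfulSMul_iff_algebraMap_injective R D).2 hinj
  exact (Algebra.IsIntegral.isLocalHom R D).map_nonunit t hu

theorem exists_local_subalgebra_principal (ht : t ≠ 0) [IsAdicComplete (Ideal.span {t}) R]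
    (B : Type u) [CommRing B] [Algebra R B] [IsDomain B] [IsLocalRing B]
    (hB : Admissible R (Ideal.span {t}) B) (hdim : ringKrullDim B = 1)
    {n : ℕ} (b : Fin n → B) (hb : ∃ i, b i ≠ 0) :
    ∃ B' : Subalgebra B (FractionRing B), Module.Finite B B' ∧ IsLocalRing B' ∧
      ringKrullDim B' = 1 ∧ ∃ i, Ideal.span (Set.range (fun j => algebraMap B B' (b j))) =
        Ideal.span {algebraMap B B' (b i)} := by
  classical
  have := finite_of_local_dim_one ht B hB hdim
  have hinj := injective_algebraMap_of_admissible (t := t) B hB.2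
  let L := FractionRing B
  let O := integralClosure B L
  have := valuationRing_integralClosure ht B hinj
  obtain ⟨i₀, hi₀⟩ := hb
  obtain ⟨i, -, hi⟩ := exists_content (Finset.univ.filter fun j => b j ≠ 0) ⟨i₀, by simp [hi₀]⟩
    (fun j => algebraMap B O (b j))
  have hdiv : ∀ j, ∃ c : O, algebraMap B O (b j) = algebraMap B O (b i) * c := by
    intro j
    by_cases hj : b j = 0
    · exact ⟨0, by rw [hj, map_zero, mul_zero]⟩
    · exact hi j (by simp [hj])
  choose c hc using hdiv
  let B' := Algebra.adjoin B (Set.range fun j => (c j : L))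
  have hfin : Module.Finite B B' := Module.Finite.of_fg (fg_adjoin_of_finite (Set.finite_range _)
    (by rintro _ ⟨j, rfl⟩; exact (c j).2))
  have hfinR : Module.Finite R B' := Module.Finite.trans B B'
  have hinj' : Function.Injective (algebraMap R B') := by
    refine Function.Injective.of_comp (f := B'.val) ?_
    rw [show (B'.val : B' → L) ∘ algebraMap R B' = algebraMap R L from rfl,
      IsScalarTower.algebraMap_eq R B L]
    exact (IsFractionRing.injective B L).comp hinj
  refine ⟨B', hfin, isLocalRing_of_finite ht B', ringKrullDim_eq_one_of_finite ht B' hinj', i, ?_⟩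
  refine le_antisymm (Ideal.span_le.2 ?_)
    ((Ideal.span_singleton_le_iff_mem _).2 (Ideal.subset_span ⟨i, rfl⟩))
  rintro _ ⟨j, rfl⟩
  rw [SetLike.mem_coe, Ideal.mem_span_singleton]
  exact ⟨⟨c j, Algebra.subset_adjoin ⟨j, rfl⟩⟩, Subtype.ext
    (show algebraMap B L (b j) = algebraMap B L (b i) * (c j : L) from congrArg Subtype.val (hc j))⟩

end Groth.Agent.Adic.CV
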