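import Groth.Agent.Adic.CV.RPowRes
import Mathlib.RingTheory.MvPolynomial.Groebner
import Mathlib.RingTheory.LocalRing.ResidueField.Basic
import Mathlib.Data.Finsupp.PWO

/-!
Gabber's lemma: saturated ideals of restricted power series over a complete valuation ring of
height one are finitely generated (division algorithm for a monomial order).
-/

namespace Groth.Agent.Adic.CV

open AdicRing MvPolynomial MonomialOrder

universe u

variable {R : Type u} [CommRing R] {t : R} {n : ℕ}

theorem res_eq_map {δ : R} (hδ : δ ∣ t) (x : RPow R (Ideal.span {t}) n) :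
    res t n hδ x = MvPolynomial.map
      (Ideal.Quotient.factor (Ideal.span_singleton_le_span_singleton.2 hδ))
      (res t n dvd_rfl x) := by
  obtain ⟨p, hp⟩ := Ideal.Quotient.mk_surjective
    (AdicCompletion.evalOneₐ ((Ideal.span {t}).map (C : R →+* MvPolynomial (Fin n) R)) x)
  simp only [res, RingHom.comp_apply, AlgHom.toRingHom_eq_coe, RingHom.coe_coe, ← hp,
    Ideal.Quotient.lift_mk, MvPolynomial.map_map, Ideal.Quotient.factor_comp_mk]

variable [IsDomain R] [ValuationRing R]

/-- Reduction to the residue field. -/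
noncomputable def red (t : R) (n : ℕ) (htu : ¬ IsUnit t) :
    RPow R (Ideal.span {t}) n →+* MvPolynomial (Fin n) (IsLocalRing.ResidueField R) :=
  (MvPolynomial.map (Ideal.Quotient.lift (Ideal.span {t}) (IsLocalRing.residue R) fun a ha => by
    obtain ⟨b, rfl⟩ := Ideal.mem_span_singleton.1 ha
    rw [map_mul, (IsLocalRing.residue_eq_zero_iff t).2 htu, zero_mul])).comp (res t n dvd_rfl)

theorem red_of (htu : ¬ IsUnit t) (p : MvPolynomial (Fin n) R) :
    red t n htu (AdicCompletion.of _ _ p) = MvPolynomial.map (IsLocalRing.residue R) p := by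
  rw [red, RingHom.comp_apply, res_of, MvPolynomial.map_map, Ideal.Quotient.lift_comp_mk]

theorem red_smul (htu : ¬ IsUnit t) (r : R) (x : RPow R (Ideal.span {t}) n) :
    red t n htu (r • x) = C (IsLocalRing.residue R r) * red t n htu x := by
  rw [Algebra.smul_def, map_mul, red, RingHom.comp_apply, res_algebraMap, MvPolynomial.map_C,
    Ideal.Quotient.lift_mk]

theorem red_surjective (htu : ¬ IsUnit t) : Function.Surjective (red t n htu) := fun q => by
  obtain ⟨p, rfl⟩ := MvPolynomial.map_surjective (IsLocalRing.residue R)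
    IsLocalRing.residue_surjective q
  exact ⟨AdicCompletion.of _ _ p, red_of htu p⟩

variable [Ring.KrullDimLE 1 R]

theorem fg_of_saturated_ideal (ht : t ≠ 0) (htu : ¬ IsUnit t)
    (J : Ideal (RPow R (Ideal.span {t}) n)) (hsat : ∀ x, t • x ∈ J → x ∈ J) : J.FG := by
  classical
  let m : MonomialOrder (Fin n) := MonomialOrder.lex
  let q := IsLocalRing.residue R
  let D : Set (Fin n →₀ ℕ) :=
    {d | ∃ x ∈ J, red t n htu x ≠ 0 ∧ m.degree (red t n htu x) = d}
  let D0 : Set (Fin n →₀ ℕ) := {d | Minimal (· ∈ D) d}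
  have hD0 : D0.Finite :=
    (setOfPred_minimal_antichain (· ∈ D)).finite_of_partiallyWellOrderedOn
      (Set.isPWO_of_wellQuasiOrderedLE D0)
  have : Fintype D0 := hD0.fintype
  have hg : ∀ d : D0, ∃ x ∈ J, red t n htu x ≠ 0 ∧ m.degree (red t n htu x) = d := fun d => d.2.1
  choose g hgJ hg0 hgd using hg
  have hp : ∀ d : D0, ∃ p : MvPolynomial (Fin n) R,
      MvPolynomial.map (Ideal.Quotient.mk (Ideal.span {t})) p = res t n dvd_rfl (g d) :=
    fun d => MvPolynomial.map_surjective _ Ideal.Quotient.mk_surjective _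
  choose p hp using hp
  have hred : ∀ d, red t n htu (g d) = MvPolynomial.map q (p d) := fun d => by
    rw [red, RingHom.comp_apply, ← hp, MvPolynomial.map_map, Ideal.Quotient.lift_comp_mk]
  let s : Finset R := insert t (Finset.univ.biUnion fun d : D0 =>
    ((p d).support.filter fun c => m.toSyn (d : Fin n →₀ ℕ) < m.toSyn c).image
      fun c => (p d).coeff c)
  obtain ⟨δ, hδs, hδ⟩ := exists_content s ⟨t, Finset.mem_insert_self _ _⟩ id
  simp only [id] at hδ
  have hδu : ¬ IsUnit δ := by
    rcases Finset.mem_insert.1 hδs with rfl | hmem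
    · exact htu
    · simp only [Finset.mem_biUnion, Finset.mem_univ, true_and, Finset.mem_image,
        Finset.mem_filter] at hmem
      obtain ⟨d, c, ⟨-, hlt⟩, rfl⟩ := hmem
      have h0 := m.coeff_eq_zero_of_lt (f := red t n htu (g d)) (d := c) (by rwa [hgd])
      rw [hred, MvPolynomial.coeff_map] at h0
      exact fun hu => (hu.map q).ne_zero h0
  have hδt : δ ∣ t := hδ t (Finset.mem_insert_self _ _)
  let S := R ⧸ Ideal.span {δ}
  have hdeg : ∀ d : D0, m.degree (res t n hδt (g d)) = (d : Fin n →₀ ℕ) ∧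
      IsUnit (m.leadingCoeff (res t n hδt (g d))) := by
    intro d
    have e : res t n hδt (g d) = MvPolynomial.map (Ideal.Quotient.mk (Ideal.span {δ})) (p d) := by
      rw [res_eq_map, ← hp, MvPolynomial.map_map, Ideal.Quotient.factor_comp_mk]
    have hu : IsUnit ((res t n hδt (g d)).coeff d) := by
      rw [e, MvPolynomial.coeff_map]
      refine IsUnit.map _ ?_
      have := m.leadingCoeff_ne_zero_iff.2 (hg0 d)
      rw [MonomialOrder.leadingCoeff, hgd, hred, MvPolynomial.coeff_map] at this
      by_contra hnu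
      exact this ((IsLocalRing.residue_eq_zero_iff _).2 hnu)
    have : Nontrivial (R ⧸ Ideal.span {δ}) :=
      Ideal.Quotient.nontrivial_iff.2 (by simpa [Ideal.span_singleton_eq_top] using hδu)
    have hd : m.degree (res t n hδt (g d)) = (d : Fin n →₀ ℕ) := by
      refine m.toSyn.injective (le_antisymm (m.degree_le_iff.2 fun c hc => ?_)
        (m.le_degree (MvPolynomial.mem_support_iff.2 hu.ne_zero)))
      by_contra hlt
      rw [MvPolynomial.mem_support_iff, e, MvPolynomial.coeff_map, ne_eq,
        Ideal.Quotient.eq_zero_iff_mem, Ideal.mem_span_singleton] at hc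
      have hne : (p d).coeff c ≠ 0 := fun h0 => hc (by simp [h0])
      exact hc (hδ _ (Finset.mem_insert_of_mem (Finset.mem_biUnion.2 ⟨d, Finset.mem_univ _,
        Finset.mem_image.2 ⟨c, Finset.mem_filter.2 ⟨MvPolynomial.mem_support_iff.2 hne,
          not_le.1 hlt⟩, rfl⟩⟩)))
    exact ⟨hd, by rwa [MonomialOrder.leadingCoeff, hd]⟩
  let G : Ideal (RPow R (Ideal.span {t}) n) := Ideal.span (Set.range g)
  have hG : G.FG := Submodule.fg_span (Set.finite_range g)
  have hGJ : G ≤ J := Ideal.span_le.2 (by rintro _ ⟨d, rfl⟩; exact hgJ d)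
  have key : ∀ x ∈ J, ∃ a ∈ G, ∃ y ∈ J, x = a + δ • y := by
    intro x hx
    obtain ⟨h, r, hxr, -, hr⟩ := m.div (fun d => (hdeg d).2) (res t n hδt x)
    choose h' hh' using fun d => res_surjective hδt (h d)
    let a := ∑ d, h' d * g d
    have ha : a ∈ G := Ideal.sum_mem _ fun d _ =>
      Ideal.mul_mem_left _ _ (Ideal.subset_span ⟨d, rfl⟩)
    have hz : res t n hδt (x - a) = r := by
      rw [map_sub, hxr, map_sum, Finsupp.linearCombination_apply,
        Finsupp.sum_fintype _ _ (by simp)]
      simp [map_mul, hh']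
    suffices r = 0 by
      rw [this] at hz
      obtain ⟨w, hw⟩ := exists_smul_of_res_eq_zero hδt hz
      refine ⟨a, ha, w, hsat w ?_, by rw [← hw]; abel⟩
      obtain ⟨e, he⟩ := hδt
      have ht' : t • w = e • (x - a) := by rw [hw, smul_smul, mul_comm, ← he]
      rw [ht']
      exact Submodule.smul_of_tower_mem _ e (sub_mem hx (hGJ ha))
    by_contra hr0
    obtain ⟨p0, hp0⟩ := MvPolynomial.map_surjective (Ideal.Quotient.mk (Ideal.span {δ}))
      Ideal.Quotient.mk_surjective r
    obtain ⟨i, hi, hdvd⟩ := exists_content r.support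
      (Finset.nonempty_iff_ne_empty.2 (mt MvPolynomial.support_eq_empty.1 hr0)) (fun c => p0.coeff c)
    choose! f hf using hdvd
    let r' : MvPolynomial (Fin n) R :=
      ∑ c ∈ r.support, MvPolynomial.monomial c (if c = i then 1 else f c)
    have hcoeff : ∀ c, r'.coeff c = if c ∈ r.support then (if c = i then 1 else f c) else 0 := by
      intro c
      simp [r', MvPolynomial.coeff_sum, MvPolynomial.coeff_monomial]
    have hmap : MvPolynomial.map (Ideal.Quotient.mk (Ideal.span {δ})) (C (p0.coeff i) * r') = r := by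
      ext c
      rw [MvPolynomial.coeff_map, MvPolynomial.coeff_C_mul, hcoeff]
      by_cases hc : c ∈ r.support
      · rw [if_pos hc]
        conv_rhs => rw [← hp0, MvPolynomial.coeff_map]
        by_cases hci : c = i
        · rw [if_pos hci, mul_one, hci]
        · rw [if_neg hci, ← hf c hc]
      · rw [if_neg hc, mul_zero, map_zero, MvPolynomial.notMem_support_iff.1 hc]
    have hcne : ¬ δ ∣ p0.coeff i := fun hd => by
      refine MvPolynomial.mem_support_iff.1 hi ?_
      rw [← hp0, MvPolynomial.coeff_map, Ideal.Quotient.eq_zero_iff_mem,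
        Ideal.mem_span_singleton]
      exact hd
    obtain ⟨e, he⟩ := (ValuationRing.dvd_total δ (p0.coeff i)).resolve_left hcne
    have heu : ¬ IsUnit e := fun hu => hcne (by rw [he]; exact (hu.mul_right_dvd).2 dvd_rfl)
    have hz' : res t n hδt (x - a - AdicCompletion.of _ _ (C (p0.coeff i) * r')) = 0 := by
      rw [map_sub, hz, res_of, hmap, sub_self]
    obtain ⟨w, hw⟩ := exists_smul_of_res_eq_zero hδt hz'
    let z := AdicCompletion.of ((Ideal.span {t}).map (C : R →+* MvPolynomial (Fin n) R)) _ r' + e • w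
    have hzeq : x - a = p0.coeff i • z := by
      rw [sub_eq_iff_eq_add.1 hw, he, mul_smul, smul_add, add_comm]
      congr 1
      rw [← MvPolynomial.smul_eq_C_mul, LinearMap.map_smul_of_tower]
    have hzJ : z ∈ J := hsat z (by
      obtain ⟨e', he'⟩ := hδt
      have ht' : t • z = (e * e') • (x - a) := by
        rw [hzeq, smul_smul]
        congr 1
        rw [mul_comm (e * e') _, ← mul_assoc, ← he, ← he']
      rw [ht']
      exact Submodule.smul_of_tower_mem _ _ (sub_mem hx (hGJ ha)))
    have hredz : red t n htu z = MvPolynomial.map q r' := by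
      rw [map_add, red_of, red_smul, (IsLocalRing.residue_eq_zero_iff e).2 heu]
      simp [q]
    have hne : red t n htu z ≠ 0 := by
      rw [hredz]
      intro h0
      have := congrArg (MvPolynomial.coeff i) h0
      rw [MvPolynomial.coeff_map, hcoeff, if_pos hi, if_pos rfl] at this
      simp at this
    obtain ⟨d, hdle, hdmin⟩ := (Set.isPWO_of_wellQuasiOrderedLE D).exists_le_minimal
      (show m.degree (red t n htu z) ∈ D from ⟨z, hzJ, hne, rfl⟩)
    refine hr (m.degree (red t n htu z)) ?_ ⟨d, hdmin⟩ (by rw [(hdeg ⟨d, hdmin⟩).1]; exact hdle)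
    have := m.degree_mem_support_iff _ |>.2 hne
    rw [hredz] at this
    have hc := MvPolynomial.support_map_subset _ _ this
    rw [MvPolynomial.mem_support_iff, hcoeff] at hc
    rw [hredz]
    by_contra hcs
    simp [hcs] at hc
  have iter : ∀ k : ℕ, ∀ x ∈ J, ∃ a ∈ G, ∃ y ∈ J, x = a + δ ^ k • y := by
    intro k
    induction k with
    | zero => exact fun x hx => ⟨0, zero_mem _, x, hx, by simp⟩
    | succ k ih =>
      intro x hx
      obtain ⟨a, ha, y, hy, rfl⟩ := ih x hx
      obtain ⟨b, hb, y', hy', rfl⟩ := key y hy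
      exact ⟨a + δ ^ k • b, add_mem ha (Submodule.smul_of_tower_mem _ _ hb), y', hy', by
        rw [smul_add, smul_smul, ← pow_succ, add_assoc]⟩
  obtain ⟨k, u, hu⟩ := exists_pow_dvd_of_dvd ht hδu
  have := isAdicComplete_rpow_singleton t n
  have hle : J ≤ G := le_of_le_sup_smul (algebraMap R (RPow R (Ideal.span {t}) n) t) hG fun x hx => by
    obtain ⟨a, ha, y, hy, rfl⟩ := iter k x hx
    exact ⟨a, ha, u • y, Submodule.smul_of_tower_mem _ u hy, by
      rw [algebraMap_smul, smul_smul, ← hu]⟩
  rwa [le_antisymm hle hGJ]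

end Groth.Agent.Adic.CV
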