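import Groth.Agent.Adic.CV.SatIdeal
import Groth.Agent.Adic.ComplLift
import Mathlib.Algebra.TrivSqZeroExt.Basic
import Mathlib.RingTheory.Finiteness.Cardinality
import Mathlib.RingTheory.Finiteness.Prod

/-!
Saturated submodules of finite modules: from ideals to modules by square-zero extensions, and
restricted power series rings.
-/

namespace Groth.Agent.Adic.CV

open AdicRing MvPolynomial

universe u v w

/-- `N` is saturated with respect to `I`. -/
def Sat {R : Type*} {A : Type*} {M : Type*} [CommRing R] [CommRing A] [AddCommGroup M] [Module A M]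
    [Module R M] (I : Ideal R) (N : Submodule A M) : Prop :=
  ∀ (x : M) (n : ℕ), (∀ a ∈ I ^ n, a • x ∈ N) → x ∈ N

/-- Saturated submodules of finite `A`-modules are finitely generated. -/
def SatFG {R : Type u} [CommRing R] (I : Ideal R) (A : Type u) [CommRing A] [Algebra R A] : Prop :=
  ∀ (M : Type u) [AddCommGroup M] [Module A M] [Module R M] [IsScalarTower R A M]
    [Module.Finite A M] (N : Submodule A M), Sat I N → N.FG

theorem sat_singleton_iff {R A M : Type*} [CommRing R] [CommRing A] [AddCommGroup M] [Module A M]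
    [Module R M] [Algebra R A] [IsScalarTower R A M] (t : R) (N : Submodule A M) :
    Sat (Ideal.span {t}) N ↔ ∀ x, t • x ∈ N → x ∈ N := by
  constructor
  · refine fun h x hx => h x 1 fun a ha => ?_
    rw [pow_one, Ideal.mem_span_singleton'] at ha
    obtain ⟨b, rfl⟩ := ha
    rw [mul_smul]
    exact Submodule.smul_of_tower_mem N b hx
  · intro h x n hn
    have := hn (t ^ n) (Ideal.pow_mem_pow (Ideal.mem_span_singleton_self t) n)
    clear hn
    induction n generalizing x with
    | zero => simpa using this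
    | succ n ih => exact h x (ih (t • x) (by rwa [smul_smul, ← pow_succ]))

variable {R : Type u} [CommRing R] {I : Ideal R}

theorem satFG_of_isNoetherianRing {A : Type u} [CommRing A] [Algebra R A] [IsNoetherianRing A] :
    SatFG I A := by
  intro M _ _ _ _ _ N _
  exact IsNoetherian.noetherian N

theorem satFG_of_surjective {A A' : Type u} [CommRing A] [CommRing A'] [Algebra R A] [Algebra R A']
    (φ : A' →ₐ[R] A) (hφ : Function.Surjective φ) (h : SatFG I A') : SatFG I A := by
  intro M _ _ _ _ _ N hN
  algebraize [φ.toRingHom]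
  letI : Module A' M := Module.compHom M φ.toRingHom
  have : IsScalarTower A' A M := IsScalarTower.of_algebraMap_smul fun _ _ => rfl
  have : IsScalarTower R A' M := IsScalarTower.of_algebraMap_smul fun r x => by
    show φ (algebraMap R A' r) • x = r • x
    rw [φ.commutes, algebraMap_smul]
  have : Module.Finite A' A := Module.Finite.of_surjective (Algebra.linearMap A' A) hφ
  have : Module.Finite A' M := Module.Finite.trans A M
  exact Submodule.FG.of_restrictScalars A' (h M (N.restrictScalars A') hN)

theorem satFG_of_free {A : Type u} [CommRing A] [Algebra R A]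
    (h : ∀ (s : ℕ) (N : Submodule A (Fin s → A)), Sat I N → N.FG) : SatFG I A := by
  intro M _ _ _ _ _ N hN
  obtain ⟨s, f, hf⟩ := Module.Finite.exists_fin' A M
  have : (N.comap f).FG := h s (N.comap f) fun x n hx => hN (f x) n fun a ha => by
    have := hx a ha
    rwa [Submodule.mem_comap, LinearMap.map_smul_of_tower] at this
  simpa [Submodule.map_comap_eq_of_surjective hf] using this.map f

theorem fg_of_saturated_free_of_sqZero {S S' : Type u} [CommRing S] [CommRing S'] [Algebra R S]
    [Algebra R S'] {t : R} (htf : ∀ x : S, t • x = 0 → x = 0)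
    (hid : ∀ J : Ideal S', (∀ x, t • x ∈ J → x ∈ J) → J.FG) (s : ℕ)
    (ψ : S' →ₐ[R] TrivSqZeroExt S (Fin s → S)) (hψ : Function.Surjective ψ)
    (N : Submodule S (Fin s → S)) (hN : Sat (Ideal.span {t}) N) : N.FG := by
  let J' : Ideal (TrivSqZeroExt S (Fin s → S)) :=
    { carrier := {x | x.fst = 0 ∧ x.snd ∈ N}
      zero_mem' := by simp
      add_mem' := fun {a b} ha hb => by
        refine ⟨by simp [ha.1, hb.1], ?_⟩
        simpa using add_mem ha.2 hb.2
      smul_mem' := fun c x hx => by
        refine ⟨by simp [hx.1], ?_⟩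
        simpa [hx.1] using N.smul_mem c.fst hx.2 }
  have hJ : (J'.comap ψ.toRingHom).FG := by
    refine hid _ fun x hx => ?_
    obtain ⟨h1, h2⟩ : (ψ (t • x)).fst = 0 ∧ (ψ (t • x)).snd ∈ N := hx
    simp only [map_smul, TrivSqZeroExt.fst_smul, TrivSqZeroExt.snd_smul] at h1 h2
    exact ⟨htf _ h1, (sat_singleton_iff t N).1 hN _ h2⟩
  have hJ' : J'.FG := by
    have := Ideal.FG.map hJ ψ.toRingHom
    rwa [Ideal.map_comap_of_surjective ψ.toRingHom hψ] at this
  have : Module.Finite S (TrivSqZeroExt S (Fin s → S)) :=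
    inferInstanceAs (Module.Finite S (S × (Fin s → S)))
  have := (Submodule.FG.restrictScalars (R := S) hJ').map (TrivSqZeroExt.sndHom S (Fin s → S))
  convert this using 1
  ext m
  constructor
  · exact fun hm => ⟨TrivSqZeroExt.inr m, ⟨TrivSqZeroExt.fst_inr _ _, by simpa using hm⟩, by simp⟩
  · rintro ⟨x, ⟨-, hx⟩, rfl⟩
    exact hx

/-- Completeness of products for a principal ideal. -/
theorem isAdicComplete_prod {M N : Type*} [AddCommGroup M] [Module R M] [AddCommGroup N]
    [Module R N] (t : R) [IsAdicComplete (Ideal.span {t}) M] [IsAdicComplete (Ideal.span {t}) N] :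
    IsAdicComplete (Ideal.span {t}) (M × N) where
  haus' x hx := by
    simp only [SModEq.sub_mem, sub_zero, Ideal.span_singleton_pow,
      Submodule.ideal_span_singleton_smul] at hx
    refine Prod.ext (IsHausdorff.haus inferInstance (I := Ideal.span {t}) x.1 fun n => ?_)
      (IsHausdorff.haus inferInstance (I := Ideal.span {t}) x.2 fun n => ?_) <;>
    · simp only [SModEq.sub_mem, sub_zero, Ideal.span_singleton_pow,
        Submodule.ideal_span_singleton_smul]
      obtain ⟨y, -, hy⟩ := (Submodule.mem_smul_pointwise_iff_exists _ _ _).1 (hx n)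
      first
        | exact (Submodule.mem_smul_pointwise_iff_exists _ _ _).2
            ⟨y.1, trivial, congrArg Prod.fst hy⟩
        | exact (Submodule.mem_smul_pointwise_iff_exists _ _ _).2
            ⟨y.2, trivial, congrArg Prod.snd hy⟩
  prec' f hf := by
    simp only [SModEq.sub_mem, Ideal.span_singleton_pow,
      Submodule.ideal_span_singleton_smul] at hf ⊢
    have h1 : ∀ {m n}, m ≤ n → (f m).1 ≡ (f n).1 [SMOD (Ideal.span {t} ^ m • ⊤ : Submodule R M)] := by
      intro m n h
      obtain ⟨y, -, hy⟩ := (Submodule.mem_smul_pointwise_iff_exists _ _ _).1 (hf h)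
      rw [SModEq.sub_mem, Ideal.span_singleton_pow, Submodule.ideal_span_singleton_smul]
      exact (Submodule.mem_smul_pointwise_iff_exists _ _ _).2 ⟨y.1, trivial, congrArg Prod.fst hy⟩
    have h2 : ∀ {m n}, m ≤ n → (f m).2 ≡ (f n).2 [SMOD (Ideal.span {t} ^ m • ⊤ : Submodule R N)] := by
      intro m n h
      obtain ⟨y, -, hy⟩ := (Submodule.mem_smul_pointwise_iff_exists _ _ _).1 (hf h)
      rw [SModEq.sub_mem, Ideal.span_singleton_pow, Submodule.ideal_span_singleton_smul]
      exact (Submodule.mem_smul_pointwise_iff_exists _ _ _).2 ⟨y.2, trivial, congrArg Prod.snd hy⟩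
    obtain ⟨a, ha⟩ := IsPrecomplete.prec inferInstance (f := fun n => (f n).1) h1
    obtain ⟨b, hb⟩ := IsPrecomplete.prec inferInstance (f := fun n => (f n).2) h2
    refine ⟨(a, b), fun n => ?_⟩
    have := ha n
    have := hb n
    simp only [SModEq.sub_mem, Ideal.span_singleton_pow,
      Submodule.ideal_span_singleton_smul] at *
    obtain ⟨y, -, hy⟩ := (Submodule.mem_smul_pointwise_iff_exists _ _ _).1 (ha n)
    obtain ⟨z, -, hz⟩ := (Submodule.mem_smul_pointwise_iff_exists _ _ _).1 (hb n)
    exact (Submodule.mem_smul_pointwise_iff_exists _ _ _).2 ⟨(y, z), trivial, Prod.ext hy hz⟩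

theorem isAdicComplete_of_linearEquiv {M N : Type*} [AddCommGroup M] [Module R M] [AddCommGroup N]
    [Module R N] (J : Ideal R) (e : M ≃ₗ[R] N) [IsAdicComplete J M] : IsAdicComplete J N := by
  have key : ∀ n (x y : N), x ≡ y [SMOD (J ^ n • ⊤ : Submodule R N)] ↔
      e.symm x ≡ e.symm y [SMOD (J ^ n • ⊤ : Submodule R M)] := by
    intro n x y
    rw [SModEq.sub_mem, SModEq.sub_mem, ← map_sub]
    have : (J ^ n • ⊤ : Submodule R M) = (J ^ n • ⊤ : Submodule R N).map e.symm.toLinearMap := by
      rw [Submodule.map_smul'', Submodule.map_top, LinearEquiv.range]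
    rw [this, Submodule.mem_map]
    exact ⟨fun h => ⟨_, h, rfl⟩, fun ⟨z, hz, he⟩ => e.symm.injective he ▸ hz⟩
  refine { haus' := ?_, prec' := ?_ }
  · intro x hx
    simpa using IsHausdorff.haus inferInstance (I := J) (e.symm x) fun n => by
      simpa using (key n x 0).1 (hx n)
  · intro f hf
    obtain ⟨L, hL⟩ := IsPrecomplete.prec inferInstance (I := J) (f := fun n => e.symm (f n))
      fun {m n} h => (key m _ _).1 (hf h)
    exact ⟨e L, fun n => (key n _ _).2 (by simpa using hL n)⟩

theorem isAdicComplete_finFun {M : Type*} [AddCommGroup M] [Module R M] (t : R)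
    [IsAdicComplete (Ideal.span {t}) M] (s : ℕ) :
    IsAdicComplete (Ideal.span {t}) (Fin s → M) := by
  induction s with
  | zero => infer_instance
  | succ s ih =>
    have := isAdicComplete_prod t (M := M) (N := Fin s → M)
    exact isAdicComplete_of_linearEquiv _ (Fin.consLinearEquiv R fun _ : Fin (s + 1) => M)

/-- The variables of the ring of restricted power series. -/
noncomputable def varX (I : Ideal R) {n : ℕ} (i : Fin n) : RPow R I n :=
  AdicCompletion.of (I.map (C : R →+* MvPolynomial (Fin n) R)) _ (X i)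

/-- Evaluation of restricted power series in a complete algebra. -/
noncomputable def rpowLift (I : Ideal R) {B : Type*} [CommRing B] [Algebra R B]
    [IsAdicComplete (I.map (algebraMap R B)) B] {n : ℕ} (v : Fin n → B) : RPow R I n →ₐ[R] B :=
  complLift (C := MvPolynomial (Fin n) R) I (aeval v)

theorem rpowLift_varX (I : Ideal R) {B : Type*} [CommRing B] [Algebra R B]
    [IsAdicComplete (I.map (algebraMap R B)) B] {n : ℕ} (v : Fin n → B) (i : Fin n) :
    rpowLift I v (varX I i) = v i :=
  (complLift_of (C := MvPolynomial (Fin n) R) I (aeval v) (X i)).trans (aeval_X v i)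

theorem rpow_algHom_ext {I : Ideal R} (hI : I.FG) {B : Type*} [CommRing B] [Algebra R B]
    [IsHausdorff (I.map (algebraMap R B)) B] {n : ℕ} {f g : RPow R I n →ₐ[R] B}
    (h : ∀ i, f (varX I i) = g (varX I i)) : f = g := by
  refine complExt (C := MvPolynomial (Fin n) R) I hI f g fun p => ?_
  have e : f.comp (IsScalarTower.toAlgHom R (MvPolynomial (Fin n) R) (RPow R I n)) =
      g.comp (IsScalarTower.toAlgHom R (MvPolynomial (Fin n) R) (RPow R I n)) :=
    MvPolynomial.algHom_ext h
  exact DFunLike.congr_fun e p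

section rpow

variable [IsDomain R] [ValuationRing R] [Ring.KrullDimLE 1 R] {t : R}

theorem satFG_rpow (ht : t ≠ 0) (htu : ¬ IsUnit t) (n : ℕ) :
    SatFG (Ideal.span {t}) (RPow R (Ideal.span {t}) n) := by
  refine satFG_of_free fun s N hN => ?_
  let I := Ideal.span {t}
  let P := RPow R I n
  let P' := RPow R I (n + s)
  let T := TrivSqZeroExt P (Fin s → P)
  have hP := isAdicComplete_rpow (I := I) ⟨{t}, by simp [I]⟩
  have : IsAdicComplete I P := (IsAdicComplete.map_algebraMap_iff I P).1 (hP n)
  have : IsAdicComplete I T := by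
    have := isAdicComplete_finFun t (M := P) s
    exact isAdicComplete_prod t (M := P) (N := Fin s → P)
  have : IsAdicComplete (I.map (algebraMap R T)) T := (IsAdicComplete.map_algebraMap_iff I T).2 this
  have := hP (n + s)
  let ι : P →ₐ[R] P' := rpowLift I fun i => varX I (Fin.castAdd s i)
  let ψ : P' →ₐ[R] T := rpowLift I (Fin.append
    (fun i => TrivSqZeroExt.inl (varX I i)) (fun j => TrivSqZeroExt.inr (Pi.single j 1)))
  have hι : ψ.comp ι = (TrivSqZeroExt.inlAlgHom R P (Fin s → P)) := by
    refine rpow_algHom_ext ⟨{t}, by simp [I]⟩ fun i => ?_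
    rw [AlgHom.comp_apply, rpowLift_varX, rpowLift_varX, Fin.append_left]
    rfl
  refine fg_of_saturated_free_of_sqZero (fun x hx => eq_zero_of_smul_eq_zero ht x hx)
    (fg_of_saturated_ideal ht htu) s ψ (fun x => ?_) N hN
  refine ⟨ι x.fst + ∑ j, ι (x.snd j) * varX I (Fin.natAdd n j), ?_⟩
  have hY : ∀ j, ψ (varX I (Fin.natAdd n j)) = TrivSqZeroExt.inr (Pi.single j 1) := fun j => by
    rw [rpowLift_varX, Fin.append_right]
  have hι' : ∀ a, ψ (ι a) = TrivSqZeroExt.inl a := DFunLike.congr_fun hι
  simp only [map_add, map_sum, map_mul, hι', hY]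
  refine TrivSqZeroExt.ext ?_ ?_
  · rw [TrivSqZeroExt.fst_add, TrivSqZeroExt.fst_inl, TrivSqZeroExt.fst_sum]
    rw [Finset.sum_eq_zero fun j _ => ?_, add_zero]
    rw [TrivSqZeroExt.fst_mul, TrivSqZeroExt.fst_inr, mul_zero]
  simp only [TrivSqZeroExt.snd_add, TrivSqZeroExt.snd_inl, TrivSqZeroExt.snd_sum,
    TrivSqZeroExt.snd_mul, TrivSqZeroExt.fst_inl, TrivSqZeroExt.snd_inr, TrivSqZeroExt.fst_inr,
    zero_add, smul_zero, add_zero]
  exact (pi_eq_sum_univ' x.snd).symm

end rpow

end Groth.Agent.Adic.CV
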