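import Groth.Agent.Adic.CV.GenericPoints
import Mathlib.RingTheory.Ideal.GoingDown
import Mathlib.RingTheory.AdjoinRoot
import Mathlib.RingTheory.TensorProduct.Free
import Mathlib.RingTheory.TensorProduct.Finite

/-!
Surjectivity of specialization onto closed points of formal affine space.
-/

namespace Groth.Agent.Adic.CV

open AdicRing TensorProduct Polynomial

universe u

theorem exists_finite_free_lifting {R : Type u} [CommRing R] (n : ℕ) (h : Fin n → R[X])
    (hh : ∀ i, (h i).Monic) :
    ∃ (B : Type u) (_ : CommRing B) (_ : Algebra R B) (_ : Module.Free R B) (_ : Module.Finite R B)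
      (v : Fin n → B), Algebra.adjoin R (Set.range v) = ⊤ ∧
      ∀ (L : Type u) [CommRing L] [Algebra R L] (x : Fin n → L), (∀ i, aeval (x i) (h i) = 0) →
        ∃ θ : B →ₐ[R] L, ∀ i, θ (v i) = x i := by
  induction n with
  | zero =>
    refine ⟨R, inferInstance, inferInstance, inferInstance, inferInstance, Fin.elim0, ?_,
      fun L _ _ x _ => ⟨Algebra.ofId R L, fun i => i.elim0⟩⟩
    exact eq_top_iff.2 fun r _ => Subalgebra.algebraMap_mem _ r
  | succ n ih =>
    obtain ⟨B, _, _, _, _, v, hv, hlift⟩ := ih (fun i => h i.succ) (fun i => hh _)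
    let E := AdjoinRoot (h 0)
    have := (hh 0).free_adjoinRoot
    have := (hh 0).finite_adjoinRoot
    let v' : Fin (n + 1) → E ⊗[R] B :=
      Fin.cons (AdjoinRoot.root (h 0) ⊗ₜ 1) fun i => 1 ⊗ₜ v i
    refine ⟨E ⊗[R] B, inferInstance, inferInstance, inferInstance, inferInstance, v', ?_,
      fun L _ _ x hx => ?_⟩
    · refine eq_top_iff.2 fun z _ => ?_
      induction z with
      | zero => exact zero_mem _
      | add a b ha hb => exact add_mem (ha trivial) (hb trivial)
      | tmul e b =>
        rw [show e ⊗ₜ[R] b = Algebra.TensorProduct.includeLeft (R := R) (S := R) e *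
          Algebra.TensorProduct.includeRight b by simp]
        refine mul_mem ?_ ?_
        · have he : e ∈ Algebra.adjoin R ({AdjoinRoot.root (h 0)} : Set E) := by
            rw [AdjoinRoot.adjoinRoot_eq_top]; trivial
          have := (Subalgebra.map_mono (f := (Algebra.TensorProduct.includeLeft : E →ₐ[R] E ⊗[R] B))
            le_rfl) ⟨e, he, rfl⟩
          rw [AlgHom.map_adjoin, Set.image_singleton] at this
          refine Algebra.adjoin_mono ?_ this
          exact Set.singleton_subset_iff.2 ⟨0, Fin.cons_zero _ _⟩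
        · have hb : b ∈ Algebra.adjoin R (Set.range v) := by rw [hv]; trivial
          have := (Subalgebra.map_mono (f := (Algebra.TensorProduct.includeRight : B →ₐ[R] E ⊗[R] B))
            le_rfl) ⟨b, hb, rfl⟩
          rw [AlgHom.map_adjoin, ← Set.range_comp] at this
          refine Algebra.adjoin_mono ?_ this
          rintro _ ⟨i, rfl⟩
          exact ⟨i.succ, Fin.cons_succ _ _ i⟩
    · obtain ⟨θ, hθ⟩ := hlift L (fun i => x i.succ) (fun i => hx _)
      let α : E →ₐ[R] L := AdjoinRoot.liftAlgHom (h 0) (Algebra.ofId R L) (x 0) (hx 0)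
      refine ⟨Algebra.TensorProduct.lift α θ fun _ _ => Commute.all _ _, fun i => ?_⟩
      refine Fin.cases ?_ (fun i => ?_) i
      · simp only [v', Fin.cons_zero, Algebra.TensorProduct.lift_tmul, map_one, mul_one]
        exact AdjoinRoot.liftAlgHom_root _ _ _ _
      · simp only [v', Fin.cons_succ, Algebra.TensorProduct.lift_tmul, map_one, one_mul, hθ]

variable {R : Type u} [CommRing R] [IsDomain R] [ValuationRing R] [Ring.KrullDimLE 1 R] {t : R}

theorem exists_prime_le_maximal (ht : t ≠ 0) [IsAdicComplete (Ideal.span {t}) R] (n : ℕ)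
    (m : Ideal (RPow R (Ideal.span {t}) n)) [hm : m.IsMaximal] :
    ∃ p : Ideal (RPow R (Ideal.span {t}) n), p.IsPrime ∧ p ≤ m ∧
      algebraMap R (RPow R (Ideal.span {t}) n) t ∉ p ∧
      ringKrullDim (RPow R (Ideal.span {t}) n ⧸ p) = 1 := by
  have h := isBase_classV ht
  have htu := not_isUnit_t (t := t)
  let P := RPow R (Ideal.span {t}) n
  let k' := P ⧸ m
  let : Field k' := Ideal.Quotient.field m
  have hP := isAdicComplete_rpow (fg_of_isBase h) n
  have htm : algebraMap R P t ∈ m := by
    have := IsAdicComplete.le_jacobson_bot ((Ideal.span {t}).map (algebraMap R P))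
    exact Ideal.mem_sInf.1 (this (Ideal.mem_map_of_mem _ (Ideal.mem_span_singleton_self t)))
      ⟨bot_le, hm⟩
  have hfin : Module.Finite R k' := by
    have hD : TopFiniteType R (Ideal.span {t}) k' :=
      ⟨n, Ideal.Quotient.mkₐ R m, Ideal.Quotient.mk_surjective⟩
    exact finite_of_isMaximal_of_mem ht k' hD fun q hq _ => by
      have : q = ⊥ := (Ideal.eq_bot_or_top q).resolve_right hq.ne_top
      rw [this]; exact Ideal.bot_isMaximal
  choose hpol hmon hroot using fun i : Fin n =>
    Algebra.IsIntegral.isIntegral (R := R) (Ideal.Quotient.mk m (varX (Ideal.span {t}) i) : k')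
  obtain ⟨B, _, _, _, _, v, hv, hlift⟩ := exists_finite_free_lifting n hpol hmon
  obtain ⟨θ, hθ⟩ := hlift k' (fun i => Ideal.Quotient.mk m (varX (Ideal.span {t}) i)) hroot
  have hBc : IsAdicComplete ((Ideal.span {t}).map (algebraMap R B)) B :=
    (IsAdicComplete.map_algebraMap_iff _ _).2 (isAdicComplete_of_finite h (topFiniteType_self (t := t)) B)
  let ψ := rpowLift (Ideal.span {t}) (n := n) v
  have hψ : Function.Surjective ψ := by
    intro b
    have hb : b ∈ Algebra.adjoin R (Set.range v) := by rw [hv]; trivial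
    obtain ⟨a, ha⟩ := (Algebra.adjoin_le (S := ψ.range) (by
      rintro _ ⟨i, rfl⟩; exact ⟨varX _ i, rpowLift_varX _ _ i⟩)) hb
    exact ⟨a, ha⟩
  have hcomp : θ.comp ψ = Ideal.Quotient.mkₐ R m := by
    have : IsHausdorff ((Ideal.span {t}).map (algebraMap R k')) k' := by
      have h0 : (Ideal.span {t}).map (algebraMap R k') = ⊥ := by
        rw [Ideal.map_eq_bot_iff_le_ker, Ideal.span_singleton_le_iff_mem, RingHom.mem_ker,
          IsScalarTower.algebraMap_apply R P k']
        exact Ideal.Quotient.eq_zero_iff_mem.2 htm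
      rw [h0]; infer_instance
    refine rpow_algHom_ext (fg_of_isBase h) fun i => ?_
    rw [AlgHom.comp_apply, rpowLift_varX, hθ]
    rfl
  let q : Ideal B := RingHom.ker θ.toRingHom
  have hθs : Function.Surjective θ := fun y => by
    obtain ⟨x, rfl⟩ := Ideal.Quotient.mk_surjective y
    exact ⟨ψ x, DFunLike.congr_fun hcomp x⟩
  have hq : q.IsMaximal := RingHom.ker_isMaximal_of_surjective θ.toRingHom hθs
  have : Algebra.IsIntegral R B := inferInstance
  have hqR : (q.under R).IsMaximal := Ideal.isMaximal_comap_of_isIntegral_of_isMaximal (R := R) q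
  have : q.LiesOver (q.under R) := ⟨rfl⟩
  obtain ⟨p', hp'q, hp', hover⟩ := Ideal.exists_ideal_le_liesOver_of_le (p := (⊥ : Ideal R))
    (q := q.under R) q bot_le
  let p : Ideal P := p'.comap ψ.toRingHom
  refine ⟨p, Ideal.comap_isPrime _ _, fun x hx => ?_, fun htp => ?_, ?_⟩
  · have h1 : θ (ψ x) = 0 := hp'q hx
    rw [← AlgHom.comp_apply, hcomp] at h1
    exact Ideal.Quotient.eq_zero_iff_mem.1 h1
  · have h1 : ψ (algebraMap R P t) ∈ p' := htp
    rw [AlgHom.commutes] at h1
    have h2 : t ∈ p'.under R := h1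
    rw [← hover.over] at h2
    exact ht (Ideal.mem_bot.1 h2)
  · have e : (P ⧸ p) ≃+* B ⧸ p' := RingEquiv.ofBijective
      (Ideal.quotientMap p' ψ.toRingHom le_rfl)
      ⟨Ideal.quotientMap_injective, Ideal.quotientMap_surjective hψ⟩
    rw [ringKrullDim_eq_of_ringEquiv e]
    have : IsDomain (B ⧸ p') := Ideal.Quotient.isDomain p'
    refine ringKrullDim_eq_one_of_finite ht (B ⧸ p') ((injective_iff_map_eq_zero _).2 fun r hr => ?_)
    rw [IsScalarTower.algebraMap_apply R B (B ⧸ p'), Ideal.Quotient.algebraMap_eq,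
      Ideal.Quotient.eq_zero_iff_mem] at hr
    have h2 : r ∈ p'.under R := hr
    rw [← hover.over] at h2
    exact Ideal.mem_bot.1 h2

end Groth.Agent.Adic.CV
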