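import Groth.Agent.Adic.CV.Trunc

/-!
Topological finite presentation is detected on truncations.
-/

namespace Groth.Agent.Adic.CV

open AdicRing MvPolynomial

universe u v w

variable {R : Type u} [CommRing R] {I : Ideal R}

theorem finitePresentation_trunc_rpow (hI : I.FG) (n m : ℕ) :
    Algebra.FinitePresentation R (trunc (RPow R I n) I m) := by
  have : Algebra.FinitePresentation R
      (MvPolynomial (Fin n) R ⧸ (I.map (algebraMap R (MvPolynomial (Fin n) R))) ^ (m + 1)) :=
    Algebra.FinitePresentation.quotient (Ideal.FG.pow (hI.map _))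
  exact Algebra.FinitePresentation.equiv
    (quotCompl (C := MvPolynomial (Fin n) R) hI (m + 1)).symm

variable {A : Type u} [CommRing A] [Algebra R A]

/-- The map induced on truncations. -/
noncomputable def truncMap {B : Type u} [CommRing B] [Algebra R B] (φ : B →ₐ[R] A) (m : ℕ) :
    trunc B I m →ₐ[R] trunc A I m :=
  Ideal.quotientMapₐ _ φ (by
    rw [← Ideal.map_le_iff_le_comap]
    show Ideal.map φ.toRingHom _ ≤ _
    rw [Ideal.map_map]
    exact le_of_eq (congrArg (fun f => Ideal.map f _) φ.comp_algebraMap))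

theorem truncMap_mk {B : Type u} [CommRing B] [Algebra R B] (φ : B →ₐ[R] A) (m : ℕ) (x : B) :
    truncMap (I := I) φ m (Ideal.Quotient.mk _ x) = Ideal.Quotient.mk _ (φ x) := rfl

theorem ker_truncMap {B : Type u} [CommRing B] [Algebra R B] (φ : B →ₐ[R] A)
    (hφ : Function.Surjective φ) (m : ℕ) :
    RingHom.ker (truncMap (I := I) φ m).toRingHom =
      (RingHom.ker φ.toRingHom).map (Ideal.Quotient.mk ((I ^ (m + 1)).map (algebraMap R B))) := by
  apply le_antisymm
  · intro y hy
    obtain ⟨x, rfl⟩ := Ideal.Quotient.mk_surjective y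
    have h1 : φ x ∈ (I ^ (m + 1)).map (algebraMap R A) := Ideal.Quotient.eq_zero_iff_mem.1 hy
    rw [← φ.comp_algebraMap, ← Ideal.map_map] at h1
    obtain ⟨z, hz, hzx⟩ := (Ideal.mem_map_iff_of_surjective _ hφ).1 h1
    have : Ideal.Quotient.mk ((I ^ (m + 1)).map (algebraMap R B)) x =
        Ideal.Quotient.mk _ (x - z) := by
      rw [map_sub, Ideal.Quotient.eq_zero_iff_mem.2 hz, sub_zero]
    rw [this]
    refine Ideal.mem_map_of_mem _ ?_
    rw [RingHom.mem_ker, map_sub]
    exact sub_eq_zero.2 hzx.symm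
  · rw [Ideal.map_le_iff_le_comap]
    intro x hx
    show truncMap (I := I) φ m (Ideal.Quotient.mk _ x) = 0
    rw [truncMap_mk, show φ x = 0 from hx, map_zero]

theorem finitePresentation_trunc (hA : TopFinitePresentation R I A) (hI : I.FG) (m : ℕ) :
    Algebra.FinitePresentation R (trunc A I m) := by
  obtain ⟨n, φ, hφ, hK⟩ := hA
  have := finitePresentation_trunc_rpow hI n m
  refine Algebra.FinitePresentation.of_surjective (f := truncMap (I := I) φ m) (fun y => ?_) ?_
  · obtain ⟨x, rfl⟩ := Ideal.Quotient.mk_surjective y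
    obtain ⟨z, rfl⟩ := hφ x
    exact ⟨Ideal.Quotient.mk _ z, rfl⟩
  · rw [ker_truncMap φ hφ m]
    exact hK.map _

theorem topFinitePresentation_of_trunc (h : IsBase R I)
    [IsAdicComplete (I.map (algebraMap R A)) A]
    (hn : ∀ m, Algebra.FinitePresentation R (trunc A I m)) : TopFinitePresentation R I A := by
  obtain ⟨n, φ, hφ⟩ := topFiniteType_of_finiteType_trunc (A := A) (fg_of_isBase h) inferInstance
  rcases isBase_cases h with hN | ⟨_, _, _, t, ht, htu, rfl⟩
  · have := isNoetherianRing_rpow I n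
    exact ⟨n, φ, hφ, IsNoetherian.noetherian _⟩
  let P := RPow R (Ideal.span {t}) n
  let K : Ideal P := RingHom.ker φ.toRingHom
  obtain ⟨a, ha⟩ := exists_pow_saturation_le K
    (satFG_rpow ht htu n P _ (sat_saturation ⟨{t}, by simp⟩ K))
  have := finitePresentation_trunc_rpow (R := R) (I := Ideal.span {t}) ⟨{t}, by simp⟩ n a
  have := hn a
  have hker := Algebra.FinitePresentation.ker_fG_of_surjective (R := R)
    (truncMap (I := Ideal.span {t}) φ a) (fun y => by
      obtain ⟨x, rfl⟩ := Ideal.Quotient.mk_surjective y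
      obtain ⟨z, rfl⟩ := hφ x
      exact ⟨Ideal.Quotient.mk _ z, rfl⟩)
  rw [ker_truncMap φ hφ a] at hker
  obtain ⟨r, v, hv⟩ := Submodule.fg_iff_exists_fin_generating_family.1 hker
  have hv' : ∀ i, ∃ x ∈ K, Ideal.Quotient.mk ((Ideal.span {t} ^ (a + 1)).map (algebraMap R P)) x = v i :=
    fun i => (Ideal.mem_map_iff_of_surjective _ Ideal.Quotient.mk_surjective).1
      (hv ▸ Submodule.subset_span ⟨i, rfl⟩)
  choose g hgK hg using hv'
  refine ⟨n, φ, hφ, ?_⟩
  have hG : (Ideal.span (Set.range g)).FG := Submodule.fg_span (Set.finite_range g)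
  have := isAdicComplete_rpow_singleton t n
  have hle : K ≤ Ideal.span (Set.range g) := le_of_le_sup_smul (algebraMap R P t) hG fun x hx => by
    have h1 := Ideal.mem_map_of_mem (Ideal.Quotient.mk
      ((Ideal.span {t} ^ (a + 1)).map (algebraMap R P))) hx
    rw [← hv] at h1
    obtain ⟨c, hc⟩ := (Submodule.mem_span_range_iff_exists_fun _).1 h1
    choose c' hc' using fun i => Ideal.Quotient.mk_surjective (c i)
    have hd : x - ∑ i, c' i * g i ∈ (Ideal.span {t} ^ (a + 1)).map (algebraMap R P) := by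
      rw [← Ideal.Quotient.eq, ← hc]
      simp only [map_sum, map_mul, hg, smul_eq_mul]
      exact Finset.sum_congr rfl fun i _ => by rw [← hc']
    have emap : (Ideal.span {t} ^ (a + 1)).map (algebraMap R P) =
        Ideal.span {algebraMap R P (t ^ (a + 1))} := by
      simp only [Ideal.span_singleton_pow, Ideal.map_span, Set.image_singleton]
    obtain ⟨y, hy⟩ := Ideal.mem_span_singleton.1 (emap ▸ hd)
    have hsum : ∑ i, c' i * g i ∈ Ideal.span (Set.range g) :=
      Ideal.sum_mem _ fun i _ => Ideal.mul_mem_left _ _ (Ideal.subset_span ⟨i, rfl⟩)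
    have hyK : y ∈ saturation (Ideal.span {t}) K := ⟨a + 1, fun r hr => by
      rw [Ideal.span_singleton_pow, Ideal.mem_span_singleton'] at hr
      obtain ⟨b, rfl⟩ := hr
      rw [mul_smul, Algebra.smul_def, Algebra.smul_def (t ^ (a + 1)), ← hy]
      exact Ideal.mul_mem_left _ _ (sub_mem hx (Ideal.sum_mem _ fun i _ =>
        Ideal.mul_mem_left _ _ (hgK i)))⟩
    refine ⟨_, hsum, t ^ a • y, ha y hyK _ (Ideal.pow_mem_pow (Ideal.mem_span_singleton_self t) a), ?_⟩
    rw [algebraMap_smul, smul_smul, ← pow_succ', Algebra.smul_def, ← hy]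
    abel
  have hle' : Ideal.span (Set.range g) ≤ K := Ideal.span_le.2 (by rintro _ ⟨i, rfl⟩; exact hgK i)
  show K.FG
  rwa [le_antisymm hle hle']

theorem trunc_finitePresentation_iff (hI : I.FG) (m : ℕ) :
    (Ideal.quotientMap ((I ^ (m + 1)).map (algebraMap R A)) (algebraMap R A)
        Ideal.le_comap_map).FinitePresentation ↔
      Algebra.FinitePresentation R (trunc A I m) := by
  have hq : (Ideal.Quotient.mk (I ^ (m + 1))).FinitePresentation :=
    RingHom.FinitePresentation.of_surjective _ Ideal.Quotient.mk_surjective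
      (by rw [Ideal.mk_ker]; exact Ideal.FG.pow hI)
  have e : algebraMap R (trunc A I m) = (Ideal.quotientMap ((I ^ (m + 1)).map (algebraMap R A))
      (algebraMap R A) Ideal.le_comap_map).comp (Ideal.Quotient.mk (I ^ (m + 1))) := rfl
  rw [← RingHom.finitePresentation_algebraMap (A := R) (B := trunc A I m), e]
  exact ⟨fun h => h.comp hq, fun h => RingHom.FinitePresentation.of_comp_finiteType _ h
    (RingHom.FiniteType.of_surjective _ Ideal.Quotient.mk_surjective)⟩

end Groth.Agent.Adic.CV
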