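import Groth.Agent.Adic.CV.LocalDomain

/-!
The integral closure of an admissible local domain of dimension one is a valuation ring.
-/

namespace Groth.Agent.Adic.CV

open AdicRing Polynomial

universe u

/-- The `(u, u⁻¹)` lemma for a local subring closed under integral elements. -/
theorem mem_or_inv_mem_of_aeval_eq_zero {O L : Type*} [CommRing O] [IsLocalRing O] [Field L]
    [Algebra O L] (hcl : ∀ x : L, IsIntegral O x → x ∈ (algebraMap O L).range)
    (hinj : Function.Injective (algebraMap O L)) (x : L) (p : O[X]) (hp : aeval x p = 0)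
    (hu : ∃ i, IsUnit (p.coeff i)) :
    x ∈ (algebraMap O L).range ∨ x⁻¹ ∈ (algebraMap O L).range := by
  induction hd : p.natDegree using Nat.strong_induction_on generalizing p with
  | _ d ih =>
  subst hd
  by_cases hlead : IsUnit p.leadingCoeff
  · left
    refine hcl x ⟨C (↑hlead.unit⁻¹ : O) * p,
      Polynomial.monic_C_mul_of_mul_leadingCoeff_eq_one hlead.val_inv_mul, ?_⟩
    rw [← aeval_def, map_mul, hp, mul_zero]
  · obtain ⟨i, hi⟩ := hu
    have hid : i < p.natDegree := by
      refine lt_of_le_of_ne (le_natDegree_of_ne_zero hi.ne_zero) fun h => hlead ?_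
      rw [leadingCoeff, ← h]; exact hi
    have hb : IsIntegral O (p.leadingCoeff • x) := isIntegral_leadingCoeff_smul p x hp
    obtain ⟨b, hb⟩ := hcl _ hb
    by_cases hbu : IsUnit b
    · right
      refine ⟨p.leadingCoeff * (↑hbu.unit⁻¹ : O), ?_⟩
      have hne : algebraMap O L b ≠ 0 := (hbu.map (algebraMap O L)).ne_zero
      have hinv : algebraMap O L (↑hbu.unit⁻¹ : O) = (algebraMap O L b)⁻¹ :=
        eq_inv_of_mul_eq_one_left (by rw [← map_mul, hbu.val_inv_mul, map_one])
      rw [map_mul, hinv, hb, Algebra.smul_def]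
      have : algebraMap O L p.leadingCoeff ≠ 0 := by
        intro h0
        rw [hb, Algebra.smul_def, h0, zero_mul] at hne
        exact hne rfl
      field_simp
    · let q : O[X] := p.eraseLead + C b * X ^ (p.natDegree - 1)
      have hq : aeval x q = 0 := by
        have : aeval x (C b * X ^ (p.natDegree - 1)) =
            aeval x (C p.leadingCoeff * X ^ p.natDegree) := by
          simp only [map_mul, aeval_C, map_pow, aeval_X, hb, Algebra.smul_def]
          rw [mul_assoc, ← pow_succ', Nat.sub_add_cancel (by omega)]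
        rw [map_add, this, ← map_add, eraseLead_add_C_mul_X_pow, hp]
      have hqd : q.natDegree < p.natDegree := by
        refine lt_of_le_of_lt (natDegree_add_le _ _) (max_lt ?_ ?_)
        · exact lt_of_le_of_lt (eraseLead_natDegree_le p) (by omega)
        · exact lt_of_le_of_lt (natDegree_C_mul_X_pow_le _ _) (by omega)
      refine ih q.natDegree hqd q hq ⟨i, ?_⟩ rfl
      rw [coeff_add, eraseLead_coeff_of_ne _ (by omega), coeff_C_mul_X_pow]
      split_ifs
      · by_contra hnu
        exact IsLocalRing.nonunits_add (IsLocalRing.nonunits_add hnu (show -b ∈ nonunits O by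
          simpa using hbu)) (show (0 : O) ∈ nonunits O by simp) (by simpa using hi)
      · rwa [add_zero]

variable {R : Type u} [CommRing R] [IsDomain R] [ValuationRing R] [Ring.KrullDimLE 1 R] {t : R}

theorem exists_primitive_aeval_eq_zero {L : Type*} [CommRing L] [IsDomain L] [Algebra R L]
    (hinj : Function.Injective (algebraMap R L)) {x : L} (hx : IsAlgebraic R x) :
    ∃ p : R[X], aeval x p = 0 ∧ ∃ i, IsUnit (p.coeff i) := by
  classical
  obtain ⟨p, hp0, hp⟩ := hx
  obtain ⟨i, hi, hdvd⟩ := exists_content p.support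
    (Finset.nonempty_iff_ne_empty.2 (mt Polynomial.support_eq_empty.1 hp0)) p.coeff
  choose! f hf using hdvd
  have hci : p.coeff i ≠ 0 := Polynomial.mem_support_iff.1 hi
  let q : R[X] := ∑ j ∈ p.support, C (f j) * X ^ j
  have hpq : p = C (p.coeff i) * q := by
    conv_lhs => rw [p.as_sum_support_C_mul_X_pow]
    rw [Finset.mul_sum]
    refine Finset.sum_congr rfl fun j hj => ?_
    rw [← mul_assoc, ← C_mul, ← hf j hj]
  refine ⟨q, ?_, i, ?_⟩
  · rw [hpq, map_mul, aeval_C] at hp
    exact (mul_eq_zero.1 hp).resolve_left fun h => hci (hinj (h.trans (map_zero _).symm))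
  · have : p.coeff i = p.coeff i * q.coeff i := by
      conv_lhs => rw [hpq]
      rw [coeff_C_mul]
    exact IsUnit.of_mul_eq_one 1 (by rw [mul_one]; exact (mul_eq_left₀ hci).1 this.symm)

/-- The integral closure of a finite domain in its fraction field is a valuation ring. -/
theorem valuationRing_integralClosure (ht : t ≠ 0) [IsAdicComplete (Ideal.span {t}) R] (B : Type u)
    [CommRing B] [IsDomain B] [Algebra R B] [Module.Finite R B]
    (hinj : Function.Injective (algebraMap R B)) :
    ValuationRing (integralClosure B (FractionRing B)) := by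
  let L := FractionRing B
  let O := integralClosure B L
  have hRL : Function.Injective (algebraMap R L) := by
    rw [IsScalarTower.algebraMap_eq R B L]
    exact (IsFractionRing.injective B L).comp hinj
  have : Algebra.IsIntegral R O :=
    have : Algebra.IsIntegral B O := integralClosure.AlgebraIsIntegral
    Algebra.IsIntegral.trans B
  have hloc : IsLocalRing O := IsLocalRing.of_nonunits_add fun a b ha hb => by
    intro hu
    obtain ⟨c, hc⟩ := hu.exists_right_inv
    let C' := Algebra.adjoin R ({a, b, c} : Set O)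
    have : Module.Finite R C' := Module.Finite.of_fg
      (fg_adjoin_of_finite (Set.toFinite _) fun x _ => Algebra.IsIntegral.isIntegral x)
    have := isLocalRing_of_finite ht C'
    let a' : C' := ⟨a, Algebra.subset_adjoin (by simp)⟩
    let b' : C' := ⟨b, Algebra.subset_adjoin (by simp)⟩
    have hu' : IsUnit (a' + b') :=
      IsUnit.of_mul_eq_one ⟨c, Algebra.subset_adjoin (by simp)⟩ (Subtype.ext hc)
    rcases IsLocalRing.isUnit_or_isUnit_of_isUnit_add hu' with h | h
    · exact ha (h.map C'.val)
    · exact hb (h.map C'.val)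
  refine { toPreValuationRing := ⟨fun a b => ?_⟩ }
  by_cases ha : a = 0
  · exact ⟨0, Or.inr (by rw [ha, mul_zero])⟩
  by_cases hb : b = 0
  · exact ⟨0, Or.inl (by rw [hb, mul_zero])⟩
  have halg : IsAlgebraic R ((b : L) / a) := by
    have hA : Algebra.IsAlgebraic R B :=
      Algebra.IsIntegral.isAlgebraic (R := R) (A := B)
    have : FaithfulSMul R B := (faithfulSMul_iff_algebraMap_injective R B).2 hinj
    exact IsFractionRing.isAlgebraic_iff' R B L |>.1 hA |>.isAlgebraic _
  obtain ⟨p, hp, i, hi⟩ := exists_primitive_aeval_eq_zero hRL halg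
  have := mem_or_inv_mem_of_aeval_eq_zero (O := O) (L := L)
    (fun x hx => ⟨⟨x, isIntegral_trans (R := B) x hx⟩, rfl⟩) Subtype.val_injective
    ((b : L) / a) (p.map (algebraMap R O)) (by rw [aeval_map_algebraMap]; exact hp)
    ⟨i, by rw [coeff_map]; exact hi.map _⟩
  rcases this with ⟨c, hc⟩ | ⟨c, hc⟩
  · refine ⟨c, Or.inl (Subtype.ext ?_)⟩
    show (a : L) * (c : L) = b
    rw [show (c : L) = (b : L) / a from hc, mul_div_cancel₀ _ (fun h => ha (Subtype.ext h))]
  · refine ⟨c, Or.inr (Subtype.ext ?_)⟩
    show (b : L) * (c : L) = a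
    rw [show (c : L) = ((b : L) / a)⁻¹ from hc, inv_div,
      mul_div_cancel₀ _ (fun h => hb (Subtype.ext h))]

/-- An admissible local domain of dimension one is finite over `R`. -/
theorem finite_of_local_dim_one (ht : t ≠ 0) [IsAdicComplete (Ideal.span {t}) R] (B : Type u)
    [CommRing B] [Algebra R B] [IsDomain B] [IsLocalRing B]
    (hB : Admissible R (Ideal.span {t}) B) (hdim : ringKrullDim B = 1) : Module.Finite R B := by
  obtain ⟨⟨n, φ, hφ, -⟩, hT⟩ := hB
  have := krullDimLE_one_of_ringKrullDim_eq hdim
  refine finite_of_isMaximal_of_mem ht B ⟨n, φ, hφ⟩ fun q hq htq => ?_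
  refine Ideal.IsPrime.isMaximal_of_ne_bot hq fun h0 => ?_
  rw [h0, Ideal.mem_bot] at htq
  exact algebraMap_ne_zero_of_noPowTorsion not_isUnit_t hT ht htq

theorem injective_algebraMap_of_admissible [IsAdicComplete (Ideal.span {t}) R] (B : Type u)
    [CommRing B] [Algebra R B] [Nontrivial B] (hT : NoPowTorsion (Ideal.span {t}) B) :
    Function.Injective (algebraMap R B) := by
  rw [injective_iff_map_eq_zero]
  intro r hr
  by_contra h
  exact algebraMap_ne_zero_of_noPowTorsion not_isUnit_t hT h hr

end Groth.Agent.Adic.CV
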